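import Cfsg.Agent.Lib.J4Type.Ten.Data

/-!
The tables of the unitriangular group in the stabiliser of the base octad, checked by kernel evaluation.
-/

set_option autoImplicit false
set_option maxRecDepth 100000
set_option Elab.async false

namespace CfsgLib.J4Type.Ten

theorem u_trans : ((List.range 64).all fun j => (List.range 16).all fun t =>
    cmp (uList.getD j []) (tList.getD t []) == cmp (tList.getD (uLin j t) []) (uList.getD j []) &&
      Nat.blt (uLin j t) 16) = true := by
  decide +kernel

theorem u_mul : ((List.range 64).all fun j => (List.range 64).all fun k => Nat.blt (uMul j k) 64 &&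
    cmp (uList.getD j []) (uList.getD k []) == uList.getD (uMul j k) []) = true := by
  decide +kernel

theorem subs_closed : subsU.contains 1 = true ∧ (subsU.all fun E => (List.range 64).all fun i =>
    Nat.testBit E i || !(Nat.beq (uMul i i) 0) || !((members E).all fun j => Nat.beq (uMul i j) (uMul j i)) ||
      subsU.contains ((members E).foldl (fun acc j => Nat.lor acc (2 ^ uMul i j)) E)) = true := by
  decide +kernel

end CfsgLib.J4Type.Ten
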