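import Cfsg.Agent.Lib.J4Type.Ten.Sub
import Cfsg.Agent.Lib.Golay.OctadStabilizer
import Cfsg.Agent.Lib.J4Type.Ten.Tables

/-!
A Sylow 2-subgroup of the stabiliser of the base octad, and the elementary abelian subgroups of it with
large product of their order and the number of codes they fix: only the group of translations.
-/

set_option autoImplicit false
set_option linter.unusedSectionVars false
set_option maxRecDepth 20000

namespace CfsgLib.J4Type.Ten

open scoped Pointwise
open CfsgLib.Golay (pt idx toList genOK comp baseOctad octH)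

theorem mem_octH_of_pmap {σ : ↥Cfsg.M24}
    (h : CfsgLib.Golay.pmap (toList (σ : Equiv.Perm Cfsg.GolayPt)) 8536111 = 8536111) : σ ∈ octH := by
  show (σ : Equiv.Perm Cfsg.GolayPt) • baseOctad = baseOctad
  rw [baseOctad, CfsgLib.Golay.smul_decS _ (by norm_num), h]

theorem natCard_octH : Nat.card octH = 322560 :=
  CfsgLib.Golay.natCard_stabilizer_octad CfsgLib.Golay.baseOctad_mem

theorem u_row {j : ℕ} (hj : j < 64) :
    CfsgLib.Golay.pmap (uList.getD j []) 8536111 = 8536111 ∧ (uList.getD j []).getD 4 0 = 4 ∧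
      uKey (uList.getD j []) = j ∧
      (∀ t, t < 16 → comp (uList.getD j []) (tList.getD t []) = comp (tList.getD (uLin j t) []) (uList.getD j []) ∧
        uLin j t < 16) ∧
      ∀ k, k < 64 → uMul j k < 64 ∧ comp (uList.getD j []) (uList.getD k []) = uList.getD (uMul j k) [] := by
  have h := List.all_eq_true.1 u_check.1 j (List.mem_range.2 hj)
  simp only [Bool.and_eq_true] at h
  obtain ⟨⟨⟨-, h1⟩, h2⟩, h3⟩ := h
  refine ⟨Nat.eq_of_beq_eq_true h1, Nat.eq_of_beq_eq_true h2, Nat.eq_of_beq_eq_true h3,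
    fun t ht => ?_, fun k hk => ?_⟩
  · have e := List.all_eq_true.1 (List.all_eq_true.1 u_trans j (List.mem_range.2 hj)) t (List.mem_range.2 ht)
    simp only [Bool.and_eq_true] at e
    exact ⟨eq_of_beq e.1, Nat.le_of_ble_eq_true e.2⟩
  · have e := List.all_eq_true.1 (List.all_eq_true.1 u_mul j (List.mem_range.2 hj)) k (List.mem_range.2 hk)
    simp only [Bool.and_eq_true] at e
    exact ⟨Nat.le_of_ble_eq_true e.1, eq_of_beq e.2⟩

theorem toList_ul {j : ℕ} (hj : j < 64) : toList (ul j : Equiv.Perm Cfsg.GolayPt) = uList.getD j [] :=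
  toList_ofList (genOK_uList hj)

theorem ul_mem_octH {j : ℕ} (hj : j < 64) : ul j ∈ octH :=
  mem_octH_of_pmap (by rw [toList_ul hj]; exact (u_row hj).1)

theorem ul_zero : ul 0 = 1 := by
  refine ext_list ?_
  rw [toList_one', toList_ul (by norm_num)]
  exact eq_of_beq u_check.2

theorem ul_mul {j k : ℕ} (hj : j < 64) (hk : k < 64) : ul j * ul k = ul (uMul j k) := by
  refine ext_list ?_
  rw [toList_mul', toList_ul hj, toList_ul hk, toList_ul ((u_row hj).2.2.2.2 k hk).1]
  exact ((u_row hj).2.2.2.2 k hk).2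

theorem ul_tl {j t : ℕ} (hj : j < 64) (ht : t < 16) : ul j * tl t = tl (uLin j t) * ul j := by
  refine ext_list ?_
  rw [toList_mul', toList_mul', toList_ul hj, tl, tl, toList_ofList (genOK_tList ht),
    toList_ofList (genOK_tList ((u_row hj).2.2.2.1 t ht).2)]
  exact ((u_row hj).2.2.2.1 t ht).1

theorem form_two {t s j k : ℕ} (hs : s < 16) (hj : j < 64) (hk : k < 64) (ht : t < 16) :
    tl t * ul j * (tl s * ul k) = tl (Nat.xor t (uLin j s)) * ul (uMul j k) := by
  rw [← tl_mul ht ((u_row hj).2.2.2.1 s hs).2, ← ul_mul hj hk]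
  calc tl t * ul j * (tl s * ul k) = tl t * (ul j * tl s) * ul k := by group
    _ = tl t * (tl (uLin j s) * ul j) * ul k := by rw [ul_tl hj hs]
    _ = _ := by group

theorem form_two_inj {t s j k : ℕ} (ht : t < 16) (hs : s < 16) (hj : j < 64) (hk : k < 64)
    (h : tl t * ul j = tl s * ul k) : t = s ∧ j = k := by
  have four : ∀ j, j < 64 → (ul j : Equiv.Perm Cfsg.GolayPt) (pn 4) = pn 4 := fun j hj => by
    refine CfsgLib.Golay.idx_injective (Fin.ext ?_)
    rw [ul, ofList_apply (genOK_uList hj) 4 (by norm_num), (u_row hj).2.1, idx_pn (by norm_num)]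
  have ev : ∀ t j, j < 64 → tIdx (tl t * ul j) = tIdx (tl t) := fun t j hj => by
    show affIdx.getD (idx ((tl t : Equiv.Perm Cfsg.GolayPt) ((ul j : Equiv.Perm Cfsg.GolayPt) (pn 4)))).val 0 = _
    rw [four j hj]; rfl
  have e : t = s := by rw [← tIdx_tl ht, ← ev t j hj, h, ev s k hk, tIdx_tl hs]
  subst e
  refine ⟨rfl, ?_⟩
  have e' := mul_left_cancel h
  rw [← (u_row hj).2.2.1, ← toList_ul hj, e', toList_ul hk, (u_row hk).2.2.1]

/-- The subgroup of order `1024` in the stabiliser of the base octad. -/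
noncomputable def P₀ : Subgroup ↥Cfsg.M24 where
  carrier := {σ | ∃ t j, t < 16 ∧ j < 64 ∧ σ = tl t * ul j}
  one_mem' := ⟨0, 0, by norm_num, by norm_num, by rw [tl_zero, ul_zero, one_mul]⟩
  mul_mem' := by
    rintro _ _ ⟨t, j, ht, hj, rfl⟩ ⟨s, k, hs, hk, rfl⟩
    exact ⟨_, _, Nat.xor_lt_two_pow (n := 4) ht ((u_row hj).2.2.2.1 s hs).2, ((u_row hj).2.2.2.2 k hk).1,
      form_two hs hj hk ht⟩
  inv_mem' := by
    intro σ hσ
    have hpow : ∀ n : ℕ, ∃ t j, t < 16 ∧ j < 64 ∧ σ ^ n = tl t * ul j := by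
      intro n
      induction n with
      | zero => exact ⟨0, 0, by norm_num, by norm_num, by rw [pow_zero, tl_zero, ul_zero, one_mul]⟩
      | succ n ih =>
        obtain ⟨t, j, ht, hj, e⟩ := ih
        obtain ⟨s, k, hs, hk, e'⟩ := hσ
        exact ⟨_, _, Nat.xor_lt_two_pow (n := 4) ht ((u_row hj).2.2.2.1 s hs).2, ((u_row hj).2.2.2.2 k hk).1,
          (pow_succ σ n).trans (e ▸ e' ▸ form_two hs hj hk ht)⟩
    obtain ⟨t, j, ht, hj, e⟩ := hpow (orderOf σ - 1)
    refine ⟨t, j, ht, hj, ?_⟩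
    rw [← e, inv_eq_iff_mul_eq_one, ← pow_succ', Nat.sub_add_cancel (orderOf_pos σ), pow_orderOf_eq_one]

theorem card_P₀ : Nat.card P₀ = 1024 := by
  let f : Fin 16 × Fin 64 → P₀ := fun p => ⟨tl p.1.val * ul p.2.val, _, _, p.1.isLt, p.2.isLt, rfl⟩
  have hf : Function.Bijective f := by
    refine ⟨fun p q e => ?_, fun ⟨σ, t, j, ht, hj, e⟩ => ⟨(⟨t, ht⟩, ⟨j, hj⟩), Subtype.ext e.symm⟩⟩
    obtain ⟨h1, h2⟩ := form_two_inj p.1.isLt q.1.isLt p.2.isLt q.2.isLt (congrArg Subtype.val e)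
    exact Prod.ext (Fin.ext h1) (Fin.ext h2)
  rw [← Nat.card_eq_of_bijective f hf, Nat.card_prod, Nat.card_fin, Nat.card_fin]

theorem P₀_le : P₀ ≤ octH := by
  rintro _ ⟨t, j, ht, hj, rfl⟩
  exact mul_mem (tl_mem_octH ht) (ul_mem_octH hj)

/-- A 2-subgroup of the octad stabiliser is conjugate in it into `P₀`. -/
theorem exists_conj_P₀ {B : Subgroup ↥Cfsg.M24} (hB : B ≤ octH) (hp : IsPGroup 2 B) :
    ∃ h ∈ octH, ∀ b ∈ B, h * b * h⁻¹ ∈ P₀ := by
  have : Fact (Nat.Prime 2) := ⟨Nat.prime_two⟩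
  set P := P₀.subgroupOf octH
  have hc : Nat.card P = 1024 := (Nat.card_congr (Subgroup.subgroupOfEquivOfLe P₀_le).toEquiv).trans card_P₀
  have hi : ¬ 2 ∣ P.index := by
    have h := P.card_mul_index
    rw [hc, natCard_octH] at h
    omega
  let S : Sylow 2 octH := (IsPGroup.of_card (n := 10) hc).toSylow hi
  have hBp : IsPGroup 2 (B.subgroupOf octH) :=
    hp.of_equiv (Subgroup.subgroupOfEquivOfLe hB).symm
  obtain ⟨T, hT⟩ := hBp.exists_le_sylow
  obtain ⟨g, hg⟩ := MulAction.exists_smul_eq octH T S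
  refine ⟨g, g.2, fun b hb => ?_⟩
  have h1 : g * (⟨b, hB hb⟩ : ↥octH) * g⁻¹ ∈ (S : Subgroup octH) := by
    rw [← hg, Sylow.coe_subgroup_smul]
    exact ⟨⟨b, hB hb⟩, hT hb, rfl⟩
  exact h1

theorem foldl_lor {α : Type*} (f : α → ℕ) : ∀ (l : List α) (E i : ℕ),
    (l.foldl (fun acc j => Nat.lor acc (2 ^ f j)) E).testBit i = true ↔ E.testBit i = true ∨ ∃ j ∈ l, f j = i
  | [], E, i => by simp
  | a :: l, E, i => by
    rw [List.foldl_cons, foldl_lor f l]
    show (E ||| 2 ^ f a).testBit i = true ∨ _ ↔ _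
    rw [Nat.testBit_lor, Nat.testBit_two_pow]
    simp [or_assoc]

theorem mem_members {E j : ℕ} : j ∈ members E ↔ j < 64 ∧ E.testBit j = true := by
  simp [members]

variable {B : Subgroup ↥Cfsg.M24}

/-- The linear parts of an elementary abelian subgroup of `P₀` form one of the listed sets. -/
theorem exists_index_set (hsq : ∀ b ∈ B, b * b = 1) (hcm : ∀ a ∈ B, ∀ b ∈ B, a * b = b * a) :
    ∃ M, M ∈ subsU ∧ ∀ j, j < 64 → (M.testBit j = true ↔ ∃ t, t < 16 ∧ tl t * ul j ∈ B) := by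
  classical
  let J : Finset ℕ := (Finset.range 64).filter fun j => ∃ t, t < 16 ∧ tl t * ul j ∈ B
  have hJ : ∀ {j}, j ∈ J ↔ j < 64 ∧ ∃ t, t < 16 ∧ tl t * ul j ∈ B := fun {j} => by simp [J]
  have h0 : 0 ∈ J := hJ.2 ⟨by norm_num, 0, by norm_num, by rw [tl_zero, ul_zero, one_mul]; exact B.one_mem⟩
  have hmul : ∀ {i j}, i ∈ J → j ∈ J → uMul i j ∈ J ∧ uMul i j = uMul j i ∧ uMul i i = 0 := by
    intro i j hi hj
    obtain ⟨hi', t, ht, hti⟩ := hJ.1 hi
    obtain ⟨hj', s, hs, hsj⟩ := hJ.1 hj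
    have h1 := B.mul_mem hti hsj
    rw [form_two hs hi' hj' ht] at h1
    refine ⟨hJ.2 ⟨((u_row hi').2.2.2.2 j hj').1, _,
      Nat.xor_lt_two_pow (n := 4) ht ((u_row hi').2.2.2.1 s hs).2, h1⟩, ?_, ?_⟩
    · have h2 := hcm _ hti _ hsj
      rw [form_two hs hi' hj' ht, form_two ht hj' hi' hs] at h2
      exact (form_two_inj (Nat.xor_lt_two_pow (n := 4) ht ((u_row hi').2.2.2.1 s hs).2)
        (Nat.xor_lt_two_pow (n := 4) hs ((u_row hj').2.2.2.1 t ht).2) ((u_row hi').2.2.2.2 j hj').1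
        ((u_row hj').2.2.2.2 i hi').1 h2).2
    · have h2 := hsq _ hti
      rw [form_two ht hi' hi' ht] at h2
      exact (form_two_inj (Nat.xor_lt_two_pow (n := 4) ht ((u_row hi').2.2.2.1 t ht).2)
        (by norm_num : 0 < 16) ((u_row hi').2.2.2.2 i hi').1 (by norm_num : 0 < 64)
        (h2.trans (by rw [tl_zero, ul_zero, one_mul]))).2
  have hgrow : ∀ S : Finset ℕ, S ⊆ J → ∃ M, M ∈ subsU ∧ M.testBit 0 = true ∧
      (∀ j, j < 64 → M.testBit j = true → j ∈ J) ∧ ∀ j ∈ S, M.testBit j = true := by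
    intro S
    induction S using Finset.induction_on with
    | empty =>
      intro _
      refine ⟨1, List.contains_iff_mem.1 subs_closed.1, rfl, fun j _ hb => ?_, fun j hj => absurd hj (by simp)⟩
      rw [show (1 : ℕ) = 2 ^ 0 from rfl, Nat.testBit_two_pow, decide_eq_true_eq] at hb
      exact hb ▸ h0
    | @insert i S hi ih =>
      intro hsub
      rw [Finset.insert_subset_iff] at hsub
      obtain ⟨M, hM, hM0, hMJ, hMS⟩ := ih hsub.2
      by_cases hb : M.testBit i = true
      · exact ⟨M, hM, hM0, hMJ, fun j hj => (Finset.mem_insert.1 hj).elim (fun e => e ▸ hb) (hMS j)⟩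
      have hi64 := (hJ.1 hsub.1).1
      have h := List.all_eq_true.1 (List.all_eq_true.1 subs_closed.2 M hM) i (List.mem_range.2 hi64)
      have e2 : ((members M).all fun j => Nat.beq (uMul i j) (uMul j i)) = true :=
        List.all_eq_true.2 fun j hj => by
          obtain ⟨hj64, hjb⟩ := mem_members.1 hj
          rw [(hmul hsub.1 (hMJ j hj64 hjb)).2.1, Nat.beq_refl]
      rw [Bool.eq_false_iff.2 hb, (hmul hsub.1 hsub.1).2.2, e2, Nat.beq_refl] at h
      simp only [Bool.not_true, Bool.or_false, Bool.false_or] at h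
      refine ⟨_, List.contains_iff_mem.1 h, (foldl_lor _ _ _ _).2 (Or.inl hM0), fun j hj hb' => ?_, fun j hj => ?_⟩
      · rcases (foldl_lor _ _ _ _).1 hb' with h' | ⟨k, hk, rfl⟩
        · exact hMJ j hj h'
        · obtain ⟨hk64, hkb⟩ := mem_members.1 hk
          exact (hmul hsub.1 (hMJ k hk64 hkb)).1
      · rcases Finset.mem_insert.1 hj with rfl | hj
        · refine (foldl_lor _ _ _ _).2 (Or.inr ⟨0, mem_members.2 ⟨by norm_num, hM0⟩, ?_⟩)
          obtain ⟨hlt, he⟩ := (u_row hi64).2.2.2.2 0 (by norm_num)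
          have e3 := ul_mul hi64 (show 0 < 64 by norm_num)
          rw [ul_zero, mul_one] at e3
          exact ((form_two_inj (t := 0) (s := 0) (by norm_num) (by norm_num) hi64 hlt (by rw [← e3])).2).symm
        · exact (foldl_lor _ _ _ _).2 (Or.inl (hMS j hj))
  obtain ⟨M, hM, -, hMJ, hJM⟩ := hgrow J subset_rfl
  exact ⟨M, hM, fun j hj => ⟨fun h => (hJ.1 (hMJ j hj h)).2, fun h => hJM j (hJ.2 ⟨hj, h⟩)⟩⟩

universe u

variable {G : Type u} [Group G] [Finite G] {z : G} {V : Subgroup G}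

open Classical in
/-- An elementary abelian subgroup of `P₀` with a translation and a large product of its order and the number
of codes it fixes consists of the translations. -/
theorem eq_translations (C : Co z V) (hP : B ≤ P₀) (hsq : ∀ b ∈ B, b * b = 1)
    (hcm : ∀ a ∈ B, ∀ b ∈ B, a * b = b * a) {t₀ : ℕ} (ht₀ : t₀ < 16) (ht0 : t₀ ≠ 0) (htB : tl t₀ ∈ B)
    (hbig : 1024 ≤ Nat.card B * ((Finset.range 2048).filter fun v => ∀ b ∈ B, act b v = v).card) :
    (∀ σ ∈ B, ∃ t, t < 16 ∧ σ = tl t) ∧ ∀ t, t < 16 → tl t ∈ B := by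
  obtain ⟨M, hM, hMj⟩ := exists_index_set hsq hcm
  set R : Finset ℕ := (Finset.range 16).filter fun t => tl t ∈ B with hR
  set J : Finset ℕ := (Finset.range 64).filter fun j => M.testBit j = true with hJ
  set F : Finset ℕ := (Finset.range 2048).filter fun v => ∀ b ∈ B, act b v = v with hF
  have hmR : ∀ {t}, t ∈ R ↔ t < 16 ∧ tl t ∈ B := fun {t} => by simp [R]
  have hmJ : ∀ {j}, j ∈ J ↔ j < 64 ∧ M.testBit j = true := fun {j} => by simp [J]
  have hmF : ∀ {v}, v ∈ F ↔ v < 2048 ∧ ∀ b ∈ B, act b v = v := fun {v} => by simp [F]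
  -- the order
  choose ch hch hchB using fun (j : J) => (hMj j.1 (hmJ.1 j.2).1).1 (hmJ.1 j.2).2
  have hB : Nat.card B ≤ J.card * R.card := by
    have hf : ∀ b : B, ∃ p : J × R, (b : ↥Cfsg.M24) = tl (Nat.xor p.2.1 (ch p.1)) * ul p.1.1 := by
      rintro ⟨b, hb⟩
      obtain ⟨t, j, ht, hj, rfl⟩ := hP hb
      have hjJ : j ∈ J := hmJ.2 ⟨hj, (hMj j hj).2 ⟨t, ht, hb⟩⟩
      have h1 := B.mul_mem hb (hchB ⟨j, hjJ⟩)
      have h2 := hsq _ (hchB ⟨j, hjJ⟩)
      set s := ch ⟨j, hjJ⟩
      have hs : s < 16 := hch _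
      rw [form_two hs hj hj ht] at h1
      rw [form_two hs hj hj hs] at h2
      have h3 := form_two_inj (Nat.xor_lt_two_pow (n := 4) hs ((u_row hj).2.2.2.1 s hs).2)
        (by norm_num : 0 < 16) ((u_row hj).2.2.2.2 j hj).1 (by norm_num : 0 < 64)
        (h2.trans (by rw [tl_zero, ul_zero, one_mul]))
      have e : uLin j s = s := (Nat.xor_eq_zero_iff.1 h3.1).symm
      rw [e, h3.2, ul_zero, mul_one] at h1
      refine ⟨(⟨j, hjJ⟩, ⟨Nat.xor t s, hmR.2 ⟨Nat.xor_lt_two_pow (n := 4) ht hs, h1⟩⟩), ?_⟩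
      show tl t * ul j = tl ((t ^^^ s) ^^^ s) * ul j
      rw [Nat.xor_assoc, Nat.xor_self, Nat.xor_zero]
    choose f hf using hf
    have hinj : Function.Injective f := fun a b e => Subtype.ext (by rw [hf a, hf b, e])
    calc Nat.card B ≤ Nat.card (J × R) := Nat.card_le_card_of_injective f hinj
      _ = J.card * R.card := by simp
  -- the translations in the subgroup
  have hRT : R.card ≤ fixT M := by
    rw [fixT, List.countP_eq_length_filter, ← List.toFinset_card_of_nodup (List.nodup_range.filter _)]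
    refine Finset.card_le_card fun t ht => ?_
    obtain ⟨ht, htm⟩ := hmR.1 ht
    rw [List.mem_toFinset, List.mem_filter, List.mem_range]
    refine ⟨ht, List.all_eq_true.2 fun j hj => ?_⟩
    obtain ⟨hj, hb⟩ := mem_members.1 hj
    obtain ⟨s, hs, hsB⟩ := (hMj j hj).1 hb
    have h := hcm _ htm _ hsB
    have e : tl t * ul 0 * (tl s * ul j) = tl s * ul j * (tl t * ul 0) := by rw [ul_zero, mul_one, h]
    rw [form_two hs (by norm_num) hj ht, form_two ht hj (by norm_num) hs] at e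
    have e' := (form_two_inj (Nat.xor_lt_two_pow (n := 4) ht ((u_row (by norm_num)).2.2.2.1 s hs).2)
      (Nat.xor_lt_two_pow (n := 4) hs ((u_row hj).2.2.2.1 t ht).2) ((u_row (by norm_num)).2.2.2.2 j hj).1
      ((u_row hj).2.2.2.2 0 (by norm_num)).1 e).1
    have e0 : uLin 0 s = s := by
      have h := ul_tl (show 0 < 64 by norm_num) hs
      rw [ul_zero, one_mul, mul_one] at h
      exact (tl_inj hs ((u_row (by norm_num)).2.2.2.1 s hs).2 h).symm
    rw [e0] at e'
    have e'' : s ^^^ t = s ^^^ uLin j t := (Nat.xor_comm s t).trans e'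
    rw [← Nat.xor_right_injective e'', Nat.beq_refl]
  -- the low fixed codes
  have hlow : (F.filter fun v => v < 64).card ≤ fixW M := by
    rw [fixW, List.countP_eq_length_filter, ← List.toFinset_card_of_nodup (List.nodup_range.filter _)]
    refine Finset.card_le_card fun v hv => ?_
    obtain ⟨hvF, hv64⟩ := Finset.mem_filter.1 hv
    rw [List.mem_toFinset, List.mem_filter, List.mem_range]
    refine ⟨hv64, List.all_eq_true.2 fun j hj => ?_⟩
    obtain ⟨hj, hb⟩ := mem_members.1 hj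
    obtain ⟨s, hs, hsB⟩ := (hMj j hj).1 hb
    have h := (hmF.1 hvF).2 _ hsB
    rw [C.act_mul _ _ (by omega)] at h
    have h' : act (tl s) (act (ul j) v) = act (tl s) v := h.trans (Co.low_fix hs hv64).symm
    have e := C.act_inj _ (act_lt _ _) (by omega) h'
    rw [act, toList_ul hj] at e
    rw [e, Nat.beq_refl]
  have h64 : (F.filter fun v => v < 64).card ≤ 64 :=
    (Finset.card_le_card fun v hv => Finset.mem_range.2 (Finset.mem_filter.1 hv).2).trans (Finset.card_range 64).le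
  have hFfix : ∀ v ∈ F, ∀ t ∈ R, t = 0 ∨ v < 64 ∨ v / 64 = t := fun v hv t ht => by
    obtain ⟨hv', h⟩ := hmF.1 hv
    obtain ⟨ht, htm⟩ := hmR.1 ht
    have e := h _ htm
    rwa [act_tl ht, tAct_fix ht hv'] at e
  have h1024 : 1024 ≤ J.card * R.card * F.card := hbig.trans (Nat.mul_le_mul_right _ hB)
  have hlen : (members M).length = J.card := by
    rw [members, ← List.toFinset_card_of_nodup (List.nodup_range.filter _)]
    exact congrArg Finset.card (Finset.ext fun j => by simp [J])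
  have hbd := List.all_eq_true.1 subs_bound M hM
  rw [Bool.or_eq_true, Bool.and_eq_true, Nat.blt_eq, Nat.blt_eq, hlen] at hbd
  have ht0R : t₀ ∈ R := hmR.2 ⟨ht₀, htB⟩
  have hJ1 : M = 1 → J.card ≤ 1 := fun e => by
    refine Finset.card_le_one.2 fun a ha b hb => ?_
    have h1 := (hmJ.1 ha).2
    have h2 := (hmJ.1 hb).2
    rw [e, show (1 : ℕ) = 2 ^ 0 from rfl, Nat.testBit_two_pow, decide_eq_true_eq] at h1 h2
    omega
  by_cases htwo : ∃ t ∈ R, t ≠ 0 ∧ t ≠ t₀
  · obtain ⟨t, ht, htn, htne⟩ := htwo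
    have hF64 : F.card ≤ (F.filter fun v => v < 64).card := Finset.card_le_card fun v hv => by
      refine Finset.mem_filter.2 ⟨hv, ?_⟩
      have := hFfix v hv t ht
      have := hFfix v hv t₀ ht0R
      omega
    rcases hbd with hM1 | ⟨hb1, -⟩
    · have hM1' := Nat.eq_of_beq_eq_true hM1
      have hJ1' := hJ1 hM1'
      have hR16 : R.card ≤ 16 := (Finset.card_filter_le _ _).trans (Finset.card_range 16).le
      have hR : R = Finset.range 16 := by
        refine Finset.eq_of_subset_of_card_le (Finset.filter_subset _ _) ?_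
        rw [Finset.card_range]
        nlinarith
      have hall : ∀ t, t < 16 → tl t ∈ B := fun t ht =>
        (hmR.1 (show t ∈ R from hR ▸ Finset.mem_range.2 ht)).2
      refine ⟨fun σ hσ => ?_, hall⟩
      obtain ⟨t, j, ht, hj, rfl⟩ := hP hσ
      have hb := (hMj j hj).2 ⟨t, ht, hσ⟩
      rw [hM1', show (1 : ℕ) = 2 ^ 0 from rfl, Nat.testBit_two_pow, decide_eq_true_eq] at hb
      subst hb
      exact ⟨t, ht, by rw [ul_zero, mul_one]⟩
    · exfalso
      have : J.card * R.card * F.card ≤ J.card * fixT M * fixW M :=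
        Nat.mul_le_mul (Nat.mul_le_mul le_rfl hRT) (hF64.trans hlow)
      omega
  · push Not at htwo
    exfalso
    have hR2 : R.card ≤ 2 := (Finset.card_le_card (t := {0, t₀}) fun t ht => by
      rw [Finset.mem_insert, Finset.mem_singleton]
      by_cases e : t = 0
      · exact Or.inl e
      · exact Or.inr (htwo t ht e)).trans Finset.card_le_two
    have hhigh : (F.filter fun v => ¬ v < 64).card ≤ (F.filter fun v => v < 64).card := by
      rcases (F.filter fun v => ¬ v < 64).eq_empty_or_nonempty with e | ⟨w, hw⟩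
      · rw [e]; simp
      obtain ⟨hwF, hw64⟩ := Finset.mem_filter.1 hw
      refine Finset.card_le_card_of_injOn (fun v => Nat.xor v w) (fun v hv => ?_)
        (fun a _ b _ e => Nat.xor_left_injective e)
      obtain ⟨hvF, hv64⟩ := Finset.mem_filter.1 hv
      refine Finset.mem_filter.2 ⟨hmF.2 ⟨Nat.xor_lt_two_pow (n := 11) (hmF.1 hvF).1 (hmF.1 hwF).1, fun b hb => ?_⟩, ?_⟩
      · rw [act_xor, (hmF.1 hvF).2 b hb, (hmF.1 hwF).2 b hb]
      · have e1 := hFfix v hvF t₀ ht0R
        have e2 := hFfix w hwF t₀ ht0R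
        have hd : (v ^^^ w) / 64 = v / 64 ^^^ w / 64 := Nat.xor_div_two_pow (n := 6)
        rw [show v / 64 = t₀ by omega, show w / 64 = t₀ by omega, Nat.xor_self] at hd
        show v ^^^ w < 64
        omega
    have hFc : F.card ≤ 2 * (F.filter fun v => v < 64).card := by
      have := Finset.card_filter_add_card_filter_not (s := F) (fun v => v < 64)
      omega
    have hle := Nat.mul_le_mul (Nat.mul_le_mul (le_refl J.card) hR2) hFc
    rcases hbd with hM1 | ⟨-, hb2⟩
    · have := hJ1 (Nat.eq_of_beq_eq_true hM1)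
      nlinarith
    · have h5 := Nat.mul_le_mul_left (J.card * 4) hlow
      nlinarith

end CfsgLib.J4Type.Ten
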