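import Cfsg.Agent.Lib.J4Type.Ten.Data
import Cfsg.Agent.Lib.Golay.Involutions
import Cfsg.Agent.Lib.Golay.Dodecad

/-!
The finite facts on the fixed data for the subgroups of order `2^10`, checked by kernel evaluation.
-/

set_option autoImplicit false
set_option maxRecDepth 100000
set_option Elab.async false

namespace CfsgLib.J4Type.Ten

open CfsgLib.Golay (spanWord comp pmap genOK isCode popc)

/-- The bits of the low part of a bit set of codes. -/
def lowBits : ℕ := 2 ^ 64 - 1

/-- The conjugates of `z` below code 64. -/
def lowZ : ℕ := Nat.land zMask lowBits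

/-- The mask of the pairs selected by a code. -/
def pairsMask (n : ℕ) : ℕ := spanWord (pairTab.map fun ab => Nat.xor (2 ^ ab.1) (2 ^ ab.2)) n

theorem data_small : (projTab.all fun c => Nat.blt c 2048) = true ∧ proj 23 = 0 ∧
    ((List.range 11).all fun k => Nat.beq (pc (pairTab.getD k (0, 0)).1 (pairTab.getD k (0, 0)).2) (2 ^ k) &&
      Nat.blt (pairTab.getD k (0, 0)).1 24 && Nat.blt (pairTab.getD k (0, 0)).2 24 &&
      !(Nat.beq (pairTab.getD k (0, 0)).1 (pairTab.getD k (0, 0)).2)) = true ∧ pairTab.length = 11 := by
  decide +kernel

theorem rel_check : (octSel.all fun o => isCode o && Nat.beq (popc o) 8 && Nat.blt o 16777216) = true ∧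
    ((List.range 23).all fun i => Nat.beq
      (Nat.land (Nat.xor (pairsMask (proj i)) (2 ^ i)) 8388607)
      (Nat.land (spanWord octSel (relTab.getD i 0)) 8388607)) = true := by
  decide +kernel

theorem t_check : ((List.range 16).all fun t => genOK (tList.getD t []) &&
      ((List.range 24).all fun i => !(Nat.testBit 8536111 i) || Nat.beq ((tList.getD t []).getD i 0) i) &&
      Nat.beq (affIdx.getD ((tList.getD t []).getD 4 0) 0) t &&
      Nat.beq (pc 4 ((tList.getD t []).getD 4 0) / 64) t &&
      ((List.range 16).all fun s => comp (tList.getD t []) (tList.getD s []) == tList.getD (Nat.xor t s) [])) = true ∧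
    (tList.getD 0 [] == List.range 24) = true ∧ Nat.testBit 8536111 4 = false := by
  decide +kernel

theorem t_cover : (CfsgLib.Golay.stab6Lists.all fun l => tList.contains l) = true := by
  decide +kernel

theorem t_fix : ((List.range 16).all fun t => ((List.range 64).all fun w => Nat.beq (tAct t w) w) &&
    (List.range 32).all fun h =>
      (Nat.beq (tAct t (64 * h)) (64 * h)) == (Nat.beq t 0 || Nat.beq h 0 || Nat.beq h t)) = true := by
  decide +kernel

theorem t_shift : ((List.range 16).all fun t =>
    Nat.beq (Nat.xor (tAct t 1024) 1024 / 64) t) = true ∧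
    ((List.range 1024).all fun v => ([1, 2, 4, 8] : List ℕ).all fun t =>
      Nat.blt (Nat.xor (tAct t v) v) 64) = true ∧
    ((List.range 1024).all fun v => ([1, 2, 4, 8] : List ℕ).any fun t =>
      !(Nat.blt (Nat.xor (tAct t (1024 + v)) (1024 + v)) 64)) = true := by
  decide +kernel

/-- The two admissible lifts of a generator, chosen by a bit. -/
def liftCode (e : ℕ) (i : ℕ) : ℕ := if Nat.testBit e i then 64 * 2 ^ i else 0

theorem t_lift : ((List.range 16).all fun e => Nat.beq e 0 || Nat.beq e 15 ||
    (List.range 4).any fun i => (List.range 4).any fun j =>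
      !(Nat.beq (Nat.xor (liftCode e i) (tAct (2 ^ i) (liftCode e j)))
        (Nat.xor (liftCode e j) (tAct (2 ^ j) (liftCode e i))))) = true := by
  decide +kernel

theorem oct_pairs : ((List.range 24).all fun a => (List.range 24).all fun b => Nat.beq a b ||
      ((Nat.blt (pc a b) 64) == (Nat.testBit 8536111 a && Nat.testBit 8536111 b))) = true ∧
    ((List.range 24).all fun a => Nat.testBit 8536111 a || (List.range 16).all fun t =>
      Nat.blt (Nat.xor (pc 4 ((tList.getD t []).getD 4 0)) (pc a ((tList.getD t []).getD a 0))) 64) = true := by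
  decide +kernel

theorem fpf_fix : Nat.beq ((List.range 2048).countP fun v =>
    Nat.beq (app (pcols CfsgLib.Golay.Invol.repB) v) v) 64 = true := by
  decide +kernel

theorem u_check : ((List.range 64).all fun j => genOK (uList.getD j []) &&
      Nat.beq (pmap (uList.getD j []) 8536111) 8536111 && Nat.beq ((uList.getD j []).getD 4 0) 4 &&
      Nat.beq (uKey (uList.getD j [])) j) = true ∧
    (uList.getD 0 [] == List.range 24) = true := by
  decide +kernel

/-- The number of translations fixed by a set of indices. -/
def fixT (E : ℕ) : ℕ := (List.range 16).countP fun t => (members E).all fun j => Nat.beq (uLin j t) t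

/-- The number of codes below 64 fixed by a set of indices. -/
def fixW (E : ℕ) : ℕ :=
  (List.range 64).countP fun w => (members E).all fun j => Nat.beq (app (pcols (uList.getD j [])) w) w

theorem subs_bound : (subsU.all fun E => Nat.beq E 1 ||
    (Nat.blt ((members E).length * fixT E * fixW E) 1024 &&
      Nat.blt ((members E).length * 4 * fixW E) 1024)) = true := by
  decide +kernel

theorem orbit_low : Nat.beq (spread colsC10 5 (2 ^ 1)) (Nat.xor (lowBits - 1) lowZ) = true ∧
    Nat.beq (spread colsC10 5 (2 ^ 7)) lowZ = true := by
  decide +kernel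

theorem orbit_highZ : Nat.beq (spread colsC10 7 (2 ^ 64)) (Nat.xor zMask lowZ) = true := by
  decide +kernel

theorem orbit_highN : Nat.beq (spread colsC10 9 (2 ^ 65))
    (Nat.xor (Nat.xor (2 ^ 1024 - 2 ^ 64) zMask) lowZ) = true := by
  decide +kernel

theorem z_span : ((List.range 10).all fun k => (List.range 1024).any fun a =>
      Nat.testBit zMask a && Nat.testBit zMask (Nat.xor (2 ^ k) a)) = true ∧
    ((List.range 10).all fun k => (List.range 1024).any fun a => !(Nat.testBit zMask a) &&
      !(Nat.beq a 0) && !(Nat.beq a (2 ^ k)) && !(Nat.testBit zMask (Nat.xor (2 ^ k) a))) = true ∧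
    ((List.range 6).all fun k => (List.range 64).any fun a =>
      Nat.testBit zMask a && Nat.testBit zMask (Nat.xor (2 ^ k) a)) = true ∧
    Nat.testBit zMask 0 = false ∧ Nat.testBit zMask 1 = false := by
  decide +kernel

/-- The translation part of a code of the subgroup of order `2^10`. -/
def hiT (c : ℕ) : ℕ := c / 64

/-- The pair part of the element lifting a permutation into the normaliser. -/
def dcode (l : List ℕ) : ℕ := pc 4 (l.getD 4 0)

theorem genC_check : ((List.range 3).all fun g => genOK (genC.getD g []) &&
    Nat.beq (pmap (genC.getD g []) 8536111) 8536111 &&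
    ((List.range 10).all fun k => (fun l M c r => Nat.blt r 1024 &&
      comp l (tList.getD (hiT c) []) == comp (tList.getD (hiT r) []) l &&
      Nat.beq (Nat.xor (Nat.xor (dcode l) (app (pcols l) (c % 64))) (tAct (hiT r) (dcode l))) (r % 64))
      (genC.getD g []) (colsC10.getD g []) (2 ^ k) (app (colsC10.getD g []) (2 ^ k)))) = true := by
  decide +kernel

theorem line_data : ((List.range 155).all fun i => Nat.blt (lineCode.getD i 0) 1024 &&
      Nat.testBit zMask (lineCode.getD i 0) && Nat.blt (linePts.getD i 0) (2 ^ 31)) = true ∧
    ((List.range 31).all fun p => (List.range 155).all fun i =>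
      Nat.testBit (starMask.getD p 0) i == Nat.testBit (linePts.getD i 0) p) = true := by
  decide +kernel

end CfsgLib.J4Type.Ten
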