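import Cfsg.Agent.Lib.J4Type.Ten.Octad
import Cfsg.Agent.Lib.J4Type.Ten.Certs
import Cfsg.Agent.Lib.J4Type.Basis

/-!
Coordinates on the normaliser of a subgroup of order `2^11`: codes below `2048` in the basis of eleven pairs
and a copy of Mathieu's group acting on them through the positions.
-/

set_option autoImplicit false
set_option linter.unusedSectionVars false
set_option maxRecDepth 20000

namespace CfsgLib.J4Type.Ten

open CfsgLib.Golay (pt idx encS decS toList spanWord)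

universe u

/-- The action of a permutation on codes. -/
def act (σ : ↥Cfsg.M24) (v : ℕ) : ℕ := app (pcols (toList (σ : Equiv.Perm Cfsg.GolayPt))) v

/-- The point at a position given by a number. -/
def pn (a : ℕ) : Cfsg.GolayPt := pt ⟨a % 24, Nat.mod_lt _ (by norm_num)⟩

theorem idx_pn {a : ℕ} (h : a < 24) : (idx (pn a)).val = a := by
  rw [pn, CfsgLib.Golay.idx_pt]
  exact Nat.mod_eq_of_lt h

theorem pn_idx (p : Cfsg.GolayPt) : pn (idx p).val = p := by
  have h := (idx p).isLt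
  conv_rhs => rw [← CfsgLib.Golay.pt_idx p]
  exact congrArg pt (Fin.ext (Nat.mod_eq_of_lt h))

theorem pn_injOn {a b : ℕ} (ha : a < 24) (hb : b < 24) (h : pn a = pn b) : a = b := by
  rw [← idx_pn ha, h, idx_pn hb]

theorem proj_lt (i : ℕ) : proj i < 2048 := by
  rw [proj]
  by_cases h : i < projTab.length
  · rw [List.getD_eq_getElem _ _ h]
    exact Nat.le_of_ble_eq_true (List.all_eq_true.1 data_small.1 _ (List.getElem_mem _))
  · rw [List.getD_eq_default _ _ (not_lt.1 h)]; norm_num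

theorem pc_lt (a b : ℕ) : pc a b < 2048 := Nat.xor_lt_two_pow (n := 11) (proj_lt a) (proj_lt b)

theorem pc_self (a : ℕ) : pc a a = 0 := Nat.xor_self _

theorem pc_comm (a b : ℕ) : pc a b = pc b a := Nat.xor_comm _ _

theorem pc_add (a b c : ℕ) : Nat.xor (pc a b) (pc a c) = pc b c := by
  show (proj a ^^^ proj b) ^^^ (proj a ^^^ proj c) = proj b ^^^ proj c
  rw [Nat.xor_comm (proj a) (proj b), Nat.xor_assoc, ← Nat.xor_assoc (proj a), Nat.xor_self, Nat.zero_xor]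

theorem pcols_lt (l : List ℕ) : ∀ c ∈ pcols l, c < 2 ^ 11 := fun c hc => by
  obtain ⟨ab, -, rfl⟩ := List.mem_map.1 hc
  exact pc_lt _ _

theorem act_lt (σ : ↥Cfsg.M24) (v : ℕ) : act σ v < 2048 := app_lt (k := 11) _ _ (pcols_lt _)

theorem act_xor (σ : ↥Cfsg.M24) (u v : ℕ) : act σ (Nat.xor u v) = Nat.xor (act σ u) (act σ v) := app_xor _ _ _

theorem act_zero (σ : ↥Cfsg.M24) : act σ 0 = 0 := app_zero _

theorem act_two_pow (σ : ↥Cfsg.M24) {k : ℕ} (hk : k < 11) :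
    act σ (2 ^ k) = pc ((idx ((σ : Equiv.Perm Cfsg.GolayPt) (pn (pairTab.getD k (0, 0)).1))).val)
      ((idx ((σ : Equiv.Perm Cfsg.GolayPt) (pn (pairTab.getD k (0, 0)).2))).val) := by
  have hl : k < pairTab.length := by rw [data_small.2.2.2]; exact hk
  have h := List.all_eq_true.1 data_small.2.2.1 k (List.mem_range.2 hk)
  simp only [Bool.and_eq_true] at h
  obtain ⟨⟨⟨-, ha⟩, hb⟩, -⟩ := h
  have ha' := Nat.le_of_ble_eq_true ha
  have hb' := Nat.le_of_ble_eq_true hb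
  rw [act, app_two_pow, pcols, List.getD_eq_getElem _ _ (by rw [List.length_map]; exact hl), List.getElem_map,
    ← CfsgLib.Golay.toList_getD, ← CfsgLib.Golay.toList_getD, idx_pn ha', idx_pn hb',
    List.getD_eq_getElem _ _ hl]

variable {G : Type u} [Group G] [Finite G] {z : G} {V : Subgroup G}

/-- Coordinates on the normaliser of `V`. -/
structure Co (z : G) (V : Subgroup G) where
  enc : ℕ → G
  enc_mem : ∀ v, enc v ∈ V
  enc_inj : ∀ v w, v < 2048 → w < 2048 → enc v = enc w → v = w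
  enc_surj : ∀ a ∈ V, ∃ v, v < 2048 ∧ enc v = a
  enc_xor : ∀ v w, enc (Nat.xor v w) = enc v * enc w
  enc_sq : ∀ v, enc v * enc v = 1
  ψ : ↥Cfsg.M24 →* G
  ψ_mem : ∀ σ, ψ σ ∈ Subgroup.normalizer (V : Set G)
  ψ_disjoint : ∀ σ, ψ σ ∈ V → σ = 1
  split : ∀ n ∈ Subgroup.normalizer (V : Set G), ∃ σ v, v < 2048 ∧ n = enc v * ψ σ
  conj : ∀ σ v, v < 2048 → ψ σ * enc v * (ψ σ)⁻¹ = enc (act σ v)
  act_pc : ∀ (σ : ↥Cfsg.M24) (P Q : Cfsg.GolayPt), act σ (pc (idx P).val (idx Q).val) =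
    pc (idx ((σ : Equiv.Perm Cfsg.GolayPt) P)).val (idx ((σ : Equiv.Perm Cfsg.GolayPt) Q)).val
  pair_nc : ∀ a b, a < 24 → b < 24 → a ≠ b → enc (pc a b) ≠ 1 ∧ ¬ IsConj z (enc (pc a b))
  nc_pair : ∀ v, v < 2048 → v ≠ 0 → ¬ IsConj z (enc v) → ∃ a b, a < 24 ∧ b < 24 ∧ a ≠ b ∧ pc a b = v
  pair_inj : ∀ a b c d, a < 24 → b < 24 → c < 24 → d < 24 → a ≠ b → c ≠ d → pc a b = pc c d →
    (c = a ∧ d = b) ∨ (c = b ∧ d = a)

namespace Lab

variable (L : Lab z V)

/-- The element with the given code. -/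
def enc (v : ℕ) : G := L.psi (pairsMask v)

theorem enc_xor (v w : ℕ) : L.enc (Nat.xor v w) = L.enc v * L.enc w := by
  rw [enc, pairsMask, show Nat.xor v w = v ^^^ w from rfl, CfsgLib.Golay.spanWord_xor]
  exact L.psi_xor _ _

theorem enc_two_pow {k : ℕ} (hk : k < 11) :
    L.enc (2 ^ k) = L.p (pn (pairTab.getD k (0, 0)).1) (pn (pairTab.getD k (0, 0)).2) := by
  have hl : k < pairTab.length := by rw [data_small.2.2.2]; exact hk
  have h := List.all_eq_true.1 data_small.2.2.1 k (List.mem_range.2 hk)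
  simp only [Bool.and_eq_true] at h
  obtain ⟨⟨⟨-, ha⟩, hb⟩, -⟩ := h
  rw [enc, pairsMask, CfsgLib.Golay.spanWord_two_pow, List.getD_eq_getElem _ _ (by rw [List.length_map]; exact hl),
    List.getElem_map, List.getD_eq_getElem _ _ hl]
  rw [List.getD_eq_getElem _ _ hl] at ha hb
  rw [L.psi_xor, L.psi_two_pow ⟨_, Nat.le_of_ble_eq_true ha⟩, L.psi_two_pow ⟨_, Nat.le_of_ble_eq_true hb⟩,
    L.add]
  congr 1 <;> exact congrArg pt (Fin.ext (Nat.mod_eq_of_lt (Nat.le_of_ble_eq_true (by assumption))).symm)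

theorem psi_land (n : ℕ) : L.psi (Nat.land n 8388607) = L.psi n := by
  show (List.map _ _).prod = (List.map _ _).prod
  refine congrArg List.prod (List.map_congr_left fun i _ => ?_)
  show (if (n &&& (2 ^ 23 - 1)).testBit i.val then L.p none (pt i) else 1) = _
  rw [Nat.testBit_and, Nat.testBit_two_pow_sub_one]
  by_cases h : i.val < 23
  · simp [h]
  · have e : pt i = none := if_neg h
    simp [h, e, L.diag]

theorem psi_octads (n : ℕ) : L.psi (spanWord octSel n) = 1 := by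
  refine CfsgLib.Golay.spanWord_induction (P := fun m => L.psi m = 1) octSel L.psi_zero (fun a b ha hb => ?_)
    (fun o ho => ?_) n
  · show L.psi (a ^^^ b) = 1
    rw [show a ^^^ b = Nat.xor a b from rfl, L.psi_xor, ha, hb, one_mul]
  · have h := List.all_eq_true.1 rel_check.1 o ho
    simp only [Bool.and_eq_true] at h
    obtain ⟨⟨hc, h8⟩, hlt⟩ := h
    have he : encS (decS o) = o := CfsgLib.Golay.encS_decS (Nat.le_of_ble_eq_true hlt)
    have hm : decS o ∈ Cfsg.octads := CfsgLib.Golay.mem_octads.2 ⟨by rw [he]; exact hc,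
      by rw [he]; exact Nat.eq_of_beq_eq_true h8⟩
    have h1 := L.setProd_octad hm
    rwa [setProd, he] at h1

theorem p_none (i : Fin 24) : L.p none (pt i) = L.enc (proj i.val) := by
  by_cases h : i.val < 23
  · have hr := Nat.eq_of_beq_eq_true (List.all_eq_true.1 rel_check.2 i.val (List.mem_range.2 h))
    have h1 := congrArg L.psi hr
    rw [L.psi_land, L.psi_land, L.psi_octads, L.psi_xor, L.psi_two_pow] at h1
    rw [enc, eq_comm, ← mul_inv_eq_one, inv_eq_of_mul_eq_one_right (L.frame.sq _ (L.mem _ _))]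
    exact h1
  · have e : pt i = none := if_neg h
    have e23 : i.val = 23 := by omega
    rw [e, L.diag, e23, data_small.2.1, enc, pairsMask, CfsgLib.Golay.spanWord_zero, L.psi_zero]

theorem p_pn {a b : ℕ} (ha : a < 24) (hb : b < 24) : L.p (pn a) (pn b) = L.enc (pc a b) := by
  rw [pc, enc_xor, ← L.p_none ⟨a, ha⟩, ← L.p_none ⟨b, hb⟩, L.add]
  congr 1 <;> exact congrArg pt (Fin.ext (Nat.mod_eq_of_lt (by assumption)))

theorem p_pt (i j : Cfsg.GolayPt) : L.p i j = L.enc (pc (idx i).val (idx j).val) := by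
  rw [← L.p_pn (idx i).isLt (idx j).isLt, pn_idx, pn_idx]

theorem enc_mem (v : ℕ) : L.enc v ∈ V := L.psi_mem _

theorem enc_surj {a : G} (ha : a ∈ V) : ∃ v, v < 2048 ∧ L.enc v = a := by
  have hpair : ∀ u ∈ ncG z V, ∃ v, v < 2048 ∧ L.enc v = u := by
    intro u hu
    obtain ⟨i, j, -, rfl⟩ := L.surj u hu
    exact ⟨_, pc_lt _ _, (L.p_pt i j).symm⟩
  by_cases h1 : a = 1
  · exact ⟨0, by norm_num, by rw [h1, enc, pairsMask, CfsgLib.Golay.spanWord_zero, L.psi_zero]⟩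
  rcases VFrame.eq_or_conj (z := z) ha h1 with hn | hz
  · exact hpair a hn
  obtain ⟨u, hu⟩ : (ncG z V).Nonempty := Set.nonempty_of_ncard_ne_zero (by rw [L.frame.ncard_ncG]; norm_num)
  obtain ⟨-, -, -, -, -, -, -, -, -, htet, -⟩ := L.frame.exists_pairs
  obtain ⟨z', hz', hz'c, hz'u⟩ := htet u hu
  obtain ⟨m₀, hm₀, rfl⟩ := L.frame.conj_z z' hz' hz'c
  obtain ⟨m, hm, rfl⟩ := L.frame.conj_z a ha hz
  set k := m * m₀⁻¹
  have hk : k ∈ Subgroup.normalizer (V : Set G) := mul_mem hm (inv_mem hm₀)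
  obtain ⟨v, hv, ev⟩ := hpair _ ((norm_ncG hk).2 hz'u)
  obtain ⟨w, hw, ew⟩ := hpair _ ((norm_ncG hk).2 hu)
  refine ⟨Nat.xor v w, Nat.xor_lt_two_pow (n := 11) hv hw, ?_⟩
  rw [enc_xor, ev, ew,
    show k * (m₀ * z * m₀⁻¹ * u) * k⁻¹ * (k * u * k⁻¹) = k * (m₀ * z * m₀⁻¹ * (u * u)) * k⁻¹ by group,
    L.frame.sq u hu.1, mul_one]
  show m * m₀⁻¹ * (m₀ * z * m₀⁻¹) * (m * m₀⁻¹)⁻¹ = m * z * m⁻¹
  group

theorem enc_inj {v w : ℕ} (hv : v < 2048) (hw : w < 2048) (h : L.enc v = L.enc w) : v = w := by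
  let f : Fin 2048 → V := fun i => ⟨L.enc i.val, L.enc_mem _⟩
  have hf : Function.Bijective f :=
    Function.Surjective.bijective_of_nat_card_le (fun a => by
      obtain ⟨x, hx, e⟩ := L.enc_surj a.2
      exact ⟨⟨x, hx⟩, Subtype.ext e⟩) (by rw [L.frame.card, Nat.card_fin])
  exact congrArg Fin.val (hf.1 (a₁ := ⟨v, hv⟩) (a₂ := ⟨w, hw⟩) (Subtype.ext h))

include L in
/-- Coordinates from a labelling and a complement. -/
theorem exists_co (K : Subgroup G) (hK : K ≤ Subgroup.normalizer (V : Set G)) (hKV : K ⊓ V = ⊥)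
    (hKM : Cfsg.Spor.IsoM24 ↥K) : Nonempty (Co z V) := by
  classical
  set N := Subgroup.normalizer (V : Set G) with hN
  let f : ↥K →* ↥Cfsg.M24 := L.φ.comp (Subgroup.inclusion hK)
  have hker : ∀ m : ↥N, L.φ m = 1 ↔ (m : G) ∈ V := fun m => by
    rw [← MonoidHom.mem_ker, L.φ_ker, Subgroup.mem_subgroupOf]
  have hf : Function.Injective f := by
    rw [injective_iff_map_eq_one]
    intro x hx
    have : (x : G) ∈ K ⊓ V := ⟨x.2, (hker _).1 hx⟩
    rw [hKV, Subgroup.mem_bot] at this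
    exact Subtype.ext this
  obtain ⟨e⟩ := hKM
  have hbij : Function.Bijective f := hf.bijective_of_nat_card_le (Nat.card_congr e.toEquiv).ge
  let ψ : ↥Cfsg.M24 →* G := K.subtype.comp (MulEquiv.ofBijective f hbij).symm.toMonoidHom
  have hψK : ∀ σ, ψ σ ∈ K := fun σ => SetLike.coe_mem _
  have hψφ : ∀ σ, L.φ ⟨ψ σ, hK (hψK σ)⟩ = σ := fun σ => (MulEquiv.ofBijective f hbij).apply_symm_apply σ
  have conjp : ∀ σ : ↥Cfsg.M24, ∀ i j, ψ σ * L.p i j * (ψ σ)⁻¹ =
      L.p ((σ : Equiv.Perm Cfsg.GolayPt) i) ((σ : Equiv.Perm Cfsg.GolayPt) j) := fun σ i j => by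
    have h := L.φ_conj ⟨ψ σ, hK (hψK σ)⟩ i j
    rwa [hψφ] at h
  have hconj : ∀ σ v, v < 2048 → ψ σ * L.enc v * (ψ σ)⁻¹ = L.enc (act σ v) := fun σ v hv => by
    refine xor_ext (fun a b => a * b) 11 (fun v => ψ σ * L.enc v * (ψ σ)⁻¹) (fun v => L.enc (act σ v))
      (fun a b _ _ => ?_) (fun a b _ _ => ?_) ?_ (fun k hk => ?_) v hv
    · show ψ σ * L.enc (Nat.xor a b) * (ψ σ)⁻¹ = _
      rw [enc_xor]; group
    · show L.enc (act σ (Nat.xor a b)) = _
      rw [act_xor, enc_xor]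
    · show ψ σ * L.enc 0 * (ψ σ)⁻¹ = L.enc (act σ 0)
      rw [act_zero, enc, pairsMask, CfsgLib.Golay.spanWord_zero, L.psi_zero, mul_one, mul_inv_cancel]
    · show ψ σ * L.enc (2 ^ k) * (ψ σ)⁻¹ = L.enc (act σ (2 ^ k))
      rw [L.enc_two_pow hk, conjp, L.p_pt, act_two_pow σ hk]
  refine ⟨{ enc := L.enc, enc_mem := L.enc_mem, enc_inj := fun v w => L.enc_inj
            enc_surj := fun a => L.enc_surj, enc_xor := L.enc_xor
            enc_sq := fun v => L.frame.sq _ (L.enc_mem v)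
            ψ := ψ, ψ_mem := fun σ => hK (hψK σ), ψ_disjoint := fun σ h => ?_, split := fun n hn => ?_
            conj := hconj, act_pc := fun σ P Q => ?_, pair_nc := fun a b ha hb hab => ?_, nc_pair := fun v hv hv0 hnz => ?_
            pair_inj := fun a b c d ha hb hc hd hab hcd e => ?_ }⟩
  · rw [← hψφ σ]; exact (hker _).2 h
  · set σ := L.φ ⟨n, hn⟩
    have hmem : n * (ψ σ)⁻¹ ∈ V := (hker (⟨n, hn⟩ * ⟨ψ σ, hK (hψK σ)⟩⁻¹)).1
      (by rw [map_mul, map_inv, hψφ, mul_inv_cancel])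
    obtain ⟨v, hv, ev⟩ := L.enc_surj hmem
    exact ⟨σ, v, hv, by rw [ev, inv_mul_cancel_right]⟩
  · refine L.enc_inj (act_lt _ _) (pc_lt _ _) ?_
    rw [← hconj σ _ (pc_lt _ _), ← L.p_pt, ← L.p_pt, conjp]
  · have hn := L.nc (pn a) (pn b) fun e => hab (pn_injOn ha hb e)
    rw [L.p_pn ha hb] at hn
    exact hn.2
  · have h1 : L.enc v ≠ 1 := fun e => hv0 (L.enc_inj hv (by norm_num)
      (e.trans (by rw [enc, pairsMask, CfsgLib.Golay.spanWord_zero, L.psi_zero])))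
    obtain ⟨i, j, hij, e⟩ := L.surj _ ⟨L.enc_mem v, h1, hnz⟩
    refine ⟨_, _, (idx i).isLt, (idx j).isLt, fun e' => hij (CfsgLib.Golay.idx_injective (Fin.ext e')), ?_⟩
    exact L.enc_inj (pc_lt _ _) hv (by rw [← L.p_pt, e])
  · have h := L.inj (pn a) (pn b) (pn c) (pn d) (fun e' => hab (pn_injOn ha hb e'))
      (fun e' => hcd (pn_injOn hc hd e')) (by rw [L.p_pn ha hb, L.p_pn hc hd, e])
    exact h.imp (fun h' => ⟨pn_injOn hc ha h'.1, pn_injOn hd hb h'.2⟩)
      fun h' => ⟨pn_injOn hc hb h'.1, pn_injOn hd ha h'.2⟩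

end Lab

end CfsgLib.J4Type.Ten
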