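import Cfsg.Agent.Lib.J4Type.Ten.Bound
import Cfsg.Agent.Lib.J4Type.VGroup

/-!
An elementary abelian subgroup of order `2^10` that contains its centraliser and normalises the subgroup of
order `2^11` is conjugate in the normaliser to the one built from the translations of the base octad.
-/

set_option autoImplicit false
set_option linter.unusedSectionVars false
set_option maxRecDepth 20000

namespace CfsgLib.J4Type.Ten

open scoped Pointwise
open CfsgLib.Golay (pt idx toList genOK comp baseOctad octH)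

universe u

theorem tl_moves {t : ℕ} (ht : t < 16) (h0 : t ≠ 0) {P : Cfsg.GolayPt} (hP : P ∉ baseOctad) :
    (tl t : Equiv.Perm Cfsg.GolayPt) P ≠ P := by
  intro e
  have hm : tList.getD t [] ∈ CfsgLib.Golay.stab6Lists := by
    rw [← toList_ofList (genOK_tList ht)]
    refine CfsgLib.Golay.toList_mem_stab6 ?_
    rw [← CfsgLib.Golay.fixingSubgroup_baseOctad]
    exact ⟨(tl t).2, (mem_fixingSubgroup_iff _).mpr fun p hp => tl_fix ht hp⟩
  have h := List.all_eq_true.1 CfsgLib.Golay.translation_lists.2.2.2 _ hm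
  rw [Bool.or_eq_true] at h
  rcases h with h | h
  · refine h0 (tl_inj ht (by norm_num) ?_)
    rw [tl_zero]
    exact ext_list (by rw [tl, toList_ofList (genOK_tList ht), toList_one', eq_of_beq h])
  · have h' := List.all_eq_true.1 h (idx P).val (List.mem_range.2 (idx P).isLt)
    rw [mem_base, Bool.not_eq_true] at hP
    rw [hP, Bool.false_or, ← toList_ofList (genOK_tList ht), CfsgLib.Golay.toList_getD] at h'
    rw [show ((ofList (tList.getD t []) : Equiv.Perm Cfsg.GolayPt) P) = P from e, Nat.beq_refl] at h'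
    exact Bool.noConfusion h'

variable {G : Type u} [Group G] [Finite G] {z : G} {V : Subgroup G}

/-- The codes fixed by a permutation. -/
noncomputable def fixCodes (σ : ↥Cfsg.M24) : Finset ℕ :=
  (Finset.range 2048).filter fun v => act σ v = v

theorem mem_fixCodes {σ : ↥Cfsg.M24} {v : ℕ} : v ∈ fixCodes σ ↔ v < 2048 ∧ act σ v = v := by
  simp [fixCodes]

theorem Co.card_fixCodes_le (C : Co z V) (k σ : ↥Cfsg.M24) :
    (fixCodes σ).card ≤ (fixCodes (k * σ * k⁻¹)).card := by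
  refine Finset.card_le_card_of_injOn (act k) (fun v hv => ?_) (fun a ha b hb e =>
    C.act_inj k (mem_fixCodes.1 ha).1 (mem_fixCodes.1 hb).1 e)
  obtain ⟨hv, he⟩ := mem_fixCodes.1 hv
  refine mem_fixCodes.2 ⟨act_lt _ _, ?_⟩
  rw [← C.act_mul _ _ hv, show k * σ * k⁻¹ * k = k * σ by group, C.act_mul _ _ hv, he]

/-- An involution fixes at most 64 codes if it moves every point, and is a translation up to conjugacy
otherwise. -/
theorem Co.involution_cases (C : Co z V) {σ : ↥Cfsg.M24} (h2 : σ * σ = 1) (h1 : σ ≠ 1) :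
    ((∀ P, (σ : Equiv.Perm Cfsg.GolayPt) P ≠ P) ∧ (fixCodes σ).card ≤ 64) ∨
      ∃ k t, t < 16 ∧ t ≠ 0 ∧ k * σ * k⁻¹ = tl t := by
  classical
  have hord : orderOf (σ : Equiv.Perm Cfsg.GolayPt) = 2 := by
    rw [Subgroup.orderOf_coe]
    exact orderOf_eq_prime (by rw [pow_two, h2]) h1
  rcases CfsgLib.Golay.Invol.two_classes σ.2 hord with ⟨hoct, -⟩ | ⟨hfpf, k, hk, hl⟩
  · right
    obtain ⟨g, hg, hgo⟩ := CfsgLib.Golay.exists_smul_octad_eq hoct CfsgLib.Golay.baseOctad_mem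
    obtain ⟨t, ht, e⟩ := exists_tl (σ := (⟨g, hg⟩ : ↥Cfsg.M24) * σ * (⟨g, hg⟩ : ↥Cfsg.M24)⁻¹) fun P hP => by
      rw [← hgo] at hP
      obtain ⟨Q, hQ, rfl⟩ := Finset.mem_smul_finset.1 hP
      show g ((σ : Equiv.Perm Cfsg.GolayPt) (g⁻¹ (g Q))) = g Q
      rw [show g⁻¹ (g Q) = Q from g.symm_apply_apply Q, (Finset.mem_filter.1 hQ).2]
    refine ⟨⟨g, hg⟩, t, ht, fun h0 => h1 ?_, e⟩
    rw [h0, tl_zero] at e
    exact conj_eq_one_iff.1 e
  · refine Or.inl ⟨hfpf, (C.card_fixCodes_le ⟨k, hk⟩ σ).trans ?_⟩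
    have h := Nat.eq_of_beq_eq_true fpf_fix
    rw [fixCodes, ← h, List.countP_eq_length_filter,
      ← List.toFinset_card_of_nodup (List.nodup_range.filter _)]
    refine Finset.card_le_card fun v hv => ?_
    simp only [Finset.mem_filter, Finset.mem_range] at hv
    rw [List.mem_toFinset, List.mem_filter, List.mem_range]
    refine ⟨hv.1, ?_⟩
    have e := hv.2
    rw [act] at e
    have hl' : toList (((⟨k, hk⟩ : ↥Cfsg.M24) * σ * (⟨k, hk⟩ : ↥Cfsg.M24)⁻¹ : ↥Cfsg.M24) :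
        Equiv.Perm Cfsg.GolayPt) = CfsgLib.Golay.Invol.repB := hl
    rw [hl'] at e
    rw [e, Nat.beq_refl]

/-- A 2-group moving every point freely has order at most eight. -/
theorem card_le_eight {B : Subgroup ↥Cfsg.M24} (hp : IsPGroup 2 B)
    (hfree : ∀ b ∈ B, b ≠ 1 → ∀ P, (b : Equiv.Perm Cfsg.GolayPt) P ≠ P) : Nat.card B ≤ 8 := by
  classical
  have : Fact (Nat.Prime 2) := ⟨Nat.prime_two⟩
  obtain ⟨n, hn⟩ := IsPGroup.iff_card.1 hp
  by_contra hlt
  have := Fintype.ofFinite B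
  let f : Cfsg.GolayPt → B → Cfsg.GolayPt := fun P b => ((b : ↥Cfsg.M24) : Equiv.Perm Cfsg.GolayPt) P
  have hinj : ∀ P, Function.Injective (f P) := by
    intro P a b e
    by_contra hab
    refine hfree _ (B.mul_mem (B.inv_mem a.2) b.2) (fun e' => hab (Subtype.ext (inv_mul_eq_one.1 e'))) P ?_
    show ((a : ↥Cfsg.M24) : Equiv.Perm Cfsg.GolayPt)⁻¹ (f P b) = P
    rw [← e]
    exact Equiv.symm_apply_apply _ _
  set O := Finset.univ.image (f none)
  have hO : O.card = Nat.card B := by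
    rw [Finset.card_image_of_injective _ (hinj none), Finset.card_univ, Nat.card_eq_fintype_card]
  have h16 : 16 ≤ Nat.card B := by
    rw [hn] at hlt ⊢
    have : 3 < n := by
      by_contra h
      exact hlt (Nat.pow_le_pow_right (by norm_num) (by omega : n ≤ 3))
    exact Nat.pow_le_pow_right (show 0 < 2 by norm_num) this
  have hO24 : O.card ≤ 24 := (Finset.card_le_univ O).trans (by rw [Fintype.card_option, ZMod.card])
  have hn4 : n ≤ 4 := by
    by_contra h
    have := Nat.pow_le_pow_right (show 0 < 2 by norm_num) (by omega : 5 ≤ n)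
    omega
  have hB16 : Nat.card B = 16 := le_antisymm (hn ▸ Nat.pow_le_pow_right (by norm_num) hn4) h16
  obtain ⟨Q, -, hQ⟩ : ∃ Q ∈ (Finset.univ : Finset Cfsg.GolayPt), Q ∉ O :=
    Finset.exists_mem_notMem_of_card_lt_card (by
      rw [Finset.card_univ, Fintype.card_option, ZMod.card, hO, hB16]; norm_num)
  have hdisj : Disjoint O (Finset.univ.image (f Q)) := by
    rw [Finset.disjoint_left]
    intro R h1 h2
    obtain ⟨a, -, ha⟩ := Finset.mem_image.1 h1
    obtain ⟨b, -, hb⟩ := Finset.mem_image.1 h2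
    refine hQ (Finset.mem_image.2 ⟨b⁻¹ * a, Finset.mem_univ _, ?_⟩)
    show ((b : ↥Cfsg.M24) : Equiv.Perm Cfsg.GolayPt)⁻¹ (f none a) = Q
    rw [ha, ← hb]
    exact Equiv.symm_apply_apply _ _
  have h := Finset.card_le_univ (O ∪ Finset.univ.image (f Q))
  rw [Finset.card_union_of_disjoint hdisj, hO, Finset.card_image_of_injective _ (hinj Q), Finset.card_univ,
    ← Nat.card_eq_fintype_card, hB16, Fintype.card_option, ZMod.card] at h
  omega

/-- An elementary abelian subgroup of order `2^10` of the normaliser that contains its centraliser. -/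
structure Cand (L : Loc z V) (A : Subgroup G) : Prop where
  le : A ≤ Subgroup.normalizer (V : Set G)
  elem : Cfsg.IsElementaryAbelian 2 A
  card : Nat.card A = 1024
  self : Subgroup.centralizer (A : Set G) ≤ A

namespace Cand

variable {L : Loc z V} {A : Subgroup G}

theorem sq (hA : Cand L A) {a : G} (ha : a ∈ A) : a * a = 1 := by rw [← pow_two]; exact hA.elem.2 a ha

theorem comm (hA : Cand L A) {a b : G} (ha : a ∈ A) (hb : b ∈ A) : a * b = b * a :=
  congrArg Subtype.val (hA.elem.1.is_comm.comm ⟨a, ha⟩ ⟨b, hb⟩)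

theorem map (hA : Cand L A) {m : G} (hm : m ∈ Subgroup.normalizer (V : Set G)) :
    Cand L (A.map (MulAut.conj m).toMonoidHom) where
  le := by
    rintro _ ⟨a, ha, rfl⟩
    exact mul_mem (mul_mem hm (hA.le ha)) (inv_mem hm)
  elem := elementary_map hA.elem _
  card := by rw [Subgroup.card_map_of_injective (MulEquiv.injective _), hA.card]
  self := fun x hx => by
    refine ⟨m⁻¹ * x * m, hA.self (Subgroup.mem_centralizer_iff.2 fun a ha => ?_),
      show m * (m⁻¹ * x * m) * m⁻¹ = x by group⟩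
    have h : m * a * m⁻¹ * x = x * (m * a * m⁻¹) := Subgroup.mem_centralizer_iff.1 hx _ ⟨a, ha, rfl⟩
    calc a * (m⁻¹ * x * m) = m⁻¹ * (m * a * m⁻¹ * x) * m := by group
      _ = m⁻¹ * (x * (m * a * m⁻¹)) * m := by rw [h]
      _ = m⁻¹ * x * m * a := by group

variable (hA : Cand L A)
include hA

/-- The image in Mathieu's group. -/
def img : Subgroup ↥Cfsg.M24 where
  carrier := {σ | ∃ v, v < 2048 ∧ L.enc v * L.ψ σ ∈ A}
  one_mem' := ⟨0, by norm_num, by rw [L.enc_zero, map_one, one_mul]; exact A.one_mem⟩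
  mul_mem' := by
    rintro σ τ ⟨v, hv, hσ⟩ ⟨w, hw, hτ⟩
    refine ⟨_, Nat.xor_lt_two_pow (n := 11) hv (act_lt σ w), ?_⟩
    have h := A.mul_mem hσ hτ
    rwa [L.form_mul hw] at h
  inv_mem' := by
    rintro σ ⟨v, hv, hσ⟩
    refine ⟨v, hv, ?_⟩
    have h := hA.sq hσ
    rw [L.form_mul hv] at h
    have e := (L.form_inj (Nat.xor_lt_two_pow (n := 11) hv (act_lt σ v)) (by norm_num)
      (h.trans (by rw [L.enc_zero, map_one, one_mul] : (1 : G) = L.enc 0 * L.ψ 1))).2
    rwa [inv_eq_of_mul_eq_one_right e]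

theorem lift_fix {v : ℕ} (hv : v < 2048) {σ : ↥Cfsg.M24} (h : L.enc v * L.ψ σ ∈ A) :
    act σ v = v ∧ σ * σ = 1 := by
  have h2 := hA.sq h
  rw [L.form_mul hv] at h2
  have e := L.form_inj (Nat.xor_lt_two_pow (n := 11) hv (act_lt σ v)) (by norm_num)
    (h2.trans (by rw [L.enc_zero, map_one, one_mul] : (1 : G) = L.enc 0 * L.ψ 1))
  exact ⟨(Nat.xor_eq_zero_iff.1 e.1).symm, e.2⟩

theorem img_sq : ∀ σ ∈ hA.img, σ * σ = 1 := by
  rintro σ ⟨v, hv, h⟩
  exact (hA.lift_fix hv h).2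

theorem img_comm : ∀ σ ∈ hA.img, ∀ τ ∈ hA.img, σ * τ = τ * σ := by
  rintro σ ⟨v, hv, hσ⟩ τ ⟨w, hw, hτ⟩
  have h := hA.comm hσ hτ
  rw [L.form_mul hw, L.form_mul hv] at h
  exact (L.form_inj (Nat.xor_lt_two_pow (n := 11) hv (act_lt _ _))
    (Nat.xor_lt_two_pow (n := 11) hw (act_lt _ _)) h).2

/-- The codes fixed by the image. -/
noncomputable def fixed : Finset ℕ :=
  @Finset.filter _ (fun v => ∀ b ∈ hA.img, act b v = v) (Classical.decPred _) (Finset.range 2048)

theorem mem_fixed {v : ℕ} : v ∈ hA.fixed ↔ v < 2048 ∧ ∀ b ∈ hA.img, act b v = v := by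
  simp [fixed]

/-- The codes of the elements of the subgroup in `V` are those fixed by its image. -/
theorem enc_mem_iff {v : ℕ} (hv : v < 2048) : L.enc v ∈ A ↔ ∀ b ∈ hA.img, act b v = v := by
  constructor
  · intro h σ ⟨w, hw, hσ⟩
    have e := hA.comm hσ h
    have e' : L.enc w * L.ψ σ * (L.enc v * L.ψ 1) = L.enc v * L.ψ 1 * (L.enc w * L.ψ σ) := by
      rw [map_one, mul_one, e]
    rw [L.form_mul hv, L.form_mul hw] at e'
    have e2 := (L.form_inj (Nat.xor_lt_two_pow (n := 11) hw (act_lt _ _))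
      (Nat.xor_lt_two_pow (n := 11) hv (act_lt _ _)) e').1
    rw [L.act_one hw] at e2
    exact Nat.xor_right_injective (e2.trans (Nat.xor_comm v w))
  · intro h
    refine hA.self (Subgroup.mem_centralizer_iff.2 fun a ha => ?_)
    obtain ⟨σ, w, hw, rfl⟩ := L.split a (hA.le ha)
    have hf := h σ ⟨w, hw, ha⟩
    have e : L.ψ σ * L.enc v = L.enc v * L.ψ σ := by
      have h' := L.conj σ v hv
      rw [hf] at h'
      exact mul_inv_eq_iff_eq_mul.1 h'
    rw [mul_assoc, e, ← mul_assoc, L.enc_comm, mul_assoc]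

theorem big : 1024 ≤ Nat.card hA.img * hA.fixed.card := by
  classical
  choose ch hch hchA using fun s : hA.img => s.2
  have hf : ∀ a : A, ∃ p : hA.img × hA.fixed, (a : G) = L.enc (Nat.xor p.2.1 (ch p.1)) * L.ψ p.1.1 := by
    rintro ⟨a, ha⟩
    obtain ⟨σ, v, hv, rfl⟩ := L.split a (hA.le ha)
    have hσ : σ ∈ hA.img := ⟨v, hv, ha⟩
    obtain ⟨hf, hσ2⟩ := hA.lift_fix (hch ⟨σ, hσ⟩) (hchA ⟨σ, hσ⟩)
    have h1 := A.mul_mem ha (hchA ⟨σ, hσ⟩)
    rw [L.form_mul (hch _), hf, hσ2, map_one, mul_one] at h1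
    have hlt : Nat.xor v (ch ⟨σ, hσ⟩) < 2048 := Nat.xor_lt_two_pow (n := 11) hv (hch _)
    refine ⟨(⟨σ, hσ⟩, ⟨_, hA.mem_fixed.2 ⟨hlt, (hA.enc_mem_iff hlt).1 h1⟩⟩), ?_⟩
    show L.enc v * L.ψ σ = L.enc ((v ^^^ ch ⟨σ, hσ⟩) ^^^ ch ⟨σ, hσ⟩) * L.ψ σ
    rw [Nat.xor_assoc, Nat.xor_self, Nat.xor_zero]
  choose f hf using hf
  have hinj : Function.Injective f := fun a b e => Subtype.ext (by rw [hf a, hf b, e])
  have h := Nat.card_le_card_of_injective f hinj
  rw [hA.card, Nat.card_prod, Nat.card_eq_finsetCard] at h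
  exact h

/-- Some element of the image fixes a point and is not trivial. -/
theorem exists_octad_type : ∃ σ ∈ hA.img, ∃ k t, t < 16 ∧ t ≠ 0 ∧ k * σ * k⁻¹ = tl t := by
  classical
  have hpB : IsPGroup 2 hA.img := fun x => ⟨1, Subtype.ext (by
    show (x : ↥Cfsg.M24) ^ 2 ^ 1 = 1
    rw [pow_one, pow_two, hA.img_sq _ x.2])⟩
  obtain ⟨σ, hσ, hσ1⟩ : ∃ σ ∈ hA.img, σ ≠ 1 := by
    by_contra hno
    push Not at hno
    have hall : ∀ v, v < 2048 → L.enc v ∈ A := fun v hv =>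
      (hA.enc_mem_iff hv).2 fun b hb => by rw [hno b hb, L.act_one hv]
    have h := Nat.card_le_card_of_injective (fun v : Fin 2048 => (⟨L.enc v.1, hall v.1 v.2⟩ : A))
      fun a b e => Fin.ext (L.enc_inj _ _ a.2 b.2 (congrArg Subtype.val e))
    rw [Nat.card_fin, hA.card] at h
    omega
  by_contra hno
  push Not at hno
  have hfree : ∀ b ∈ hA.img, b ≠ 1 → (∀ P, (b : Equiv.Perm Cfsg.GolayPt) P ≠ P) ∧ (fixCodes b).card ≤ 64 := by
    intro b hb hb1
    refine (L.involution_cases (hA.img_sq b hb) hb1).resolve_right ?_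
    rintro ⟨k, t, ht, ht0, e⟩
    exact hno b hb k t ht ht0 e
  have h8 := card_le_eight hpB fun b hb hb1 => (hfree b hb hb1).1
  have h64 : hA.fixed.card ≤ 64 := (Finset.card_le_card fun v hv =>
    mem_fixCodes.2 ⟨(hA.mem_fixed.1 hv).1, (hA.mem_fixed.1 hv).2 σ hσ⟩).trans (hfree σ hσ hσ1).2
  have := hA.big.trans (Nat.mul_le_mul h8 h64)
  omega

omit hA in
theorem A₀_le {A' : Subgroup G} (hw : ∀ w, w < 64 → L.enc w ∈ A')
    (ht : ∀ i, i < 4 → L.ψ (tl (2 ^ i)) ∈ A') : L.A₀ ≤ A' := by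
  have hall : ∀ t, t < 16 → L.ψ (tl t) ∈ A' := by
    have step : ∀ a b, a < 16 → b < 16 → L.ψ (tl a) ∈ A' → L.ψ (tl b) ∈ A' → L.ψ (tl (Nat.xor a b)) ∈ A' :=
      fun a b ha hb h1 h2 => by rw [← tl_mul ha hb, map_mul]; exact A'.mul_mem h1 h2
    have h0 : L.ψ (tl 0) ∈ A' := by rw [tl_zero, map_one]; exact A'.one_mem
    have pick : ∀ i, i < 4 → ∀ b : Bool, L.ψ (tl (if b then 2 ^ i else 0)) ∈ A' := fun i hi b => by
      cases b
      · exact h0
      · exact ht i hi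
    intro t ht'
    have e : t = Nat.xor (Nat.xor (if t.testBit 0 then 2 ^ 0 else 0) (if t.testBit 1 then 2 ^ 1 else 0))
        (Nat.xor (if t.testBit 2 then 2 ^ 2 else 0) (if t.testBit 3 then 2 ^ 3 else 0)) := by
      revert ht'; revert t; decide
    rw [e]
    have b0 : ∀ i, i < 4 → ∀ b : Bool, (if b then 2 ^ i else 0) < 16 := fun i hi b => by
      cases b
      · norm_num
      · exact Nat.pow_lt_pow_right (by norm_num) hi
    exact step _ _ (Nat.xor_lt_two_pow (n := 4) (b0 0 (by norm_num) _) (b0 1 (by norm_num) _))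
      (Nat.xor_lt_two_pow (n := 4) (b0 2 (by norm_num) _) (b0 3 (by norm_num) _))
      (step _ _ (b0 0 (by norm_num) _) (b0 1 (by norm_num) _) (pick 0 (by norm_num) _) (pick 1 (by norm_num) _))
      (step _ _ (b0 2 (by norm_num) _) (b0 3 (by norm_num) _) (pick 2 (by norm_num) _) (pick 3 (by norm_num) _))
  rintro _ ⟨c, hc, rfl⟩
  exact A'.mul_mem (hw _ (Nat.mod_lt _ (by norm_num))) (hall _ (by omega))

theorem eq_A₀ (hw : ∀ w, w < 64 → L.enc w ∈ A) (ht : ∀ i, i < 4 → L.ψ (tl (2 ^ i)) ∈ A) : A = L.A₀ :=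
  (Subgroup.eq_of_le_of_card_ge (A₀_le hw ht) (by rw [hA.card, L.card_A₀])).symm

/-- With the translations as image it is conjugate in `V` to the standard subgroup. -/
theorem exists_conj_of_translations (himg : ∀ σ ∈ hA.img, ∃ t, t < 16 ∧ σ = tl t)
    (hall : ∀ t, t < 16 → tl t ∈ hA.img) :
    ∃ m ∈ Subgroup.normalizer (V : Set G), A.map (MulAut.conj m).toMonoidHom = L.A₀ := by
  classical
  have hW : ∀ w, w < 64 → L.enc w ∈ A := fun w hw => (hA.enc_mem_iff (by omega)).2 fun b hb => by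
    obtain ⟨t, ht, rfl⟩ := himg b hb
    exact Co.low_fix ht hw
  have hgen : ∀ i, i < 4 → ∃ e : Bool, L.enc (if e then 64 * 2 ^ i else 0) * L.ψ (tl (2 ^ i)) ∈ A := by
    intro i hi
    have h16 : 2 ^ i < 16 := Nat.pow_lt_pow_right (by norm_num) hi
    obtain ⟨u, hu, hA'⟩ := hall _ h16
    have hfix := (hA.lift_fix hu hA').1
    rw [act_tl h16, tAct_fix h16 hu] at hfix
    have hstrip : L.enc (64 * (u / 64)) * L.ψ (tl (2 ^ i)) ∈ A := by
      have h := A.mul_mem (hW (u % 64) (Nat.mod_lt _ (by norm_num))) hA'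
      rw [← mul_assoc, ← L.enc_xor] at h
      have e : Nat.xor (u % 64) u = 64 * (u / 64) := by
        refine Nat.eq_of_testBit_eq fun k => ?_
        show ((u % 2 ^ 6) ^^^ u).testBit k = (2 ^ 6 * (u / 2 ^ 6)).testBit k
        rw [Nat.testBit_xor, Nat.testBit_mod_two_pow, Nat.testBit_two_pow_mul, Nat.testBit_div_two_pow]
        by_cases hk : k < 6
        · simp [hk, show ¬ (k ≥ 6) by omega]
        · simp [hk, show k ≥ 6 by omega, show k - 6 + 6 = k by omega]
      rwa [e] at h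
    rcases hfix with h | h | h
    · exact absurd h (Nat.two_pow_pos i).ne'
    · exact ⟨false, by rwa [Nat.div_eq_of_lt h, mul_zero] at hstrip⟩
    · exact ⟨true, by rwa [h] at hstrip⟩
  choose e he using hgen
  set E := (if e 0 (by norm_num) then 1 else 0) + (if e 1 (by norm_num) then 2 else 0) +
    (if e 2 (by norm_num) then 4 else 0) + (if e 3 (by norm_num) then 8 else 0) with hE
  have hbit : ∀ i (hi : i < 4), liftCode E i = if e i hi then 64 * 2 ^ i else 0 := by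
    have key : ∀ a b c d : Bool, ∀ i : Fin 4,
        liftCode ((if a then 1 else 0) + (if b then 2 else 0) + (if c then 4 else 0) + (if d then 8 else 0)) i =
          if [a, b, c, d].getD i false then 64 * 2 ^ i.val else 0 := by decide
    intro i hi
    rw [hE]
    refine (key _ _ _ _ ⟨i, hi⟩).trans ?_
    interval_cases i <;> rfl
  have hmem : ∀ i, i < 4 → L.enc (liftCode E i) * L.ψ (tl (2 ^ i)) ∈ A := fun i hi => by
    rw [hbit i hi]; exact he i hi
  have hlt : ∀ i, i < 4 → liftCode E i < 2048 := fun i hi => by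
    have : (2 : ℕ) ^ i < 16 := Nat.pow_lt_pow_right (by norm_num) hi
    rw [liftCode]; split <;> omega
  have hE16 : E < 16 := by rw [hE]; split_ifs <;> norm_num
  have hchk := List.all_eq_true.1 t_lift E (List.mem_range.2 hE16)
  simp only [Bool.or_eq_true, List.any_eq_true, List.mem_range, Bool.not_eq_true'] at hchk
  rcases hchk with (h0 | h15) | ⟨i, hi, j, hj, hne⟩
  · have hE0 : E = 0 := Nat.eq_of_beq_eq_true h0
    refine ⟨1, one_mem _, ?_⟩
    rw [map_one]
    refine (Subgroup.map_id A).trans (hA.eq_A₀ hW fun i hi => ?_)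
    have h := hmem i hi
    rwa [hE0, show liftCode 0 i = 0 from by simp [liftCode], L.enc_zero, one_mul] at h
  · have hE15 : E = 15 := Nat.eq_of_beq_eq_true h15
    have hm : L.enc 1024 ∈ Subgroup.normalizer (V : Set G) := Subgroup.le_normalizer (L.enc_mem _)
    refine ⟨L.enc 1024, hm, (hA.map hm).eq_A₀ (fun w hw => ⟨_, hW w hw, ?_⟩) fun i hi => ?_⟩
    · show L.enc 1024 * L.enc w * (L.enc 1024)⁻¹ = L.enc w
      rw [L.enc_comm, mul_inv_cancel_right]
    · have h16 : 2 ^ i < 16 := Nat.pow_lt_pow_right (by norm_num) hi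
      set s := tAct (2 ^ i) 1024 with hs
      have hsh := Nat.eq_of_beq_eq_true (List.all_eq_true.1 t_shift.1 _ (List.mem_range.2 h16))
      have hlow : Nat.xor (Nat.xor s 1024) (64 * 2 ^ i) < 64 := by
        have h := Nat.xor_div_two_pow (a := Nat.xor s 1024) (b := 64 * 2 ^ i) (n := 6)
        rw [show (2 : ℕ) ^ 6 = 64 from rfl, hsh, Nat.mul_div_cancel_left _ (by norm_num), Nat.xor_self] at h
        have : (Nat.xor s 1024 ^^^ 64 * 2 ^ i) < 64 := by omega
        exact this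
      have h := hmem i hi
      rw [hE15, show liftCode 15 i = 64 * 2 ^ i from by
        interval_cases i <;> rfl] at h
      refine ⟨_, A.mul_mem (hW _ hlow) h, ?_⟩
      show L.enc 1024 * (L.enc (Nat.xor (Nat.xor s 1024) (64 * 2 ^ i)) *
        (L.enc (64 * 2 ^ i) * L.ψ (tl (2 ^ i)))) * (L.enc 1024)⁻¹ = L.ψ (tl (2 ^ i))
      have hc : L.ψ (tl (2 ^ i)) * L.enc 1024 = L.enc s * L.ψ (tl (2 ^ i)) := by
        rw [hs, ← act_tl h16, ← L.conj _ _ (by norm_num)]; group
      rw [← mul_assoc (L.enc (Nat.xor (Nat.xor s 1024) _)), ← L.enc_xor, L.enc_inv, mul_assoc,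
        mul_assoc (L.enc _), hc, ← mul_assoc (L.enc (Nat.xor _ _)), ← mul_assoc (L.enc 1024),
        ← L.enc_xor, ← L.enc_xor]
      have e0 : Nat.xor 1024 (Nat.xor (Nat.xor (Nat.xor (Nat.xor s 1024) (64 * 2 ^ i)) (64 * 2 ^ i)) s) = 0 := by
        show 1024 ^^^ ((((s ^^^ 1024) ^^^ 64 * 2 ^ i) ^^^ 64 * 2 ^ i) ^^^ s) = 0
        rw [Nat.xor_assoc (s ^^^ 1024), Nat.xor_self, Nat.xor_zero, Nat.xor_comm s 1024, Nat.xor_assoc 1024,
          Nat.xor_self, Nat.xor_zero, Nat.xor_self]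
      rw [e0, L.enc_zero, one_mul]
  · exfalso
    have hi16 : 2 ^ i < 16 := Nat.pow_lt_pow_right (by norm_num) hi
    have hj16 : 2 ^ j < 16 := Nat.pow_lt_pow_right (by norm_num) hj
    have h := hA.comm (hmem i hi) (hmem j hj)
    rw [L.form_mul (hlt j hj), L.form_mul (hlt i hi)] at h
    have e := (L.form_inj (Nat.xor_lt_two_pow (n := 11) (hlt i hi) (act_lt _ _))
      (Nat.xor_lt_two_pow (n := 11) (hlt j hj) (act_lt _ _)) h).1
    rw [act_tl hi16, act_tl hj16] at e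
    rw [show Nat.xor (liftCode E i) (tAct (2 ^ i) (liftCode E j)) =
      Nat.xor (liftCode E j) (tAct (2 ^ j) (liftCode E i)) from e, Nat.beq_refl] at hne
    exact Bool.noConfusion hne

/-- Conjugating the subgroup conjugates its image. -/
theorem conj_mem_img (k : ↥Cfsg.M24) {σ : ↥Cfsg.M24} (h : σ ∈ hA.img) :
    k * σ * k⁻¹ ∈ (hA.map (L.ψ_mem k)).img := by
  obtain ⟨v, hv, hσ⟩ := h
  refine ⟨act k v, act_lt _ _, _, hσ, ?_⟩
  show L.ψ k * (L.enc v * L.ψ σ) * (L.ψ k)⁻¹ = _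
  rw [← L.conj k v hv, map_mul, map_mul, map_inv]; group

theorem exists_of_mem_img_conj (k : ↥Cfsg.M24) {σ : ↥Cfsg.M24} (h : σ ∈ (hA.map (L.ψ_mem k)).img) :
    k⁻¹ * σ * k ∈ hA.img := by
  obtain ⟨v, hv, a, ha, e⟩ := h
  obtain ⟨τ, w, hw, rfl⟩ := L.split a (hA.le ha)
  have e' : L.ψ k * (L.enc w * L.ψ τ) * (L.ψ k)⁻¹ = L.enc v * L.ψ σ := e
  have e2 : L.ψ k * (L.enc w * L.ψ τ) * (L.ψ k)⁻¹ = L.enc (act k w) * L.ψ (k * τ * k⁻¹) := by
    rw [← L.conj k w hw, map_mul, map_mul, map_inv]; group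
  have h2 := (L.form_inj (act_lt _ _) hv (e2.symm.trans e')).2
  rw [← h2]
  exact ⟨w, hw, by rwa [show k⁻¹ * (k * τ * k⁻¹) * k = τ by group]⟩

/-- **Conjugacy in the normaliser.** -/
theorem exists_conj : ∃ m ∈ Subgroup.normalizer (V : Set G), A.map (MulAut.conj m).toMonoidHom = L.A₀ := by
  classical
  obtain ⟨σ, hσ, k, t, ht, ht0, e⟩ := hA.exists_octad_type
  set hA₁ := hA.map (L.ψ_mem k)
  have htB : tl t ∈ hA₁.img := e ▸ hA.conj_mem_img k hσ
  have hoct : hA₁.img ≤ octH := fun b hb => by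
    refine Finset.eq_of_subset_of_card_le (fun p hp => ?_) (by rw [Finset.card_smul_finset])
    obtain ⟨q, hq, rfl⟩ := Finset.mem_smul_finset.mp hp
    by_contra hn
    refine tl_moves ht ht0 hn ?_
    show ((tl t * b : ↥Cfsg.M24) : Equiv.Perm Cfsg.GolayPt) q = _
    rw [hA₁.img_comm _ htB _ hb]
    show (b : Equiv.Perm Cfsg.GolayPt) ((tl t : Equiv.Perm Cfsg.GolayPt) q) = _
    rw [tl_fix ht hq]; rfl
  have hp : IsPGroup 2 hA₁.img := fun x => ⟨1, Subtype.ext (by
    show (x : ↥Cfsg.M24) ^ 2 ^ 1 = 1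
    rw [pow_one, pow_two, hA₁.img_sq _ x.2])⟩
  obtain ⟨g, hg, hgP⟩ := exists_conj_P₀ hoct hp
  set hA₂ := hA₁.map (L.ψ_mem g)
  have hP : hA₂.img ≤ P₀ := fun b hb => by
    have := hgP _ (hA₁.exists_of_mem_img_conj g hb)
    rwa [show g * (g⁻¹ * b * g) * g⁻¹ = b by group] at this
  obtain ⟨t', ht', et⟩ := conj_tl hg ht
  have ht'0 : t' ≠ 0 := fun e' => ht0 (tl_inj ht (by norm_num) (by
    rw [tl_zero]
    refine conj_eq_one_iff.1 (et.trans ?_)
    rw [e', tl_zero]))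
  have hbig := hA₂.big
  have hall := eq_translations L.toCo hP hA₂.img_sq hA₂.img_comm ht' ht'0 (et ▸ hA₁.conj_mem_img g htB)
    (by convert hbig using 2; exact congrArg Finset.card (Finset.ext fun v => by simp [Cand.mem_fixed]))
  obtain ⟨m, hm, em⟩ := hA₂.exists_conj_of_translations hall.1 hall.2
  refine ⟨m * L.ψ g * L.ψ k, mul_mem (mul_mem hm (L.ψ_mem g)) (L.ψ_mem k), ?_⟩
  rw [← em, Subgroup.map_map, Subgroup.map_map]
  congr 1
  ext a
  show m * L.ψ g * L.ψ k * a * (m * L.ψ g * L.ψ k)⁻¹ = m * (L.ψ g * (L.ψ k * a * (L.ψ k)⁻¹) * (L.ψ g)⁻¹) * m⁻¹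
  group

end Cand

end CfsgLib.J4Type.Ten
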