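import Cfsg.Agent.Lib.J4Type.Ten.Norm
import Cfsg.Agent.Lib.J4Type.Ten.Uniq
import Mathlib

/-!
Fusion in the subgroup of order `2^10`: its normaliser has two orbits on the non-identity elements, of
lengths `155` and `868`, and its order follows.
-/

set_option autoImplicit false
set_option linter.unusedSectionVars false
set_option maxRecDepth 20000

namespace CfsgLib.J4Type.Ten

open scoped Pointwise
open CfsgLib.Golay (pt idx toList genOK comp baseOctad octH)
open CfsgLib.FischerTwoFour.Cocode (card_orbit_mul isConj_conj_iff)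

universe u

variable {G : Type u} [Group G] [Finite G] {z : G} {V : Subgroup G}

/-- Everything used about `V`. -/
structure Pack (z : G) (V : Subgroup G) extends Loc z V where
  two_to_norm : ∀ A : Subgroup G, IsPGroup 2 A → ∃ g : G, ∀ a ∈ A, g * a * g⁻¹ ∈ Subgroup.normalizer (V : Set G)
  inv_conj : ∀ t : G, t * t = 1 → ∃ g : G, g * t * g⁻¹ ∈ V
  witness : ∃ e ∈ Subgroup.normalizer (V : Set G), e ∉ V ∧ e * e = 1 ∧ ¬ IsConj z e ∧
    64 < Nat.card ↥(V ⊓ Subgroup.centralizer ({e} : Set G))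

/-- The codes of the class of `z`, as a predicate. -/
def zb (c : ℕ) : Bool := Nat.testBit zMask c

theorem mask_counts :
    ((Finset.range 1024).filter fun c => c ≠ 0 ∧ zb c = false).card = 868 ∧
    ((Finset.range 1024).filter fun c => c ≠ 0 ∧ zb c = true).card = 155 ∧
    ((Finset.range 1024).filter fun c => c ≠ 0 ∧ zb c = false ∧ c < 64).card = 28 ∧
    ((Finset.range 1024).filter fun c => c ≠ 0 ∧ (zb c = false ∨ 64 ≤ c)).card = 988 ∧
    ((Finset.range 1024).filter fun c => c ≠ 0 ∧ ((zb c = false ∧ c < 64) ∨ (zb c = true ∧ 64 ≤ c))).card = 148 ∧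
    zb 1 = false ∧ zb 7 = true ∧ zb 64 = true ∧ zb 65 = false := by
  decide +kernel

/-- A prime `q` with `2` of order larger than ten modulo `q` does not divide the order of the normaliser. -/
theorem not_dvd_normalizer {A : Subgroup G} (hA : Nat.card A = 1024) (hc : Subgroup.centralizer (A : Set G) ≤ A)
    {q : ℕ} (hq : q.Prime) (h2 : ∀ k, k < 10 → ¬ 1024 ≡ 2 ^ k [MOD q]) (hq2 : q ≠ 2) :
    ¬ q ∣ Nat.card ↥(Subgroup.normalizer (A : Set G)) := by
  classical
  intro hd
  have : Fact q.Prime := ⟨hq⟩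
  have := Fintype.ofFinite A
  obtain ⟨x, hx⟩ := exists_prime_orderOf_dvd_card' q hd
  set φ : MulAut A := Subgroup.normalizerMonoidHom A x with hφ
  have hφq : φ ^ q = 1 := by rw [hφ, ← map_pow, ← hx, pow_orderOf_eq_one, map_one]
  have hp : IsPGroup q (Subgroup.zpowers φ) := by
    rintro ⟨y, k, rfl⟩
    refine ⟨1, Subtype.ext ?_⟩
    show (φ ^ k) ^ q ^ 1 = 1
    rw [pow_one, ← zpow_natCast, ← zpow_mul, mul_comm, zpow_mul, zpow_natCast, hφq, one_zpow]
  have hmod := hp.card_modEq_card_fixedPoints A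
  let F : Subgroup A :=
    { carrier := {a | φ a = a}
      one_mem' := map_one φ
      mul_mem' := fun {a b} ha hb => by
        show φ (a * b) = a * b
        rw [map_mul, show φ a = a from ha, show φ b = b from hb]
      inv_mem' := fun {a} ha => by
        show φ a⁻¹ = a⁻¹
        rw [map_inv, show φ a = a from ha] }
  have hfix : (MulAction.fixedPoints (Subgroup.zpowers φ) A) = (F : Set A) := by
    ext a
    constructor
    · intro h; exact h ⟨φ, Subgroup.mem_zpowers φ⟩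
    · intro h g
      have hmem : φ ∈ MulAction.stabilizer (MulAut A) a := h
      exact (Subgroup.zpowers_le.2 hmem) g.2
  obtain ⟨k, hk, hFk⟩ := (Nat.dvd_prime_pow Nat.prime_two).1
    (show Nat.card F ∣ 2 ^ 10 by rw [show (2 : ℕ) ^ 10 = 1024 from rfl, ← hA]; exact Subgroup.card_subgroup_dvd_card F)
  rw [hfix, hA] at hmod
  have hk10 : k = 10 := by
    by_contra hne
    exact h2 k (by omega) (hFk ▸ hmod)
  have htop : F = ⊤ := Subgroup.eq_top_of_card_eq F (by rw [hFk, hk10, hA]; norm_num)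
  have hxA : (x : G) ∈ A := hc (Subgroup.mem_centralizer_iff.2 fun a ha => by
    have h : φ ⟨a, ha⟩ = ⟨a, ha⟩ := (htop ▸ Subgroup.mem_top _ : (⟨a, ha⟩ : A) ∈ F)
    have h' : (x : G) * a * (x : G)⁻¹ = a := congrArg Subtype.val h
    exact (mul_inv_eq_iff_eq_mul.1 h').symm)
  have hdv : q ∣ 2 ^ 10 := by
    rw [show (2 : ℕ) ^ 10 = 1024 from rfl, ← hA, ← hx, ← Subgroup.orderOf_coe, ← Subgroup.orderOf_mk (x : G) hxA]
    exact orderOf_dvd_natCard _
  exact hq2 ((Nat.prime_dvd_prime_iff_eq hq Nat.prime_two).1 (hq.dvd_of_dvd_pow hdv))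

namespace Pack

variable (P : Pack z V)

/-- Conjugacy in the normaliser of the subgroup of order `2^10`. -/
def Fused (c d : ℕ) : Prop := ∃ n ∈ Subgroup.normalizer (P.A₀ : Set G), n * P.aEl c * n⁻¹ = P.aEl d

variable {P}

theorem fused_of_rel {c d : ℕ} (h : P.Rel c d) : P.Fused c d := by
  obtain ⟨n, hn, e⟩ := h
  exact ⟨n, hn.1, e⟩

theorem Fused.symm {c d : ℕ} (h : P.Fused c d) : P.Fused d c := by
  obtain ⟨n, hn, e⟩ := h
  exact ⟨n⁻¹, inv_mem hn, by rw [← e]; group⟩

theorem Fused.trans {b c d : ℕ} (h : P.Fused b c) (h' : P.Fused c d) : P.Fused b d := by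
  obtain ⟨n, hn, e⟩ := h
  obtain ⟨m, hm, e'⟩ := h'
  exact ⟨m * n, mul_mem hm hn, by rw [← e', ← e]; group⟩

theorem Fused.isConj_iff {c d : ℕ} (h : P.Fused c d) : IsConj z (P.aEl c) ↔ IsConj z (P.aEl d) := by
  obtain ⟨n, -, e⟩ := h
  rw [← e]
  exact (isConj_conj_iff n _).symm

variable (P)

theorem nc_to_one {t : G} (ht : t ∈ V) (h1 : t ≠ 1) (hnz : ¬ IsConj z t) :
    ∃ m ∈ Subgroup.normalizer (V : Set G), m * t * m⁻¹ = P.enc 1 := by
  obtain ⟨v, hv, rfl⟩ := P.enc_surj t ht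
  obtain ⟨a, b, ha, hb, hab, rfl⟩ := P.nc_pair v hv (fun e => h1 (by rw [e, P.enc_zero])) hnz
  obtain ⟨g, hg, hgL⟩ := CfsgLib.Golay.exists_map_eq (L := [pn a, pn b]) (L' := [pn 0, pn 23])
    (by simpa using fun e => hab (pn_injOn ha hb e))
    (by simpa using fun e => absurd (pn_injOn (by norm_num) (by norm_num) e) (by norm_num : (0 : ℕ) ≠ 23))
    (by simp) (by simp)
  simp only [List.map_cons, List.map_nil, List.cons.injEq, and_true] at hgL
  refine ⟨P.ψ ⟨g, hg⟩, P.ψ_mem _, ?_⟩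
  have e := P.act_pc ⟨g, hg⟩ (pn a) (pn b)
  rw [idx_pn ha, idx_pn hb] at e
  rw [P.conj _ _ hv, e]
  show P.enc (pc (idx (g (pn a))).val (idx (g (pn b))).val) = _
  rw [hgL.1, hgL.2, idx_pn (by norm_num), idx_pn (by norm_num), Loc.pc_one]

/-- Some element outside `V` of the subgroup of order `2^10` lies outside the class of `z`. -/
theorem exists_high_nc : ∃ c, c < 1024 ∧ 64 ≤ c ∧ ¬ IsConj z (P.aEl c) := by
  classical
  obtain ⟨e, heN, heV, he2, henc, hcard⟩ := P.witness
  obtain ⟨σ, v, hv, rfl⟩ := P.split e heN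
  have hσ1 : σ ≠ 1 := fun h => heV (by rw [h, map_one, mul_one]; exact P.enc_mem v)
  rw [P.form_mul hv] at he2
  have h2 := P.form_inj (Nat.xor_lt_two_pow (n := 11) hv (act_lt _ _)) (by norm_num)
    (he2.trans (by rw [P.enc_zero, map_one, one_mul] : (1 : G) = P.enc 0 * P.ψ 1))
  have hfix : act σ v = v := (Nat.xor_eq_zero_iff.1 h2.1).symm
  have hle : Nat.card ↥(V ⊓ Subgroup.centralizer ({P.enc v * P.ψ σ} : Set G)) ≤ (fixCodes σ).card := by
    have hex : ∀ a : ↥(V ⊓ Subgroup.centralizer ({P.enc v * P.ψ σ} : Set G)),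
        ∃ w : fixCodes σ, P.enc w.1 = (a : G) := by
      rintro ⟨a, haV, hac⟩
      obtain ⟨w, hw, rfl⟩ := P.enc_surj a haV
      refine ⟨⟨w, mem_fixCodes.2 ⟨hw, ?_⟩⟩, rfl⟩
      refine P.enc_inj _ _ (act_lt _ _) hw ?_
      have h : P.enc w * (P.enc v * P.ψ σ) = P.enc v * P.ψ σ * P.enc w :=
        Subgroup.mem_centralizer_singleton_iff.1 hac
      rw [← P.conj σ w hw]
      calc P.ψ σ * P.enc w * (P.ψ σ)⁻¹
          = (P.enc v)⁻¹ * (P.enc v * P.ψ σ * P.enc w) * (P.ψ σ)⁻¹ := by group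
        _ = (P.enc v)⁻¹ * (P.enc w * P.enc v) := by rw [← h]; group
        _ = P.enc w := by rw [P.enc_comm w v, inv_mul_cancel_left]
    choose f hf using hex
    have hinj : Function.Injective f := fun a b e => Subtype.ext (by rw [← hf a, ← hf b, e])
    have h := Nat.card_le_card_of_injective f hinj
    rwa [Nat.card_eq_finsetCard] at h
  rcases P.involution_cases h2.2 hσ1 with ⟨-, h64⟩ | ⟨k, t, ht, ht0, hk⟩
  · omega
  have hconj : P.ψ k * (P.enc v * P.ψ σ) * (P.ψ k)⁻¹ = P.enc (act k v) * P.ψ (tl t) := by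
    rw [← hk, ← P.conj k v hv, map_mul, map_mul, map_inv]; group
  set v' := act k v
  have hv' : v' < 2048 := act_lt _ _
  have hfix' : act (tl t) v' = v' := by
    rw [← hk, ← P.act_mul _ _ hv, show k * σ * k⁻¹ * k = k * σ by group, P.act_mul _ _ hv, hfix]
  rw [act_tl ht, tAct_fix ht hv'] at hfix'
  have hnc' : ¬ IsConj z (P.enc v' * P.ψ (tl t)) := by rw [← hconj, isConj_conj_iff]; exact henc
  rcases hfix' with h | h | h
  · exact absurd h ht0
  · refine ⟨v' + 64 * t, by omega, by omega, ?_⟩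
    rw [P.aEl_form h]; exact hnc'
  · set s := tAct t 1024
    have hsh : Nat.xor s 1024 / 64 = t :=
      Nat.eq_of_beq_eq_true (List.all_eq_true.1 t_shift.1 t (List.mem_range.2 ht))
    set r := Nat.xor v' (Nat.xor s 1024) with hrdef
    have hr : r < 64 := by
      have e := Nat.xor_div_two_pow (a := v') (b := Nat.xor s 1024) (n := 6)
      rw [show (2 : ℕ) ^ 6 = 64 from rfl, hsh, h, Nat.xor_self] at e
      have : (v' ^^^ Nat.xor s 1024) < 64 := by omega
      exact this
    refine ⟨r + 64 * t, by omega, by omega, ?_⟩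
    rw [P.aEl_form hr]
    intro hc
    refine hnc' ((isConj_conj_iff (P.enc 1024) _).1 ?_)
    have e : P.enc 1024 * (P.enc v' * P.ψ (tl t)) * (P.enc 1024)⁻¹ = P.enc r * P.ψ (tl t) := by
      have hcm : P.ψ (tl t) * P.enc 1024 = P.enc s * P.ψ (tl t) := by
        rw [show s = act (tl t) 1024 from (act_tl ht 1024).symm, ← P.conj _ _ (by norm_num)]; group
      rw [hrdef, P.enc_inv, ← mul_assoc (P.enc 1024), ← P.enc_xor, mul_assoc, hcm, ← mul_assoc, ← P.enc_xor]
      congr 2
      show (1024 ^^^ v') ^^^ s = v' ^^^ (s ^^^ 1024)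
      ac_rfl
    rw [e]; exact hc

/-- Any two elements outside the class of `z` are conjugate in the normaliser. -/
theorem fused_one {c : ℕ} (hc : c < 1024) (h0 : c ≠ 0) (hnz : ¬ IsConj z (P.aEl c)) : P.Fused 1 c := by
  have hA2 : ∀ a ∈ P.A₀, a * a = 1 := fun a ha => by rw [← pow_two]; exact P.A₀_elementary.2 a ha
  set a := P.aEl c with hadef
  have ha : a ∈ P.A₀ := ⟨c, hc, rfl⟩
  have ha1 : a ≠ 1 := fun e => h0 (P.aEl_inj hc (by norm_num) (e.trans P.aEl_zero.symm))
  obtain ⟨g₀, hg₀⟩ := P.inv_conj a (hA2 a ha)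
  obtain ⟨m₀, -, em₀⟩ := P.nc_to_one hg₀ (fun e => ha1 (conj_eq_one_iff.1 e))
    (by rw [isConj_conj_iff]; exact hnz)
  set g := m₀ * g₀ with hg
  have eg : g * a * g⁻¹ = P.enc 1 := by rw [← em₀, hg]; group
  have hcand : Cand P.toLoc (P.A₀.map (MulAut.conj g).toMonoidHom) := by
    refine ⟨?_, elementary_map P.A₀_elementary _, ?_, ?_⟩
    · rintro _ ⟨b, hb, rfl⟩
      refine P.cent_pc (a := 0) (b := 23) (by norm_num) (by norm_num) (by norm_num) ?_
      rw [Loc.pc_one, ← eg, Subgroup.mem_centralizer_singleton_iff]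
      show g * b * g⁻¹ * (g * a * g⁻¹) = g * a * g⁻¹ * (g * b * g⁻¹)
      rw [show g * b * g⁻¹ * (g * a * g⁻¹) = g * (b * a) * g⁻¹ by group, P.A₀_comm hb ha]
      group
    · rw [Subgroup.card_map_of_injective (MulEquiv.injective _), P.card_A₀]
    · intro x hx
      refine ⟨g⁻¹ * x * g, ?_, show g * (g⁻¹ * x * g) * g⁻¹ = x by group⟩
      rw [SetLike.mem_coe, ← P.self_cent]
      refine Subgroup.mem_centralizer_iff.2 fun b hb => ?_
      have h : g * b * g⁻¹ * x = x * (g * b * g⁻¹) := Subgroup.mem_centralizer_iff.1 hx _ ⟨b, hb, rfl⟩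
      calc b * (g⁻¹ * x * g) = g⁻¹ * (g * b * g⁻¹ * x) * g := by group
        _ = g⁻¹ * (x * (g * b * g⁻¹)) * g := by rw [h]
        _ = g⁻¹ * x * g * b := by group
  obtain ⟨h, hh, he⟩ := hcand.exists_conj
  have hk : h * g ∈ Subgroup.normalizer (P.A₀ : Set G) := by
    refine Subgroup.mem_normalizer_fintype fun b hb => ?_
    show h * g * b * (h * g)⁻¹ ∈ (P.A₀ : Set G)
    rw [SetLike.mem_coe, ← he]
    exact ⟨_, ⟨b, hb, rfl⟩, by show h * (g * b * g⁻¹) * h⁻¹ = _; group⟩
  obtain ⟨d, hd, ed⟩ : h * g * a * (h * g)⁻¹ ∈ P.A₀ := (Subgroup.mem_normalizer_iff.1 hk a).1 ha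
  have hdV : P.aEl d ∈ V := by
    rw [ed, show h * g * a * (h * g)⁻¹ = h * (g * a * g⁻¹) * h⁻¹ by group, eg]
    exact (Subgroup.mem_normalizer_iff.1 hh _).1 (P.enc_mem 1)
  have hd64 := P.aEl_mem_V hd hdV
  have hd0 : d ≠ 0 := fun e => ha1 (conj_eq_one_iff.1 (ed.symm.trans (by rw [e, P.aEl_zero])))
  have hdnz : ¬ IsConj z (P.enc d) := by
    rw [← P.aEl_low hd64, ed, isConj_conj_iff]; exact hnz
  have hrel := P.orbit_cases hd hd0
  rw [if_pos hd64, if_neg (fun hb => hdnz ((P.low_class hd64 hd0).2 hb))] at hrel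
  exact (fused_of_rel hrel).trans (Fused.symm ⟨h * g, hk, ed.symm⟩)

theorem one_nc : ¬ IsConj z (P.aEl 1) := by
  rw [P.aEl_low (by norm_num)]
  exact (P.pair_nc 0 23 (by norm_num) (by norm_num) (by norm_num)).2

theorem ncard_orbit (S : Finset ℕ) (hS : ∀ c ∈ S, c < 1024) (r : ℕ) (hr : r < 1024)
    (hin : ∀ c ∈ S, P.Fused r c)
    (hout : ∀ c, c < 1024 → P.Fused r c → c ∈ S) :
    {y : G | ∃ h ∈ Subgroup.normalizer (P.A₀ : Set G), h * P.aEl r * h⁻¹ = y}.ncard = S.card := by
  have e : {y : G | ∃ h ∈ Subgroup.normalizer (P.A₀ : Set G), h * P.aEl r * h⁻¹ = y} = P.aEl '' (S : Set ℕ) := by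
    ext y
    constructor
    · rintro ⟨h, hh, rfl⟩
      obtain ⟨c, hc, ec⟩ : h * P.aEl r * h⁻¹ ∈ P.A₀ := (Subgroup.mem_normalizer_iff.1 hh _).1 ⟨r, hr, rfl⟩
      exact ⟨c, hout c hc ⟨h, hh, ec.symm⟩, ec⟩
    · rintro ⟨c, hc, rfl⟩
      exact hin c hc
  rw [e, Set.InjOn.ncard_image (fun a ha b hb e => P.aEl_inj (hS a ha) (hS b hb) e), Set.ncard_coe_finset]

/-- **The classes in the subgroup of order `2^10`.** -/
theorem class_iff {c : ℕ} (hc : c < 1024) (h0 : c ≠ 0) : IsConj z (P.aEl c) ↔ zb c = true := by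
  classical
  obtain ⟨c₁, hc₁, h64, hnz₁⟩ := P.exists_high_nc
  have hcase : ∀ c, c < 1024 → c ≠ 0 →
      (IsConj z (P.aEl c) ↔ if c < 64 then zb c = true else IsConj z (P.aEl (if zb c then 64 else 65))) := by
    intro c hc h0
    split
    · rename_i h
      rw [P.aEl_low h]; exact P.low_class h h0
    · rename_i h
      have hrel := P.orbit_cases hc h0
      rw [if_neg h] at hrel
      exact (P.isConj_of_rel hrel).symm
  -- the length of the orbit outside the class of `z` divides the order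
  set S := (Finset.range 1024).filter fun c => c ≠ 0 ∧ ¬ IsConj z (P.aEl c) with hS
  have hmS : ∀ {c}, c ∈ S ↔ c < 1024 ∧ c ≠ 0 ∧ ¬ IsConj z (P.aEl c) := fun {c} => by simp [S]
  have horb := P.ncard_orbit S (fun c hc => (hmS.1 hc).1) 1 (by norm_num)
    (fun c hc => P.fused_one (hmS.1 hc).1 (hmS.1 hc).2.1 (hmS.1 hc).2.2)
    (fun c hc hf => hmS.2 ⟨hc, fun e => by
      obtain ⟨n, -, en⟩ := hf
      rw [e, P.aEl_zero] at en
      exact absurd (P.aEl_inj (show 1 < 1024 by norm_num) (by norm_num)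
        ((conj_eq_one_iff.1 en).trans P.aEl_zero.symm)) one_ne_zero, fun h => P.one_nc (hf.isConj_iff.2 h)⟩)
  have hdvd : S.card ∣ Nat.card ↥(Subgroup.normalizer (P.A₀ : Set G)) := by
    rw [← horb]
    exact Dvd.intro _ (card_orbit_mul _ _)
  have hn := fun q hq h2 hq2 => not_dvd_normalizer P.card_A₀ P.self_cent.le (q := q) hq h2 hq2
  have hset : ∀ T : ℕ → Prop, [DecidablePred T] → (∀ c, c < 1024 → c ≠ 0 → (¬ IsConj z (P.aEl c) ↔ T c)) →
      S.card = ((Finset.range 1024).filter fun c => c ≠ 0 ∧ T c).card := fun T _ hT =>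
    congrArg Finset.card (Finset.filter_congr fun c hc => and_congr_right fun h0 => hT c (Finset.mem_range.1 hc) h0)
  by_cases h64z : IsConj z (P.aEl 64)
  · by_cases h65z : IsConj z (P.aEl 65)
    · exfalso
      refine hnz₁ ((hcase c₁ hc₁ (by omega)).2 ?_)
      rw [if_neg (by omega)]
      split <;> assumption
    · rw [hcase c hc h0]
      split
      · rfl
      · cases hb : zb c
        · rw [if_neg Bool.false_ne_true]; exact iff_of_false h65z Bool.false_ne_true
        · rw [if_pos rfl]; exact iff_of_true h64z rfl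
  · exfalso
    by_cases h65z : IsConj z (P.aEl 65)
    · -- 148
      have hcard := hset (fun c => (zb c = false ∧ c < 64) ∨ (zb c = true ∧ 64 ≤ c)) fun c hc h0 => by
        rw [hcase c hc h0]
        by_cases h : c < 64
        · simp [h]
        · rw [if_neg h]
          cases hb : zb c
          · rw [if_neg Bool.false_ne_true]
            exact iff_of_false (not_not.2 h65z) (by simp [h])
          · rw [if_pos rfl]
            exact iff_of_true h64z (Or.inr ⟨rfl, by omega⟩)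
      rw [hcard, mask_counts.2.2.2.2.1] at hdvd
      exact hn 37 (by norm_num) (by decide) (by norm_num) (dvd_trans (by norm_num) hdvd)
    · -- 988
      have hcard := hset (fun c => zb c = false ∨ 64 ≤ c) fun c hc h0 => by
        rw [hcase c hc h0]
        by_cases h : c < 64
        · simp [h]
        · rw [if_neg h]
          refine iff_of_true ?_ (Or.inr (by omega))
          split <;> assumption
      rw [hcard, mask_counts.2.2.2.1] at hdvd
      exact hn 19 (by norm_num) (by decide) (by norm_num) (dvd_trans (by norm_num) hdvd)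

theorem fused_seven {c : ℕ} (hc : c < 1024) (h0 : c ≠ 0) (hz : zb c = true) : P.Fused 7 c := by
  have h7 : ∀ c, c < 64 → c ≠ 0 → zb c = true → P.Fused 7 c := fun c hc h0 hb => by
    have h := P.orbit_cases (show c < 1024 by omega) h0
    rw [if_pos hc, if_pos (show zMask.testBit c = true from hb)] at h
    exact fused_of_rel h
  have h64 : ∀ c, c < 1024 → 64 ≤ c → zb c = true → P.Fused 64 c := fun c hc hge hb => by
    have h := P.orbit_cases hc (show c ≠ 0 by omega)
    rw [if_neg (by omega), if_pos (show zMask.testBit c = true from hb)] at h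
    exact fused_of_rel h
  by_cases hlt : c < 64
  · exact h7 c hlt h0 hz
  refine Fused.trans ?_ (h64 c hc (by omega) hz)
  -- an element of the normaliser takes some conjugate of `z` in `V` outside `V`
  obtain ⟨n, hn, en⟩ := P.fused_one (c := 65) (by norm_num) (by norm_num)
    (fun h => absurd ((P.class_iff (c := 65) (by norm_num) (by norm_num)).1 h)
      (by rw [mask_counts.2.2.2.2.2.2.2.2]; simp))
  obtain ⟨a, ha, hab⟩ := List.any_eq_true.1 (List.all_eq_true.1 z_span.2.2.1 0 (List.mem_range.2 (by norm_num)))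
  rw [List.mem_range] at ha
  rw [Bool.and_eq_true, pow_zero] at hab
  obtain ⟨hza, hzb⟩ := hab
  set b := Nat.xor 1 a with hb
  have hb64 : b < 64 := Nat.xor_lt_two_pow (n := 6) (show 1 < 64 by norm_num) ha
  have ha0 : a ≠ 0 := fun e => by rw [e, z_span.2.2.2.1] at hza; exact Bool.noConfusion hza
  have hb0 : b ≠ 0 := fun e => by rw [e, z_span.2.2.2.1] at hzb; exact Bool.noConfusion hzb
  have himg : ∀ x, x < 64 → x ≠ 0 → zb x = true →
      ∃ x', x' < 1024 ∧ n * P.aEl x * n⁻¹ = P.aEl x' ∧ P.Fused 7 x' ∧ zb x' = true := by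
    intro x hx hx0 hxz
    obtain ⟨x', hx', ex⟩ : n * P.aEl x * n⁻¹ ∈ P.A₀ :=
      (Subgroup.mem_normalizer_iff.1 hn _).1 ⟨x, by omega, rfl⟩
    have hf : P.Fused x x' := ⟨n, hn, ex.symm⟩
    have hx'0 : x' ≠ 0 := fun e => by
      rw [e, P.aEl_zero] at ex
      exact hx0 (P.aEl_inj (by omega) (by norm_num) ((conj_eq_one_iff.1 ex.symm).trans P.aEl_zero.symm))
    exact ⟨x', hx', ex.symm, (h7 x hx hx0 hxz).trans hf,
      (P.class_iff hx' hx'0).1 (hf.isConj_iff.1 ((P.class_iff (by omega) hx0).2 hxz))⟩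
  obtain ⟨a', ha', ea, fa, za⟩ := himg a ha ha0 hza
  obtain ⟨b', hb', eb, fb, zb'⟩ := himg b hb64 hb0 hzb
  have e1 : P.aEl 1 = P.aEl a * P.aEl b := by
    rw [← P.aEl_xor (by omega) (by omega), hb]
    exact congrArg _ (show 1 = a ^^^ (1 ^^^ a) by rw [Nat.xor_comm 1 a, ← Nat.xor_assoc, Nat.xor_self, Nat.zero_xor])
  rw [e1, show n * (P.aEl a * P.aEl b) * n⁻¹ = n * P.aEl a * n⁻¹ * (n * P.aEl b * n⁻¹) by group, ea, eb,
    ← P.aEl_xor ha' hb'] at en
  have e65 := P.aEl_inj (Nat.xor_lt_two_pow (n := 10) ha' hb') (show 65 < 1024 by norm_num) en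
  by_cases ha64 : 64 ≤ a'
  · exact fa.trans (h64 a' ha' ha64 za).symm
  by_cases hb64' : 64 ≤ b'
  · exact fb.trans (h64 b' hb' hb64' zb').symm
  exfalso
  have := Nat.xor_lt_two_pow (n := 6) (show a' < 64 by omega) (show b' < 64 by omega)
  rw [show a' ^^^ b' = 65 from e65] at this
  norm_num at this

theorem ncard_orbit_nc :
    {y : G | ∃ h ∈ Subgroup.normalizer (P.A₀ : Set G), h * P.aEl 1 * h⁻¹ = y}.ncard = 868 := by
  rw [P.ncard_orbit ((Finset.range 1024).filter fun c => c ≠ 0 ∧ zb c = false)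
    (fun c hc => Finset.mem_range.1 (Finset.mem_filter.1 hc).1) 1 (by norm_num) (fun c hc => ?_)
    (fun c hc hf => ?_)]
  · exact mask_counts.1
  · obtain ⟨hc, h0, hb⟩ := Finset.mem_filter.1 hc
    exact P.fused_one (Finset.mem_range.1 hc) h0
      (fun h => absurd ((P.class_iff (Finset.mem_range.1 hc) h0).1 h) (by rw [hb]; simp))
  · have h0 : c ≠ 0 := fun e => by
      obtain ⟨n, -, en⟩ := hf
      rw [e, P.aEl_zero] at en
      exact absurd (P.aEl_inj (show 1 < 1024 by norm_num) (by norm_num)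
        ((conj_eq_one_iff.1 en).trans P.aEl_zero.symm)) one_ne_zero
    exact Finset.mem_filter.2 ⟨Finset.mem_range.2 hc, h0,
      Bool.eq_false_iff.2 fun hb => P.one_nc (hf.isConj_iff.2 ((P.class_iff hc h0).2 hb))⟩

theorem ncard_orbit_z :
    {y : G | ∃ h ∈ Subgroup.normalizer (P.A₀ : Set G), h * P.aEl 7 * h⁻¹ = y}.ncard = 155 := by
  rw [P.ncard_orbit ((Finset.range 1024).filter fun c => c ≠ 0 ∧ zb c = true)
    (fun c hc => Finset.mem_range.1 (Finset.mem_filter.1 hc).1) 7 (by norm_num) (fun c hc => ?_)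
    (fun c hc hf => ?_)]
  · exact mask_counts.2.1
  · obtain ⟨hc, h0, hb⟩ := Finset.mem_filter.1 hc
    exact P.fused_seven (Finset.mem_range.1 hc) h0 hb
  · have h0 : c ≠ 0 := fun e => by
      obtain ⟨n, -, en⟩ := hf
      rw [e, P.aEl_zero] at en
      exact absurd (P.aEl_inj (show 7 < 1024 by norm_num) (by norm_num)
        ((conj_eq_one_iff.1 en).trans P.aEl_zero.symm)) (by norm_num)
    exact Finset.mem_filter.2 ⟨Finset.mem_range.2 hc, h0, (P.class_iff hc h0).1
      (hf.isConj_iff.1 ((P.class_iff (by norm_num) (by norm_num)).2 mask_counts.2.2.2.2.2.2.1))⟩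

/-- The order of the normaliser. -/
theorem card_normalizer : Nat.card ↥(Subgroup.normalizer (P.A₀ : Set G)) = 1024 * 9999360 := by
  have h := card_orbit_mul (Subgroup.normalizer (P.A₀ : Set G)) (P.aEl 1)
  rw [P.ncard_orbit_nc] at h
  have e : Subgroup.normalizer (P.A₀ : Set G) ⊓ Subgroup.centralizer ({P.aEl 1} : Set G) =
      P.nn ⊓ Subgroup.centralizer ({P.enc 1} : Set G) := by
    rw [P.aEl_low (by norm_num)]
    refine le_antisymm (fun x hx => ⟨⟨hx.1, ?_⟩, hx.2⟩) (inf_le_inf_right _ inf_le_left)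
    have hxc := hx.2
    rw [← Loc.pc_one] at hxc
    exact P.cent_pc (by norm_num) (by norm_num) (by norm_num) hxc
  rw [e, P.card_stab_one] at h
  rw [← h]

end Pack

end CfsgLib.J4Type.Ten
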