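import Cfsg.Agent.Lib.J4Type.Ten.Data
import Mathlib

/-!
The finite facts on the 155 lines: every set of pairwise meeting lines with three in no pencil is small,
and two points lie on a line with their sum.
-/

set_option autoImplicit false
set_option maxRecDepth 100000
set_option Elab.async false

namespace CfsgLib.J4Type.Ten

/-- `n` has at most `k` bits, by removing the lowest one repeatedly. -/
def peel : ℕ → ℕ → Bool
  | 0, n => Nat.beq n 0
  | k + 1, n =>
    Nat.beq (Nat.land (Nat.xor n (Nat.land n (n - 1))) (Nat.xor n (Nat.land n (n - 1)) - 1)) 0 &&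
      peel k (Nat.land n (n - 1))

theorem bits_one {d : ℕ} (h : Nat.land d (d - 1) = 0) (x y : ℕ) (hx : d.testBit x = true)
    (hy : d.testBit y = true) : x = y := by
  have hd : d ≠ 0 := fun e => by rw [e, Nat.zero_testBit] at hx; exact Bool.noConfusion hx
  have h1 := Nat.log2_self_le hd
  have h2 := @Nat.lt_log2_self d
  have e : d = 2 ^ d.log2 := by
    by_contra hne
    have ha : (d - 1).testBit d.log2 = true :=
      Nat.testBit_of_two_pow_le_and_two_pow_add_one_gt (by omega) (by omega)
    have hb : d.testBit d.log2 = true := Nat.testBit_of_two_pow_le_and_two_pow_add_one_gt h1 h2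
    have : (d &&& (d - 1)).testBit d.log2 = true := by rw [Nat.testBit_and, ha, hb]; rfl
    rw [show d &&& (d - 1) = 0 from h, Nat.zero_testBit] at this
    exact Bool.noConfusion this
  rw [e, Nat.testBit_two_pow, decide_eq_true_eq] at hx hy
  omega

theorem card_of_peel {N : ℕ} : ∀ {k n : ℕ}, peel k n = true →
    ((Finset.range N).filter fun i => n.testBit i = true).card ≤ k
  | 0, n, h => by
    rw [Nat.eq_of_beq_eq_true h]
    simp
  | k + 1, n, h => by
    rw [peel, Bool.and_eq_true] at h
    set m := Nat.land n (n - 1)
    set d := Nat.xor n m with hd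
    have h1 := Nat.eq_of_beq_eq_true h.1
    refine (Finset.card_le_card (t := ((Finset.range N).filter fun i => d.testBit i = true) ∪
      ((Finset.range N).filter fun i => m.testBit i = true)) fun i hi => ?_).trans
      ((Finset.card_union_le _ _).trans ?_)
    · simp only [Finset.mem_filter] at hi
      simp only [Finset.mem_union, Finset.mem_filter]
      by_cases hm : m.testBit i = true
      · exact Or.inr ⟨hi.1, hm⟩
      · refine Or.inl ⟨hi.1, ?_⟩
        show (n ^^^ m).testBit i = true
        rw [Nat.testBit_xor, hi.2, Bool.eq_false_iff.2 hm]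
        rfl
    · have hc : ((Finset.range N).filter fun i => d.testBit i = true).card ≤ 1 :=
        Finset.card_le_one.2 fun x hx y hy => bits_one h1 x y (Finset.mem_filter.1 hx).2 (Finset.mem_filter.1 hy).2
      have := card_of_peel (N := N) h.2
      omega

theorem line_pairs : ((List.range 31).all fun a => (List.range 31).all fun b => Nat.beq a b ||
    (linePts.contains (Nat.lor (Nat.lor (2 ^ a) (2 ^ b)) (2 ^ (Nat.xor (a + 1) (b + 1) - 1))))) = true := by
  decide +kernel

theorem line_cover : ((List.range 1024).all fun c => !(Nat.testBit zMask c) || lineCode.contains c) = true ∧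
    lineCode.Nodup ∧ linePts.Nodup ∧ lineCode.length = 155 ∧ linePts.length = 155 ∧
    ((List.range 155).all fun i => peel 3 (linePts.getD i 0)) = true := by
  decide +kernel

theorem star_size : ((List.range 31).all fun p =>
    Nat.beq ((List.range 155).countP fun i => Nat.testBit (starMask.getD p 0) i) 15) = true := by
  decide +kernel

/-- Each line against the later ones: they meet exactly if the sum of the codes is again a conjugate of `z`,
and in at most one point. -/
def pairCheck : List (ℕ × ℕ) → Bool
  | [] => true
  | (c, p) :: rest =>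
    (rest.all fun x => (Nat.testBit zMask (Nat.xor c x.1) == !(Nat.beq (Nat.land p x.2) 0)) &&
      Nat.beq (Nat.land (Nat.land p x.2) (Nat.land p x.2 - 1)) 0) && pairCheck rest

theorem pairwise_of_pairCheck : ∀ {l : List (ℕ × ℕ)}, pairCheck l = true → l.Pairwise fun x y =>
    (Nat.testBit zMask (Nat.xor x.1 y.1) == !(Nat.beq (Nat.land x.2 y.2) 0)) = true ∧
      Nat.beq (Nat.land (Nat.land x.2 y.2) (Nat.land x.2 y.2 - 1)) 0 = true
  | [], _ => List.Pairwise.nil
  | (c, p) :: rest, h => by
    rw [pairCheck, Bool.and_eq_true] at h
    refine List.Pairwise.cons (fun y hy => ?_) (pairwise_of_pairCheck h.2)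
    have := List.all_eq_true.1 h.1 y hy
    rwa [Bool.and_eq_true] at this

theorem pair_table : pairCheck (lineCode.zip linePts) = true := by
  decide +kernel

end CfsgLib.J4Type.Ten
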