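import Cfsg.Agent.Lib.J4Type.Ten.Fusion
import Cfsg.Agent.Lib.J4Type.Ten.Lines
import Cfsg.Agent.Lib.Golay.OctadAffine
import Mathlib

/-!
The normaliser of the subgroup of order `2^10` modulo that subgroup is `SL(5, 2)`: the conjugates of `z`
are the 155 lines of a projective space, two meeting exactly if their product is again one, and the sets
of fifteen pairwise meeting lines are the stars of the 31 points.
-/

set_option autoImplicit false
set_option linter.unusedSectionVars false
set_option maxRecDepth 20000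

namespace CfsgLib.J4Type.Ten

open scoped Pointwise

universe u

/-- The lines at a point. -/
def star (p : Fin 31) : Finset (Fin 155) :=
  Finset.univ.filter fun i => Nat.testBit (linePts.getD i.val 0) p.val = true

theorem mem_star {p : Fin 31} {i : Fin 155} : i ∈ star p ↔ Nat.testBit (linePts.getD i.val 0) p.val = true := by
  simp [star]

theorem star_sep : ((List.range 31).all fun p => (List.range 31).all fun q => Nat.beq p q ||
    (List.range 155).any fun i => Nat.testBit (linePts.getD i 0) p && !(Nat.testBit (linePts.getD i 0) q)) = true := by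
  decide +kernel

theorem star_card (p : Fin 31) : (star p).card = 15 := by
  have h := List.all_eq_true.1 star_size p.val (List.mem_range.2 p.isLt)
  rw [← Nat.eq_of_beq_eq_true h, List.countP_eq_length_filter,
    ← List.toFinset_card_of_nodup (List.nodup_range.filter _)]
  refine (Finset.card_map Fin.valEmbedding).symm.trans (congrArg Finset.card (Finset.ext fun i => ?_))
  have e : ∀ i, i < 155 → Nat.testBit (starMask.getD p.val 0) i = Nat.testBit (linePts.getD i 0) p.val := fun i hi =>
    eq_of_beq (List.all_eq_true.1 (List.all_eq_true.1 line_data.2 p.val (List.mem_range.2 p.isLt)) i (List.mem_range.2 hi))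
  simp only [Finset.mem_map, Fin.valEmbedding_apply, List.mem_toFinset, List.mem_filter, List.mem_range]
  constructor
  · rintro ⟨j, hj, rfl⟩
    exact ⟨j.isLt, by rw [e _ j.isLt]; exact mem_star.1 hj⟩
  · rintro ⟨hi, hb⟩
    exact ⟨⟨i, hi⟩, mem_star.2 (by rw [← e i hi]; exact hb), rfl⟩

theorem star_inj {p q : Fin 31} (h : star p = star q) : p = q := by
  by_contra hne
  have h' := List.all_eq_true.1 (List.all_eq_true.1 star_sep p.val (List.mem_range.2 p.isLt)) q.val
    (List.mem_range.2 q.isLt)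
  rw [Bool.or_eq_true] at h'
  rcases h' with h' | h'
  · exact hne (Fin.ext (Nat.eq_of_beq_eq_true h'))
  · obtain ⟨i, hi, hb⟩ := List.any_eq_true.1 h'
    rw [Bool.and_eq_true] at hb
    have hm : (⟨i, List.mem_range.1 hi⟩ : Fin 155) ∈ star q := h ▸ mem_star.2 hb.1
    rw [mem_star.1 hm] at hb
    exact Bool.noConfusion hb.2

/-- Two lines meet. -/
def Meet (i j : Fin 155) : Prop := Nat.land (linePts.getD i.val 0) (linePts.getD j.val 0) ≠ 0

theorem pair_row {i j : Fin 155} (h : i.val < j.val) :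
    (Meet i j ↔ zb (Nat.xor (lineCode.getD i.val 0) (lineCode.getD j.val 0)) = true) ∧
      Nat.land (Nat.land (linePts.getD i.val 0) (linePts.getD j.val 0))
        (Nat.land (linePts.getD i.val 0) (linePts.getD j.val 0) - 1) = 0 := by
  obtain ⟨-, -, -, hc, hp, -⟩ := line_cover
  have hl : (lineCode.zip linePts).length = 155 := by rw [List.length_zip, hc, hp]; rfl
  have h' := List.pairwise_iff_getElem.1 (pairwise_of_pairCheck pair_table) i.val j.val
    (hl.symm ▸ i.isLt) (hl.symm ▸ j.isLt) h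
  rw [List.getElem_zip, List.getElem_zip] at h'
  rw [Meet, List.getD_eq_getElem _ _ (hc.symm ▸ i.isLt : i.val < lineCode.length),
    List.getD_eq_getElem _ _ (hc.symm ▸ j.isLt : j.val < lineCode.length),
    List.getD_eq_getElem _ _ (hp.symm ▸ i.isLt : i.val < linePts.length),
    List.getD_eq_getElem _ _ (hp.symm ▸ j.isLt : j.val < linePts.length)]
  refine ⟨?_, Nat.eq_of_beq_eq_true h'.2⟩
  show _ ↔ Nat.testBit zMask _ = true
  rw [eq_of_beq h'.1, Bool.not_eq_true', Bool.eq_false_iff]
  exact not_congr ⟨fun e => by rw [e]; rfl, Nat.eq_of_beq_eq_true⟩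

theorem meet_iff {i j : Fin 155} (h : i ≠ j) :
    (Meet i j ↔ zb (Nat.xor (lineCode.getD i.val 0) (lineCode.getD j.val 0)) = true) ∧
      (Meet i j ↔ Nat.land (linePts.getD i.val 0) (linePts.getD j.val 0) ≠ 0) := by
  refine ⟨?_, Iff.rfl⟩
  rcases Nat.lt_or_gt_of_ne (fun e => h (Fin.ext e)) with hlt | hlt
  · exact (pair_row hlt).1
  · have h' := (pair_row hlt).1
    rw [Meet, show Nat.land (linePts.getD j.val 0) (linePts.getD i.val 0) = Nat.land (linePts.getD i.val 0) (linePts.getD j.val 0) from Nat.and_comm _ _] at h'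
    rw [show Nat.xor (lineCode.getD i.val 0) (lineCode.getD j.val 0) =
      Nat.xor (lineCode.getD j.val 0) (lineCode.getD i.val 0) from Nat.xor_comm _ _]
    exact h'

theorem meet_symm {i j : Fin 155} (h : i ≠ j) (hm : Meet i j) : Meet j i := by
  rw [(meet_iff h.symm).1, show Nat.xor (lineCode.getD j.val 0) (lineCode.getD i.val 0) =
    Nat.xor (lineCode.getD i.val 0) (lineCode.getD j.val 0) from Nat.xor_comm _ _]
  exact (meet_iff h).1.1 hm

theorem common_unique {i j : Fin 155} (h : i ≠ j) {p q : ℕ} (hpi : Nat.testBit (linePts.getD i.val 0) p = true)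
    (hpj : Nat.testBit (linePts.getD j.val 0) p = true) (hqi : Nat.testBit (linePts.getD i.val 0) q = true)
    (hqj : Nat.testBit (linePts.getD j.val 0) q = true) : p = q := by
  have both : ∀ {a b x : ℕ}, a.testBit x = true → b.testBit x = true → (Nat.land a b).testBit x = true :=
    fun {a b x} ha hb => by
      show (a &&& b).testBit x = true
      rw [Nat.testBit_and, ha, hb]; rfl
  rcases Nat.lt_or_gt_of_ne (fun e => h (Fin.ext e)) with hlt | hlt
  · exact bits_one (pair_row hlt).2 p q (both hpi hpj) (both hqi hqj)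
  · exact bits_one (pair_row hlt).2 p q (both hpj hpi) (both hqj hqi)

theorem pts_lt (i : Fin 155) : linePts.getD i.val 0 < 2 ^ 31 := by
  have h' := List.all_eq_true.1 line_data.1 i.val (List.mem_range.2 i.isLt)
  simp only [Bool.and_eq_true] at h'
  exact Nat.le_of_ble_eq_true h'.2

theorem bit_lt {i : Fin 155} {p : ℕ} (h : Nat.testBit (linePts.getD i.val 0) p = true) : p < 31 := by
  by_contra hp
  rw [Nat.testBit_lt_two_pow ((pts_lt i).trans_le (Nat.pow_le_pow_right (by norm_num) (not_lt.1 hp)))] at h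
  exact Bool.noConfusion h

theorem star_meet {p : Fin 31} {i j : Fin 155} (hi : i ∈ star p) (hj : j ∈ star p) (hne : i ≠ j) : Meet i j := by
  refine (meet_iff hne).2.2 fun h0 => ?_
  have : (linePts.getD i.val 0 &&& linePts.getD j.val 0).testBit p.val = true := by
    rw [Nat.testBit_and, mem_star.1 hi, mem_star.1 hj]; rfl
  rw [show linePts.getD i.val 0 &&& linePts.getD j.val 0 = 0 from h0, Nat.zero_testBit] at this
  exact Bool.noConfusion this

theorem exists_common {i j : Fin 155} (h : Meet i j) :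
    ∃ r : Fin 31, i ∈ star r ∧ j ∈ star r := by
  obtain ⟨p, hp⟩ := Nat.exists_testBit_of_ne_zero h
  have hp' : (linePts.getD i.val 0 &&& linePts.getD j.val 0).testBit p = true := hp
  rw [Nat.testBit_and, Bool.and_eq_true] at hp'
  exact ⟨⟨p, bit_lt hp'.1⟩, mem_star.2 hp'.1, mem_star.2 hp'.2⟩

/-- The points of a line. -/
def onLine (k : Fin 155) : Finset (Fin 31) := Finset.univ.filter fun r => k ∈ star r

theorem onLine_card (k : Fin 155) : (onLine k).card ≤ 3 := by
  refine (Finset.card_map Fin.valEmbedding).symm.trans_le ((Finset.card_le_card fun x hx => ?_).trans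
    (card_of_peel (N := 31) (List.all_eq_true.1 line_cover.2.2.2.2.2 k.val (List.mem_range.2 k.isLt))))
  obtain ⟨r, hr, rfl⟩ := Finset.mem_map.1 hx
  exact Finset.mem_filter.2 ⟨Finset.mem_range.2 r.isLt, mem_star.1 (Finset.mem_filter.1 hr).2⟩

/-- At most three lines of a set of pairwise meeting lines lie in a star not containing the set. -/
theorem star_inter_card {S : Finset (Fin 155)} (hm : ∀ i ∈ S, ∀ j ∈ S, i ≠ j → Meet i j) {q : Fin 31}
    (hq : ¬ S ⊆ star q) : (S ∩ star q).card ≤ 3 := by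
  classical
  obtain ⟨k, hk, hkq⟩ := Finset.not_subset.1 hq
  have hsub : S ∩ star q ⊆ (onLine k).biUnion fun r => star q ∩ star r := by
    intro l hl
    rw [Finset.mem_inter] at hl
    have hne : l ≠ k := fun e => hkq (e ▸ hl.2)
    obtain ⟨r, hlr, hkr⟩ := exists_common (hm l hl.1 k hk hne)
    exact Finset.mem_biUnion.2 ⟨r, Finset.mem_filter.2 ⟨Finset.mem_univ _, hkr⟩,
      Finset.mem_inter.2 ⟨hl.2, hlr⟩⟩
  refine (Finset.card_le_card hsub).trans ((Finset.card_biUnion_le_card_mul _ _ 1 fun r hr => ?_).trans ?_)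
  · have hrq : q ≠ r := fun e => hkq (e ▸ (Finset.mem_filter.1 hr).2)
    refine Finset.card_le_one.2 fun l hl l' hl' => ?_
    by_contra hne
    rw [Finset.mem_inter] at hl hl'
    exact hrq (Fin.ext (common_unique hne (mem_star.1 hl.1) (mem_star.1 hl'.1) (mem_star.1 hl.2) (mem_star.1 hl'.2)))
  · rw [mul_one]; exact onLine_card k

/-- Fifteen pairwise meeting lines form a star. -/
theorem eq_star {S : Finset (Fin 155)} (hc : S.card = 15) (hm : ∀ i ∈ S, ∀ j ∈ S, i ≠ j → Meet i j) :
    ∃ p : Fin 31, S = star p := by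
  classical
  by_contra hno
  push Not at hno
  have hnsub : ∀ p, ¬ S ⊆ star p := fun p h =>
    hno p (Finset.eq_of_subset_of_card_le h (by rw [star_card, hc]))
  obtain ⟨k, hk, k', hk', hne⟩ := Finset.one_lt_card.1 (show 1 < S.card by omega)
  have hcover : S ⊆ (onLine k).biUnion fun r => S ∩ star r := by
    intro l hl
    obtain ⟨r, hlr, hkr⟩ : ∃ r, l ∈ star r ∧ k ∈ star r := by
      by_cases e : l = k
      · subst e
        obtain ⟨r, hr, -⟩ := exists_common (hm l hk k' hk' hne)
        exact ⟨r, hr, hr⟩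
      · exact exists_common (hm l hl k hk e)
    exact Finset.mem_biUnion.2 ⟨r, Finset.mem_filter.2 ⟨Finset.mem_univ _, hkr⟩, Finset.mem_inter.2 ⟨hl, hlr⟩⟩
  have h1 := (Finset.card_le_card hcover).trans
    (Finset.card_biUnion_le_card_mul _ _ 3 fun r _ => star_inter_card hm (hnsub r))
  have h2 := onLine_card k
  omega

/-- Two points lie on a line with their sum, and on no other. -/
theorem exists_line {a b : Fin 31} (hab : a ≠ b) : ∃ i : Fin 155,
    Nat.testBit (linePts.getD i.val 0) a.val = true ∧ Nat.testBit (linePts.getD i.val 0) b.val = true ∧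
    ∀ q, Nat.testBit (linePts.getD i.val 0) q = true →
      q = a.val ∨ q = b.val ∨ q = Nat.xor (a.val + 1) (b.val + 1) - 1 := by
  have h := List.all_eq_true.1 (List.all_eq_true.1 line_pairs a.val (List.mem_range.2 a.isLt)) b.val
    (List.mem_range.2 b.isLt)
  rw [Bool.or_eq_true] at h
  rcases h with h | h
  · exact absurd (Fin.ext (Nat.eq_of_beq_eq_true h)) hab
  obtain ⟨i, hi, e⟩ := List.getElem_of_mem (List.contains_iff_mem.1 h)
  have hi' : i < 155 := line_cover.2.2.2.2.1 ▸ hi
  refine ⟨⟨i, hi'⟩, ?_, ?_, fun q hq => ?_⟩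
  all_goals rw [List.getD_eq_getElem _ _ hi, e] at *
  · show ((2 ^ a.val ||| 2 ^ b.val) ||| _).testBit a.val = true
    simp [Nat.testBit_two_pow]
  · show ((2 ^ a.val ||| 2 ^ b.val) ||| _).testBit b.val = true
    simp [Nat.testBit_two_pow]
  · have hq' : ((2 ^ a.val ||| 2 ^ b.val) ||| 2 ^ (Nat.xor (a.val + 1) (b.val + 1) - 1)).testBit q = true := hq
    simp only [Nat.testBit_lor, Nat.testBit_two_pow, Bool.or_eq_true, decide_eq_true_eq] at hq'
    rcases hq' with (h | h) | h
    · exact Or.inl h.symm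
    · exact Or.inr (Or.inl h.symm)
    · exact Or.inr (Or.inr h.symm)

/-- The number of a vector of five coordinates. -/
def num (v : Fin 5 → ZMod 2) : ℕ :=
  (if v 0 = 1 then 1 else 0) + (if v 1 = 1 then 2 else 0) + (if v 2 = 1 then 4 else 0) +
    (if v 3 = 1 then 8 else 0) + (if v 4 = 1 then 16 else 0)

/-- The vector with the given number. -/
def vec (n : ℕ) : Fin 5 → ZMod 2 := fun i => if n.testBit i.val then 1 else 0

theorem num_lt (v : Fin 5 → ZMod 2) : num v < 32 := by
  unfold num; split_ifs <;> norm_num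

theorem num_facts : (∀ v w : Fin 5 → ZMod 2, num (v + w) = Nat.xor (num v) (num w)) ∧
    (∀ v : Fin 5 → ZMod 2, vec (num v) = v) ∧ (∀ n : Fin 32, num (vec n.val) = n.val) := by
  decide +kernel

theorem vec_xor (a b : ℕ) : vec (Nat.xor a b) = vec a + vec b := by
  funext i
  show (if (a ^^^ b).testBit i.val then (1 : ZMod 2) else 0) =
    (if a.testBit i.val then 1 else 0) + (if b.testBit i.val then 1 else 0)
  rw [Nat.testBit_xor]
  cases a.testBit i.val <;> cases b.testBit i.val <;> decide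

theorem natCard_SL5_le : Nat.card (Matrix.SpecialLinearGroup (Fin 5) (ZMod 2)) ≤ 9999360 := by
  have h := Nat.card_le_card_of_injective _
    (Matrix.SpecialLinearGroup.toGL_injective (n := Fin 5) (R := ZMod 2))
  rw [Matrix.card_GL_field, ZMod.card] at h
  refine h.trans (le_of_eq ?_)
  decide +kernel

variable {G : Type u} [Group G] [Finite G] {z : G} {V : Subgroup G}

namespace Pack

variable (P : Pack z V)

theorem line_facts (i : Fin 155) : lineCode.getD i.val 0 < 1024 ∧ lineCode.getD i.val 0 ≠ 0 ∧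
    zb (lineCode.getD i.val 0) = true := by
  have h' := List.all_eq_true.1 line_data.1 i.val (List.mem_range.2 i.isLt)
  simp only [Bool.and_eq_true] at h'
  refine ⟨Nat.le_of_ble_eq_true h'.1.1, fun e => ?_, h'.1.2⟩
  have := h'.1.2
  rw [e, z_span.2.2.2.1] at this
  exact Bool.noConfusion this

/-- The element of a line. -/
noncomputable def lEl (i : Fin 155) : G := P.aEl (lineCode.getD i.val 0)

theorem lEl_inj {i j : Fin 155} (h : P.lEl i = P.lEl j) : i = j := by
  have e := P.aEl_inj (line_facts i).1 (line_facts j).1 h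
  have hl := line_cover.2.2.2.1
  rw [List.getD_eq_getElem _ _ (hl.symm ▸ i.isLt), List.getD_eq_getElem _ _ (hl.symm ▸ j.isLt)] at e
  exact Fin.ext (line_cover.2.1.getElem_inj_iff.1 e)

theorem exists_line_image (b : ↥(Subgroup.normalizer (P.A₀ : Set G))) (i : Fin 155) :
    ∃ j, (b : G) * P.lEl i * (b : G)⁻¹ = P.lEl j := by
  obtain ⟨hlt, h0, hz⟩ := line_facts i
  obtain ⟨c, hc, ec⟩ : (b : G) * P.lEl i * (b : G)⁻¹ ∈ P.A₀ :=
    (Subgroup.mem_normalizer_iff.1 b.2 _).1 ⟨_, hlt, rfl⟩
  have hc0 : c ≠ 0 := fun e => h0 (P.aEl_inj hlt (by norm_num)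
    ((conj_eq_one_iff.1 (ec.symm.trans (by rw [e, P.aEl_zero]))).trans P.aEl_zero.symm))
  have hcz : zb c = true := (P.class_iff hc hc0).1 (by
    rw [ec, CfsgLib.FischerTwoFour.Cocode.isConj_conj_iff]; exact (P.class_iff hlt h0).2 hz)
  have h := List.all_eq_true.1 line_cover.1 c (List.mem_range.2 hc)
  rw [show Nat.testBit zMask c = true from hcz, Bool.not_true, Bool.false_or] at h
  obtain ⟨j, hj, e⟩ := List.getElem_of_mem (List.contains_iff_mem.1 h)
  refine ⟨⟨j, line_cover.2.2.2.1 ▸ hj⟩, ?_⟩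
  rw [← ec, lEl, List.getD_eq_getElem _ _ hj, e]

/-- The permutation of the lines by an element of the normaliser. -/
noncomputable def lineMap (b : ↥(Subgroup.normalizer (P.A₀ : Set G))) (i : Fin 155) : Fin 155 :=
  (P.exists_line_image b i).choose

theorem lineMap_spec (b : ↥(Subgroup.normalizer (P.A₀ : Set G))) (i : Fin 155) :
    (b : G) * P.lEl i * (b : G)⁻¹ = P.lEl (P.lineMap b i) := (P.exists_line_image b i).choose_spec

theorem lineMap_inj (b : ↥(Subgroup.normalizer (P.A₀ : Set G))) : Function.Injective (P.lineMap b) :=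
  fun i j e => P.lEl_inj (mul_left_cancel (mul_right_cancel
    ((P.lineMap_spec b i).trans ((congrArg P.lEl e).trans (P.lineMap_spec b j).symm))))

theorem lineMap_mul (a b : ↥(Subgroup.normalizer (P.A₀ : Set G))) (i : Fin 155) :
    P.lineMap (a * b) i = P.lineMap a (P.lineMap b i) := P.lEl_inj (by
  rw [← lineMap_spec, ← lineMap_spec, ← lineMap_spec, Subgroup.coe_mul]; group)

theorem lineMap_one (i : Fin 155) : P.lineMap 1 i = i := P.lEl_inj (by
  rw [← lineMap_spec, Subgroup.coe_one]; group)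

theorem lineMap_meet (b : ↥(Subgroup.normalizer (P.A₀ : Set G))) {i j : Fin 155} (h : i ≠ j) (hm : Meet i j) :
    Meet (P.lineMap b i) (P.lineMap b j) := by
  rw [(meet_iff ((P.lineMap_inj b).ne h)).1]
  have hx := (meet_iff h).1.1 hm
  obtain ⟨hi, -, -⟩ := line_facts i
  obtain ⟨hj, -, -⟩ := line_facts j
  obtain ⟨hi', -, -⟩ := line_facts (P.lineMap b i)
  obtain ⟨hj', -, -⟩ := line_facts (P.lineMap b j)
  have hne : ∀ {a c : Fin 155}, a ≠ c → Nat.xor (lineCode.getD a.val 0) (lineCode.getD c.val 0) ≠ 0 := by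
    intro a c hac e
    refine hac (P.lEl_inj ?_)
    show P.aEl _ = P.aEl _
    rw [Nat.xor_eq_zero_iff.1 e]
  replace hx := (P.class_iff (c := Nat.xor (lineCode.getD i.val 0) (lineCode.getD j.val 0))
    (Nat.xor_lt_two_pow (n := 10) hi hj) (hne h)).2 hx
  refine (P.class_iff (c := Nat.xor (lineCode.getD (P.lineMap b i).val 0) (lineCode.getD (P.lineMap b j).val 0))
    (Nat.xor_lt_two_pow (n := 10) hi' hj') (hne ((P.lineMap_inj b).ne h))).1 ?_
  rw [P.aEl_xor hi' hj', show P.aEl (lineCode.getD (P.lineMap b i).val 0) = P.lEl (P.lineMap b i) from rfl,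
    show P.aEl (lineCode.getD (P.lineMap b j).val 0) = P.lEl (P.lineMap b j) from rfl, ← P.lineMap_spec b i,
    ← P.lineMap_spec b j, show (b : G) * P.lEl i * (b : G)⁻¹ * ((b : G) * P.lEl j * (b : G)⁻¹) =
      (b : G) * (P.lEl i * P.lEl j) * (b : G)⁻¹ by group, CfsgLib.FischerTwoFour.Cocode.isConj_conj_iff]
  rwa [P.aEl_xor hi hj] at hx

theorem exists_point_image (b : ↥(Subgroup.normalizer (P.A₀ : Set G))) (p : Fin 31) :
    ∃ q : Fin 31, (star p).map ⟨P.lineMap b, P.lineMap_inj b⟩ = star q := by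
  refine eq_star (by rw [Finset.card_map, star_card]) ?_
  intro i hi j hj hne
  obtain ⟨i₀, hi₀, rfl⟩ := Finset.mem_map.1 hi
  obtain ⟨j₀, hj₀, rfl⟩ := Finset.mem_map.1 hj
  have h0 : i₀ ≠ j₀ := fun e => hne (by rw [e])
  exact P.lineMap_meet b h0 (star_meet hi₀ hj₀ h0)

/-- The permutation of the points by an element of the normaliser. -/
noncomputable def ptMap (b : ↥(Subgroup.normalizer (P.A₀ : Set G))) (p : Fin 31) : Fin 31 :=
  (P.exists_point_image b p).choose

theorem ptMap_spec (b : ↥(Subgroup.normalizer (P.A₀ : Set G))) (p : Fin 31) :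
    (star p).map ⟨P.lineMap b, P.lineMap_inj b⟩ = star (P.ptMap b p) := (P.exists_point_image b p).choose_spec

theorem mem_star_map (b : ↥(Subgroup.normalizer (P.A₀ : Set G))) {p : Fin 31} {i : Fin 155} :
    P.lineMap b i ∈ star (P.ptMap b p) ↔ i ∈ star p := by
  rw [← P.ptMap_spec]
  exact Finset.mem_map' _

theorem ptMap_mul (a b : ↥(Subgroup.normalizer (P.A₀ : Set G))) (p : Fin 31) :
    P.ptMap (a * b) p = P.ptMap a (P.ptMap b p) := by
  refine star_inj ?_
  rw [← ptMap_spec, ← ptMap_spec, ← ptMap_spec, Finset.map_map]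
  congr 1
  ext i
  exact congrArg Fin.val (P.lineMap_mul a b i)

theorem ptMap_one (p : Fin 31) : P.ptMap 1 p = p := by
  refine star_inj ?_
  rw [← ptMap_spec]
  ext i
  simp only [Finset.mem_map, Function.Embedding.coeFn_mk, P.lineMap_one, exists_eq_right]

theorem ptMap_add (b : ↥(Subgroup.normalizer (P.A₀ : Set G))) {p q r : Fin 31} (hpq : p ≠ q)
    (hr : r.val + 1 = Nat.xor (p.val + 1) (q.val + 1)) :
    (P.ptMap b r).val + 1 = Nat.xor ((P.ptMap b p).val + 1) ((P.ptMap b q).val + 1) := by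
  have hinj : Function.Injective (P.ptMap b) := Function.LeftInverse.injective (g := P.ptMap b⁻¹) fun x => by
    rw [← P.ptMap_mul, inv_mul_cancel, P.ptMap_one]
  obtain ⟨i, hip, hiq, hiu⟩ := exists_line hpq
  have hrp : r ≠ p := fun e => by
    rw [e] at hr
    have h' : p.val + 1 = (p.val + 1) ^^^ (q.val + 1) := hr
    have : (p.val + 1) ^^^ 0 = (p.val + 1) ^^^ (q.val + 1) := by rw [Nat.xor_zero]; exact h'
    have := Nat.xor_right_injective this
    omega
  have hrq : r ≠ q := fun e => by
    rw [e] at hr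
    have h' : q.val + 1 = (p.val + 1) ^^^ (q.val + 1) := hr
    have : 0 ^^^ (q.val + 1) = (p.val + 1) ^^^ (q.val + 1) := by rw [Nat.zero_xor]; exact h'
    have := Nat.xor_left_injective this
    omega
  -- the third point is on the line
  have hir : Nat.testBit (linePts.getD i.val 0) r.val = true := by
    obtain ⟨i', hi'p, hi'r, hu'⟩ := exists_line hrp.symm
    by_cases e : i' = i
    · exact e ▸ hi'r
    have hq' : q.val = Nat.xor (p.val + 1) (r.val + 1) - 1 := by
      rw [hr]
      show q.val = ((p.val + 1) ^^^ ((p.val + 1) ^^^ (q.val + 1))) - 1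
      rw [← Nat.xor_assoc, Nat.xor_self, Nat.zero_xor, Nat.add_sub_cancel]
    exfalso
    -- the line through `p` and `r` contains `q`
    obtain ⟨s, hsi', hsne⟩ : ∃ s, Nat.testBit (linePts.getD i'.val 0) s = true ∧ s = q.val := by
      have h := List.all_eq_true.1 (List.all_eq_true.1 line_pairs p.val (List.mem_range.2 p.isLt)) r.val
        (List.mem_range.2 r.isLt)
      rw [Bool.or_eq_true] at h
      rcases h with h | h
      · exact absurd (Fin.ext (Nat.eq_of_beq_eq_true h)) hrp.symm
      obtain ⟨k, hk, ek⟩ := List.getElem_of_mem (List.contains_iff_mem.1 h)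
      have hk' : k < 155 := line_cover.2.2.2.2.1 ▸ hk
      have hb : ∀ x, x = p.val ∨ x = r.val ∨ x = q.val → (linePts.getD k 0).testBit x = true := by
        intro x hx
        rw [List.getD_eq_getElem _ _ hk, ek, ← hq']
        show ((2 ^ p.val ||| 2 ^ r.val) ||| 2 ^ q.val).testBit x = true
        simp only [Nat.testBit_lor, Nat.testBit_two_pow, Bool.or_eq_true, decide_eq_true_eq]
        rcases hx with rfl | rfl | rfl <;> simp
      have ek' : (⟨k, hk'⟩ : Fin 155) = i' := by
        by_contra hne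
        have := common_unique hne (hb _ (Or.inl rfl)) hi'p (hb _ (Or.inr (Or.inl rfl))) hi'r
        exact hrp (Fin.ext this).symm
      exact ⟨q.val, ek' ▸ hb _ (Or.inr (Or.inr rfl)), rfl⟩
    rw [hsne] at hsi'
    have := common_unique e hi'p hip hsi' hiq
    exact hpq (Fin.ext this)
  set i' := P.lineMap b i
  have hp' : Nat.testBit (linePts.getD i'.val 0) (P.ptMap b p).val = true :=
    mem_star.1 ((P.mem_star_map b).2 (mem_star.2 hip))
  have hq' : Nat.testBit (linePts.getD i'.val 0) (P.ptMap b q).val = true :=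
    mem_star.1 ((P.mem_star_map b).2 (mem_star.2 hiq))
  have hr' : Nat.testBit (linePts.getD i'.val 0) (P.ptMap b r).val = true :=
    mem_star.1 ((P.mem_star_map b).2 (mem_star.2 hir))
  obtain ⟨k, hkp, hkq, hku⟩ := exists_line (hinj.ne hpq)
  have hk : k = i' := by
    by_contra hne
    exact hinj.ne hpq (Fin.ext (common_unique hne hkp hp' hkq hq'))
  rcases hku _ (hk ▸ hr') with e | e | e
  · exact absurd (hinj (Fin.ext e)) hrp
  · exact absurd (hinj (Fin.ext e)) hrq
  · have hne : Nat.xor ((P.ptMap b p).val + 1) ((P.ptMap b q).val + 1) ≠ 0 := fun e0 => hinj.ne hpq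
      (Fin.ext (by have := Nat.xor_eq_zero_iff.1 e0; omega))
    omega

/-- The map of the numbers of the vectors. -/
noncomputable def numMap (b : ↥(Subgroup.normalizer (P.A₀ : Set G))) (n : ℕ) : ℕ :=
  if h : 0 < n ∧ n < 32 then (P.ptMap b ⟨n - 1, by omega⟩).val + 1 else 0

theorem numMap_pos (b : ↥(Subgroup.normalizer (P.A₀ : Set G))) (p : Fin 31) :
    P.numMap b (p.val + 1) = (P.ptMap b p).val + 1 := by
  rw [numMap, dif_pos ⟨by omega, by have := p.isLt; omega⟩]
  simp

theorem numMap_zero (b : ↥(Subgroup.normalizer (P.A₀ : Set G))) : P.numMap b 0 = 0 := by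
  rw [numMap, dif_neg (by omega)]

theorem numMap_lt (b : ↥(Subgroup.normalizer (P.A₀ : Set G))) (n : ℕ) : P.numMap b n < 32 := by
  rw [numMap]
  split
  · exact Nat.succ_lt_succ (Fin.isLt _)
  · norm_num

theorem numMap_xor (b : ↥(Subgroup.normalizer (P.A₀ : Set G))) {m n : ℕ} (hm : m < 32) (hn : n < 32) :
    P.numMap b (Nat.xor m n) = Nat.xor (P.numMap b m) (P.numMap b n) := by
  rcases Nat.eq_zero_or_pos m with rfl | hm0
  · rw [P.numMap_zero, show Nat.xor 0 n = n from Nat.zero_xor n,
      show Nat.xor 0 (P.numMap b n) = P.numMap b n from Nat.zero_xor _]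
  rcases Nat.eq_zero_or_pos n with rfl | hn0
  · rw [P.numMap_zero, show Nat.xor m 0 = m from Nat.xor_zero m,
      show Nat.xor (P.numMap b m) 0 = P.numMap b m from Nat.xor_zero _]
  by_cases hmn : m = n
  · subst hmn
    rw [show Nat.xor m m = 0 from Nat.xor_self m, P.numMap_zero]
    exact (Nat.xor_self _).symm
  have hx : Nat.xor m n < 32 := Nat.xor_lt_two_pow (n := 5) hm hn
  have hx0 : Nat.xor m n ≠ 0 := fun e => hmn (Nat.xor_eq_zero_iff.1 e)
  have h := P.ptMap_add b (p := ⟨m - 1, by omega⟩) (q := ⟨n - 1, by omega⟩) (r := ⟨Nat.xor m n - 1, by omega⟩)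
    (fun e => hmn (by have := congrArg Fin.val e; simp only at this; omega))
    (by
      show Nat.xor m n - 1 + 1 = Nat.xor (m - 1 + 1) (n - 1 + 1)
      rw [Nat.sub_add_cancel hm0, Nat.sub_add_cancel hn0]; omega)
  rw [numMap, dif_pos ⟨by omega, hx⟩, numMap, dif_pos ⟨hm0, hm⟩, numMap, dif_pos ⟨hn0, hn⟩]
  exact h

theorem numMap_mul (a b : ↥(Subgroup.normalizer (P.A₀ : Set G))) {n : ℕ} (hn : n < 32) :
    P.numMap (a * b) n = P.numMap a (P.numMap b n) := by
  rcases Nat.eq_zero_or_pos n with rfl | h0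
  · rw [P.numMap_zero, P.numMap_zero, P.numMap_zero]
  obtain ⟨p, rfl⟩ : ∃ p : Fin 31, n = p.val + 1 := ⟨⟨n - 1, by omega⟩, by simp; omega⟩
  rw [P.numMap_pos, P.numMap_pos, P.numMap_pos, P.ptMap_mul]

theorem numMap_one {n : ℕ} (hn : n < 32) : P.numMap 1 n = n := by
  rcases Nat.eq_zero_or_pos n with rfl | h0
  · rw [P.numMap_zero]
  obtain ⟨p, rfl⟩ : ∃ p : Fin 31, n = p.val + 1 := ⟨⟨n - 1, by omega⟩, by simp; omega⟩
  rw [P.numMap_pos, P.ptMap_one]

/-- The linear map of the five coordinates. -/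
noncomputable def linMap (b : ↥(Subgroup.normalizer (P.A₀ : Set G))) :
    (Fin 5 → ZMod 2) →ₗ[ZMod 2] (Fin 5 → ZMod 2) :=
  (AddMonoidHom.mk' (fun v => vec (P.numMap b (num v))) fun v w => by
    show vec (P.numMap b (num (v + w))) = _
    rw [num_facts.1, P.numMap_xor b (num_lt v) (num_lt w), vec_xor]).toZModLinearMap 2

theorem linMap_apply (b : ↥(Subgroup.normalizer (P.A₀ : Set G))) (v : Fin 5 → ZMod 2) :
    P.linMap b v = vec (P.numMap b (num v)) := rfl

theorem linMap_mul (a b : ↥(Subgroup.normalizer (P.A₀ : Set G))) :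
    P.linMap (a * b) = (P.linMap a).comp (P.linMap b) := by
  refine LinearMap.ext fun v => ?_
  rw [LinearMap.comp_apply, linMap_apply, linMap_apply, linMap_apply, P.numMap_mul a b (num_lt v),
    num_facts.2.2 ⟨_, P.numMap_lt b (num v)⟩]

theorem linMap_one : P.linMap 1 = LinearMap.id := by
  refine LinearMap.ext fun v => ?_
  rw [linMap_apply, P.numMap_one (num_lt v), num_facts.2.1]
  rfl

/-- The action on the five coordinates. -/
noncomputable def toSL : ↥(Subgroup.normalizer (P.A₀ : Set G)) →* Matrix.SpecialLinearGroup (Fin 5) (ZMod 2) where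
  toFun x := ⟨LinearMap.toMatrix' (P.linMap x), CfsgLib.Transvection.det_eq_one
    (B := LinearMap.toMatrix' (P.linMap x⁻¹))
    (by rw [← LinearMap.toMatrix'_comp, ← P.linMap_mul, mul_inv_cancel, P.linMap_one, LinearMap.toMatrix'_id])⟩
  map_one' := Subtype.ext (by
    show LinearMap.toMatrix' (P.linMap 1) = 1
    rw [P.linMap_one, LinearMap.toMatrix'_id])
  map_mul' x y := Subtype.ext (by
    show LinearMap.toMatrix' (P.linMap (x * y)) = LinearMap.toMatrix' (P.linMap x) * LinearMap.toMatrix' (P.linMap y)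
    rw [P.linMap_mul, LinearMap.toMatrix'_comp])

theorem mem_A₀_of_toSL {b : ↥(Subgroup.normalizer (P.A₀ : Set G))} (h : P.toSL b = 1) : (b : G) ∈ P.A₀ := by
  have hlin : P.linMap b = LinearMap.id := by
    refine LinearMap.toMatrix'.injective ?_
    rw [LinearMap.toMatrix'_id]
    exact congrArg Subtype.val h
  have hnum : ∀ n, n < 32 → P.numMap b n = n := fun n hn => by
    have := congrArg (fun f : (Fin 5 → ZMod 2) →ₗ[ZMod 2] (Fin 5 → ZMod 2) => f (vec n)) hlin
    simp only [linMap_apply, LinearMap.id_apply] at this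
    have e := congrArg num this
    rwa [num_facts.2.2 ⟨_, P.numMap_lt b _⟩, num_facts.2.2 ⟨n, hn⟩] at e
  have hpt : ∀ p, P.ptMap b p = p := fun p => Fin.ext (by
    have := hnum (p.val + 1) (by have := p.isLt; omega)
    rw [P.numMap_pos] at this
    omega)
  have hline : ∀ i, P.lineMap b i = i := by
    intro i
    have hstar : ∀ p, P.lineMap b i ∈ star p ↔ i ∈ star p := fun p => by
      conv_lhs => rw [← hpt p]
      exact P.mem_star_map b
    have hl := line_cover.2.2.2.2.1
    have e : linePts.getD (P.lineMap b i).val 0 = linePts.getD i.val 0 := by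
      refine Nat.eq_of_testBit_eq fun p => ?_
      by_cases hp : p < 31
      · rw [Bool.eq_iff_iff, ← mem_star (p := ⟨p, hp⟩), ← mem_star (p := ⟨p, hp⟩)]
        exact hstar _
      · rw [Bool.eq_false_iff.2 fun hb => hp (bit_lt hb), Bool.eq_false_iff.2 fun hb => hp (bit_lt hb)]
    rw [List.getD_eq_getElem _ _ (hl.symm ▸ (P.lineMap b i).isLt), List.getD_eq_getElem _ _ (hl.symm ▸ i.isLt)] at e
    exact Fin.ext (line_cover.2.2.1.getElem_inj_iff.1 e)
  refine P.self_cent.le (Subgroup.mem_centralizer_iff.2 ?_)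
  have hfix : ∀ c, c < 1024 → zb c = true → (b : G) * P.aEl c * (b : G)⁻¹ = P.aEl c := by
    intro c hc hz
    have h := List.all_eq_true.1 line_cover.1 c (List.mem_range.2 hc)
    rw [show Nat.testBit zMask c = true from hz, Bool.not_true, Bool.false_or] at h
    obtain ⟨j, hj, e⟩ := List.getElem_of_mem (List.contains_iff_mem.1 h)
    have hj' : j < 155 := line_cover.2.2.2.1 ▸ hj
    have e' := P.lineMap_spec b ⟨j, hj'⟩
    rw [hline, lEl, List.getD_eq_getElem _ _ hj, e] at e'
    exact e'
  rintro _ ⟨c, hc, rfl⟩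
  have key : (b : G) * P.aEl c * (b : G)⁻¹ = P.aEl c := by
    refine xor_ext (fun a b => a * b) 10 (fun c => (b : G) * P.aEl c * (b : G)⁻¹) (fun c => P.aEl c)
      (fun x y hx hy => ?_) (fun x y hx hy => P.aEl_xor hx hy) ?_ (fun k hk => ?_) c hc
    · show (b : G) * P.aEl (Nat.xor x y) * (b : G)⁻¹ = _
      rw [P.aEl_xor hx hy]; group
    · show (b : G) * P.aEl 0 * (b : G)⁻¹ = P.aEl 0
      rw [P.aEl_zero, mul_one, mul_inv_cancel]
    · obtain ⟨a, ha, hab⟩ := List.any_eq_true.1 (List.all_eq_true.1 z_span.1 k (List.mem_range.2 hk))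
      rw [Bool.and_eq_true] at hab
      rw [List.mem_range] at ha
      have hk2 : 2 ^ k < 1024 := Nat.pow_lt_pow_right (by norm_num) hk
      have hx : Nat.xor (2 ^ k) a < 1024 := Nat.xor_lt_two_pow (n := 10) hk2 ha
      have e : P.aEl (2 ^ k) = P.aEl (Nat.xor (2 ^ k) a) * P.aEl a := by
        rw [← P.aEl_xor hx ha]
        exact congrArg _ (Nat.xor_xor_cancel_right (2 ^ k) a).symm
      show (b : G) * P.aEl (2 ^ k) * (b : G)⁻¹ = _
      rw [e, show (b : G) * (P.aEl (Nat.xor (2 ^ k) a) * P.aEl a) * (b : G)⁻¹ =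
        (b : G) * P.aEl (Nat.xor (2 ^ k) a) * (b : G)⁻¹ * ((b : G) * P.aEl a * (b : G)⁻¹) by group,
        hfix _ hx hab.2, hfix _ ha hab.1]
  exact (mul_inv_eq_iff_eq_mul.1 key).symm

/-- A complement is isomorphic to `SL(5, 2)`. -/
theorem complement_iso {B : Subgroup G} (hB : B ≤ Subgroup.normalizer (P.A₀ : Set G)) (hBA : B ⊓ P.A₀ = ⊥)
    (hcard : Nat.card B = 9999360) : Nonempty (↥B ≃* Matrix.SpecialLinearGroup (Fin 5) (ZMod 2)) := by
  let f : ↥B →* Matrix.SpecialLinearGroup (Fin 5) (ZMod 2) := P.toSL.comp (Subgroup.inclusion hB)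
  have hf : Function.Injective f := by
    rw [injective_iff_map_eq_one]
    intro x hx
    have : (x : G) ∈ B ⊓ P.A₀ := ⟨x.2, P.mem_A₀_of_toSL hx⟩
    rw [hBA, Subgroup.mem_bot] at this
    exact Subtype.ext this
  exact ⟨MulEquiv.ofBijective f (hf.bijective_of_nat_card_le (natCard_SL5_le.trans hcard.ge))⟩

end Pack

end CfsgLib.J4Type.Ten
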