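import Cfsg.Agent.Lib.J4Type.Ten.Witness
import Cfsg.Agent.Lib.J4Type.Model.Ctx
import Cfsg.Agent.Lib.J4Type.Moved

/-!
In Janko-four type: the subgroups of order `2^10` containing their centralisers are conjugate and their
normalisers have orbits of lengths `155` and `868`.
-/

set_option autoImplicit false
set_option linter.unusedSectionVars false

namespace CfsgLib.J4Type

universe u

namespace Ten.Pack

variable {G : Type u} [Group G] [Finite G] {z : G} {V : Subgroup G} (P : Pack z V)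

/-- Every elementary abelian subgroup of order `2^10` containing its centraliser is conjugate to `A₀`. -/
theorem exists_conj_eq {A : Subgroup G} (hA : Cfsg.IsElementaryAbelian 2 A) (hc : Nat.card A = 2 ^ 10)
    (hs : Subgroup.centralizer (A : Set G) = A) : ∃ g : G, A.map (MulAut.conj g).toMonoidHom = P.A₀ := by
  have : Fact (Nat.Prime 2) := ⟨Nat.prime_two⟩
  obtain ⟨g, hg⟩ := P.two_to_norm A (IsPGroup.of_card (n := 10) hc)
  have hcand : Cand P.toLoc (A.map (MulAut.conj g).toMonoidHom) := by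
    refine ⟨?_, elementary_map hA _, ?_, fun x hx => ?_⟩
    · rintro _ ⟨a, ha, rfl⟩
      exact hg a ha
    · rw [Subgroup.card_map_of_injective (MulEquiv.injective _), hc]
      norm_num
    · refine ⟨g⁻¹ * x * g, ?_, show g * (g⁻¹ * x * g) * g⁻¹ = x by group⟩
      rw [SetLike.mem_coe, ← hs]
      refine Subgroup.mem_centralizer_iff.2 fun a ha => ?_
      have h : g * a * g⁻¹ * x = x * (g * a * g⁻¹) := Subgroup.mem_centralizer_iff.1 hx _ ⟨a, ha, rfl⟩
      calc a * (g⁻¹ * x * g) = g⁻¹ * (g * a * g⁻¹ * x) * g := by group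
        _ = g⁻¹ * (x * (g * a * g⁻¹)) * g := by rw [h]
        _ = g⁻¹ * x * g * a := by group
  obtain ⟨m, -, hm⟩ := hcand.exists_conj
  refine ⟨m * g, ?_⟩
  rw [← hm, Subgroup.map_map]
  congr 1
  ext a
  show m * g * a * (m * g)⁻¹ = m * (g * a * g⁻¹) * m⁻¹
  group

include P in
/-- The two orbits, for every such subgroup. -/
theorem orbits {A : Subgroup G} (hA : Cfsg.IsElementaryAbelian 2 A) (hc : Nat.card A = 2 ^ 10)
    (hs : Subgroup.centralizer (A : Set G) = A) :
    ∃ a b : G, a ∈ A ∧ b ∈ A ∧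
      Set.ncard {v : G | ∃ n ∈ Subgroup.normalizer (A : Set G), n * a * n⁻¹ = v} = 155 ∧
      Set.ncard {v : G | ∃ n ∈ Subgroup.normalizer (A : Set G), n * b * n⁻¹ = v} = 868 := by
  obtain ⟨g, hg⟩ := P.exists_conj_eq hA hc hs
  have hN : ∀ n, n ∈ Subgroup.normalizer (A : Set G) ↔
      g * n * g⁻¹ ∈ Subgroup.normalizer (P.A₀ : Set G) := by
    intro n
    rw [← hg, ← Subgroup.map_equiv_normalizer_eq A (MulAut.conj g)]
    exact (Subgroup.mem_map_iff_mem (MulAut.conj g).injective).symm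
  have hmem : ∀ {c}, c ∈ P.A₀ → g⁻¹ * c * g ∈ A := fun {c} hc => by
    rw [← hg] at hc
    obtain ⟨a, ha, rfl⟩ := hc
    show g⁻¹ * (g * a * g⁻¹) * g ∈ A
    rwa [show g⁻¹ * (g * a * g⁻¹) * g = a by group]
  have horb : ∀ a : G, {v : G | ∃ n ∈ Subgroup.normalizer (A : Set G), n * (g⁻¹ * a * g) * n⁻¹ = v} =
      (fun y => g⁻¹ * y * g) '' {y : G | ∃ h ∈ Subgroup.normalizer (P.A₀ : Set G), h * a * h⁻¹ = y} := by
    intro a
    ext v
    constructor
    · rintro ⟨n, hn, rfl⟩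
      exact ⟨_, ⟨g * n * g⁻¹, (hN n).1 hn, rfl⟩, by group⟩
    · rintro ⟨_, ⟨h, hh, rfl⟩, rfl⟩
      refine ⟨g⁻¹ * h * g, (hN _).2 ?_, by group⟩
      rwa [show g * (g⁻¹ * h * g) * g⁻¹ = h by group]
  have hinj : Function.Injective fun y : G => g⁻¹ * y * g := fun a b e => mul_left_cancel (mul_right_cancel e)
  refine ⟨g⁻¹ * P.aEl 7 * g, g⁻¹ * P.aEl 1 * g, hmem ⟨7, by norm_num, rfl⟩, hmem ⟨1, by norm_num, rfl⟩, ?_, ?_⟩
  · rw [horb, Set.ncard_image_of_injective _ hinj, P.ncard_orbit_z]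
  · rw [horb, Set.ncard_image_of_injective _ hinj, P.ncard_orbit_nc]

end Ten.Pack

/-- In Janko-four type there is a subgroup of order `2^11` with everything needed. -/
theorem exists_ten_pack {G : Type u} [Group G] [Finite G] [IsSimpleGroup G] (hG : ¬ IsMulCommutative G)
    (hJ : Cfsg.IsOfJankoFourType G) : ∃ (z : G) (V : Subgroup G), Nonempty (Ten.Pack z V) := by
  obtain ⟨z, P, h⟩ := hJ
  obtain ⟨X⟩ := exists_ctx h
  exact ⟨z, X.Vg, X.exists_pack (X.exists_moved hG)⟩

end CfsgLib.J4Type
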