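import Cfsg.Agent.Lib.J4Type.Ten.Sub
import Cfsg.Agent.Lib.J4Type.Ten.Bound
import Cfsg.Agent.Lib.J4Type.Section

/-!
The normaliser of the subgroup of order `2^10` inside the normaliser of the subgroup of order `2^11`: the
product with a copy of the octad stabiliser, and its four orbits.
-/

set_option autoImplicit false
set_option linter.unusedSectionVars false
set_option maxRecDepth 20000

namespace CfsgLib.J4Type.Ten

open scoped Pointwise
open CfsgLib.Golay (pt idx toList genOK comp baseOctad octH)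
open CfsgLib.FischerTwoFour.Cocode (card_orbit_mul isConj_conj_iff)

universe u

theorem low_z_not_pair : ((List.range 24).all fun a => (List.range 24).all fun b => Nat.beq a b ||
    !(Nat.blt (pc a b) 64) || !(Nat.testBit zMask (pc a b))) = true := by
  decide +kernel

theorem xor_rot (a b c : ℕ) : Nat.xor (Nat.xor a b) c = Nat.xor b (Nat.xor a c) := by
  show (a ^^^ b) ^^^ c = b ^^^ (a ^^^ c)
  ac_rfl

theorem pn4_notMem : pn 4 ∉ baseOctad := by
  rw [mem_base, idx_pn (by norm_num), t_check.2.2]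
  simp

/-- The pair part of the lift of an element of the octad stabiliser. -/
def dc (σ : ↥Cfsg.M24) : ℕ := pc 4 (idx ((σ : Equiv.Perm Cfsg.GolayPt) (pn 4))).val

theorem dc_lt (σ : ↥Cfsg.M24) : dc σ < 2048 := pc_lt _ _

theorem dc_tl {t : ℕ} (ht : t < 16) : dc (tl t) / 64 = t := by
  have h := List.all_eq_true.1 t_check.1 t (List.mem_range.2 ht)
  simp only [Bool.and_eq_true] at h
  rw [dc, tl, ofList_apply (genOK_tList ht) 4 (by norm_num)]
  exact Nat.eq_of_beq_eq_true h.1.2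

theorem affine_low {t : ℕ} (ht : t < 16) {Q : Cfsg.GolayPt} (hQ : Q ∉ baseOctad) :
    Nat.xor (dc (tl t)) (pc (idx Q).val (idx ((tl t : Equiv.Perm Cfsg.GolayPt) Q)).val) < 64 := by
  rw [mem_base, Bool.not_eq_true] at hQ
  have h := List.all_eq_true.1 oct_pairs.2 (idx Q).val (List.mem_range.2 (idx Q).isLt)
  rw [hQ, Bool.false_or] at h
  have h' := List.all_eq_true.1 h t (List.mem_range.2 ht)
  rw [dc, tl, ofList_apply (genOK_tList ht) 4 (by norm_num), ← CfsgLib.Golay.toList_getD,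
    toList_ofList (genOK_tList ht)]
  exact Nat.le_of_ble_eq_true h'

theorem spread_sound {P : ℕ → Prop} (cols : List (List ℕ))
    (hP : ∀ g ∈ cols, ∀ c, c < 1024 → P c → P (app g c)) :
    ∀ n m, (∀ i, m.testBit i = true → P i) → ∀ i, (spread cols n m).testBit i = true → P i
  | 0, m, hm => hm
  | n + 1, m, hm => by
    refine spread_sound cols hP n _ ?_
    have inner : ∀ (c : ℕ), c < 1024 → P c → ∀ (l : List (List ℕ)), (∀ g ∈ l, g ∈ cols) → ∀ acc : ℕ,
        (∀ i, acc.testBit i = true → P i) →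
        ∀ i, (l.foldl (fun a g => Nat.lor a (2 ^ app g c)) acc).testBit i = true → P i := by
      intro c hc hPc l hl acc ha i hi
      rcases (foldl_lor _ _ _ _).1 hi with h | ⟨g, hg, rfl⟩
      · exact ha i h
      · exact hP g (hl g hg) c hc hPc
    have outer : ∀ (l : List ℕ), (∀ c ∈ l, c < 1024) → ∀ acc : ℕ, (∀ i, acc.testBit i = true → P i) →
        ∀ i, (l.foldl (fun acc c => if Nat.testBit m c then cols.foldl (fun a g => Nat.lor a (2 ^ app g c)) acc
          else acc) acc).testBit i = true → P i := by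
      intro l
      induction l with
      | nil => exact fun _ acc ha => ha
      | cons c l ih =>
        intro hl acc ha
        refine ih (fun d hd => hl d (List.mem_cons_of_mem _ hd)) _ ?_
        by_cases hb : m.testBit c = true
        · show ∀ i, (if m.testBit c then _ else _ : ℕ).testBit i = true → P i
          rw [if_pos hb]
          exact inner c (hl c List.mem_cons_self) (hm c hb) cols (fun g hg => hg) acc ha
        · show ∀ i, (if m.testBit c then _ else _ : ℕ).testBit i = true → P i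
          rw [if_neg hb]; exact ha
    exact outer _ (fun c hc => List.mem_range.1 hc) m hm

variable {G : Type u} [Group G] [Finite G] {z : G} {V : Subgroup G}

namespace Co

variable (C : Co z V)

theorem aEl_form {w t : ℕ} (hw : w < 64) : C.aEl (w + 64 * t) = C.enc w * C.ψ (tl t) := by
  rw [aEl, Nat.add_mul_mod_self_left, Nat.add_mul_div_left _ _ (by norm_num), Nat.mod_eq_of_lt hw,
    Nat.div_eq_of_lt hw, Nat.zero_add]

theorem aEl_mem_V {c : ℕ} (hc : c < 1024) (h : C.aEl c ∈ V) : c < 64 := by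
  have hψ : C.ψ (tl (c / 64)) ∈ V := by
    have := V.mul_mem (C.enc_mem (c % 64)) h
    rwa [aEl, ← mul_assoc, C.enc_sq, one_mul] at this
  have e := tl_inj (show c / 64 < 16 by omega) (show 0 < 16 by norm_num) ((C.ψ_disjoint _ hψ).trans tl_zero.symm)
  omega

include C in
theorem act_dc (σ τ : ↥Cfsg.M24) : Nat.xor (dc σ) (act σ (dc τ)) = dc (σ * τ) := by
  have e := C.act_pc σ (pn 4) ((τ : Equiv.Perm Cfsg.GolayPt) (pn 4))
  rw [idx_pn (show 4 < 24 by norm_num)] at e
  rw [dc, dc, e, pc_comm 4, pc_add]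
  rfl

theorem dc_one : dc 1 = 0 := by
  show pc 4 (idx (pn 4)).val = 0
  rw [idx_pn (show 4 < 24 by norm_num), pc_self]

/-- The lift of the octad stabiliser normalising the subgroup of order `2^10`. -/
def cHom : ↥octH →* G where
  toFun σ := C.enc (dc σ.1) * C.ψ σ.1
  map_one' := by
    show C.enc (dc 1) * C.ψ 1 = 1
    rw [dc_one, C.enc_zero, map_one, one_mul]
  map_mul' σ τ := by
    rw [C.form_mul (dc_lt _), C.act_dc]
    rfl

theorem cHom_apply (σ : ↥octH) : C.cHom σ = C.enc (dc σ.1) * C.ψ σ.1 := rfl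

theorem cHom_mem_normalizer (σ : ↥octH) : C.cHom σ ∈ Subgroup.normalizer (V : Set G) :=
  mul_mem (Subgroup.le_normalizer (C.enc_mem _)) (C.ψ_mem _)

include C in
theorem act_low {σ : ↥Cfsg.M24} (hσ : σ ∈ octH) {w : ℕ} (hw : w < 64) : act σ w < 64 := by
  have hcols : ∀ k, k < 6 → act σ (2 ^ k) < 64 := fun k hk => by
    rw [act_two_pow σ (by omega)]
    have hmask : ∀ k : Fin 6, Nat.testBit 8536111 (pairTab.getD k.val (0, 0)).1 = true ∧
        Nat.testBit 8536111 (pairTab.getD k.val (0, 0)).2 = true ∧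
        (pairTab.getD k.val (0, 0)).1 < 24 ∧ (pairTab.getD k.val (0, 0)).2 < 24 := by decide
    obtain ⟨h1, h2, l1, l2⟩ := hmask ⟨k, hk⟩
    set P := (σ : Equiv.Perm Cfsg.GolayPt) (pn (pairTab.getD k (0, 0)).1)
    set Q := (σ : Equiv.Perm Cfsg.GolayPt) (pn (pairTab.getD k (0, 0)).2)
    by_cases e : P = Q
    · rw [e, pc_self]; norm_num
    · exact (mask_pairs e).2 ⟨(octH_apply hσ _).2 (mem_base.2 (by rw [idx_pn l1]; exact h1)),
        (octH_apply hσ _).2 (mem_base.2 (by rw [idx_pn l2]; exact h2))⟩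
  have h := app_eq_of_units (fun v => act σ v) (fun v => app ((pcols (toList (σ : Equiv.Perm Cfsg.GolayPt))).take 6) v)
    (act_xor σ) (app_xor _) (k := 6) (fun i hi => by
      show act σ (2 ^ i) = _
      rw [act, app_two_pow, app_two_pow]
      simp [List.getD_eq_getElem?_getD, List.getElem?_take, hi]) hw
  show act σ w < 64
  rw [h]
  refine app_lt (k := 6) _ _ fun c hc => ?_
  obtain ⟨i, hi, rfl⟩ := List.getElem_of_mem hc
  rw [List.length_take] at hi
  have := hcols i (by omega)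
  rw [act, app_two_pow, List.getD_eq_getElem _ _ (by omega)] at this
  simpa [List.getElem_take] using this

theorem conj_aEl_low (σ : ↥octH) {w : ℕ} (hw : w < 64) :
    C.cHom σ * C.enc w * (C.cHom σ)⁻¹ = C.enc (act σ.1 w) := by
  rw [cHom_apply, ← C.enc_inv (dc σ.1)]
  calc (C.enc (dc σ.1))⁻¹ * C.ψ σ.1 * C.enc w * ((C.enc (dc σ.1))⁻¹ * C.ψ σ.1)⁻¹
      = (C.enc (dc σ.1))⁻¹ * (C.ψ σ.1 * C.enc w * (C.ψ σ.1)⁻¹) * C.enc (dc σ.1) := by group
    _ = _ := by rw [C.conj _ _ (by omega), C.enc_inv, C.enc_comm, mul_assoc, C.enc_sq, mul_one]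

theorem conj_high (σ : ↥octH) {t t' : ℕ} (ht' : t' < 16) (he : σ.1 * tl t * σ.1⁻¹ = tl t') :
    C.cHom σ * C.ψ (tl t) * (C.cHom σ)⁻¹ = C.enc (Nat.xor (dc σ.1) (act (tl t') (dc σ.1))) * C.ψ (tl t') := by
  rw [C.enc_xor, ← C.conj _ _ (dc_lt _), cHom_apply, ← he, map_mul, map_mul, map_inv]
  calc C.enc (dc σ.1) * C.ψ σ.1 * C.ψ (tl t) * (C.enc (dc σ.1) * C.ψ σ.1)⁻¹
      = C.enc (dc σ.1) * (C.ψ σ.1 * C.ψ (tl t) * (C.ψ σ.1)⁻¹) * (C.enc (dc σ.1))⁻¹ := by group
    _ = _ := by rw [C.enc_inv]; group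

include C in
theorem shift_low (σ : ↥octH) {t' : ℕ} (ht' : t' < 16) : Nat.xor (dc σ.1) (act (tl t') (dc σ.1)) < 64 := by
  set Q := (σ.1 : Equiv.Perm Cfsg.GolayPt) (pn 4)
  have hQ : Q ∉ baseOctad := fun h => pn4_notMem ((octH_apply σ.2 _).1 h)
  have e := C.act_pc (tl t') (pn 4) Q
  rw [idx_pn (show 4 < 24 by norm_num)] at e
  have h := affine_low ht' hQ
  have e2 : Nat.xor (dc σ.1) (act (tl t') (dc σ.1)) =
      Nat.xor (dc (tl t')) (pc (idx Q).val (idx ((tl t' : Equiv.Perm Cfsg.GolayPt) Q)).val) := by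
    rw [show dc σ.1 = pc 4 (idx Q).val from rfl, e, dc]
    show (proj 4 ^^^ proj _) ^^^ (proj _ ^^^ proj _) = (proj 4 ^^^ proj _) ^^^ (proj _ ^^^ proj _)
    ac_rfl
  omega

theorem cHom_normalizes (σ : ↥octH) : C.cHom σ ∈ Subgroup.normalizer (C.A₀ : Set G) := by
  refine Subgroup.mem_normalizer_fintype fun a ha => ?_
  obtain ⟨c, hc, rfl⟩ := ha
  obtain ⟨t', ht', he⟩ := conj_tl σ.2 (show c / 64 < 16 by omega)
  have h1 := C.conj_aEl_low σ (w := c % 64) (Nat.mod_lt _ (by norm_num))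
  have h2 := C.conj_high σ ht' he
  have hw1 := C.act_low σ.2 (w := c % 64) (Nat.mod_lt _ (by norm_num))
  have hw := C.shift_low σ ht'
  set e := Nat.xor (act σ.1 (c % 64)) (Nat.xor (dc σ.1) (act (tl t') (dc σ.1))) with he'
  have hlt : e < 64 := Nat.xor_lt_two_pow (n := 6) hw1 hw
  refine ⟨e + 64 * t', by omega, ?_⟩
  rw [C.aEl_form hlt, he', C.enc_xor, mul_assoc, ← h2, ← h1, aEl]
  group

/-- The normaliser of both subgroups. -/
def nn : Subgroup G := Subgroup.normalizer (C.A₀ : Set G) ⊓ Subgroup.normalizer (V : Set G)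

theorem cHom_mem (σ : ↥octH) : C.cHom σ ∈ C.nn := ⟨C.cHom_normalizes σ, C.cHom_mem_normalizer σ⟩

theorem A₀_le_nn : C.A₀ ≤ C.nn := fun a ha => ⟨Subgroup.le_normalizer ha, by
  obtain ⟨c, -, rfl⟩ := ha
  exact mul_mem (Subgroup.le_normalizer (C.enc_mem _)) (C.ψ_mem _)⟩

/-- Two codes are related if the elements are conjugate under the normaliser of both subgroups. -/
def Rel (c d : ℕ) : Prop := ∃ n ∈ C.nn, n * C.aEl c * n⁻¹ = C.aEl d

theorem rel_gen {g : ℕ} (hg : g < 3) {c : ℕ} (hc : c < 1024) :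
    ∃ σ : ↥octH, C.cHom σ * C.aEl c * (C.cHom σ)⁻¹ = C.aEl (app (colsC10.getD g []) c) := by
  have h := List.all_eq_true.1 genC_check g (List.mem_range.2 hg)
  simp only [Bool.and_eq_true] at h
  obtain ⟨⟨hok, hmask⟩, hcols⟩ := h
  have hl := toList_ofList hok
  let σ : ↥octH := ⟨ofList (genC.getD g []),
    mem_octH_of_pmap (by rw [hl]; exact Nat.eq_of_beq_eq_true hmask)⟩
  have hunit : ∀ k, k < 10 → app (colsC10.getD g []) (2 ^ k) < 1024 ∧
      C.cHom σ * C.aEl (2 ^ k) * (C.cHom σ)⁻¹ = C.aEl (app (colsC10.getD g []) (2 ^ k)) := by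
    intro k hk
    have h := List.all_eq_true.1 hcols k (List.mem_range.2 hk)
    simp only [Bool.and_eq_true] at h
    obtain ⟨⟨hr, hcomp⟩, hlow⟩ := h
    set r := app (colsC10.getD g []) (2 ^ k)
    have hr' : r < 1024 := Nat.le_of_ble_eq_true hr
    have h2k : 2 ^ k < 1024 := Nat.pow_lt_pow_right (by norm_num) hk
    refine ⟨hr', ?_⟩
    have ht : 2 ^ k / 64 < 16 := by omega
    have ht' : r / 64 < 16 := by omega
    have he : σ.1 * tl (2 ^ k / 64) * σ.1⁻¹ = tl (r / 64) := by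
      rw [mul_inv_eq_iff_eq_mul]
      refine ext_list ?_
      rw [toList_mul', toList_mul', hl, tl, tl, toList_ofList (genOK_tList ht), toList_ofList (genOK_tList ht')]
      exact eq_of_beq hcomp
    have h1 := C.conj_aEl_low σ (w := 2 ^ k % 64) (Nat.mod_lt _ (by norm_num))
    have h2 := C.conj_high σ ht' he
    have e : r % 64 = Nat.xor (act σ.1 (2 ^ k % 64)) (Nat.xor (dc σ.1) (act (tl (r / 64)) (dc σ.1))) := by
      rw [← Nat.eq_of_beq_eq_true hlow, act_tl ht', act, hl,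
        show dc σ.1 = dcode (genC.getD g []) by rw [dc, dcode, ← hl, ← CfsgLib.Golay.toList_getD, idx_pn (show 4 < 24 by norm_num)]]
      exact xor_rot _ _ _
    rw [aEl, aEl, e, C.enc_xor]
    conv_rhs => rw [mul_assoc, ← h2, ← h1]
    group
  refine ⟨σ, ?_⟩
  have hlt : ∀ c, app (colsC10.getD g []) c < 1024 := fun c => app_lt (k := 10) _ _ fun x hx => by
    have : ∀ g : Fin 3, ∀ x ∈ colsC10.getD g.val [], x < 1024 := by decide
    exact this ⟨g, hg⟩ x hx
  refine xor_ext (fun a b => a * b) 10 (fun c => C.cHom σ * C.aEl c * (C.cHom σ)⁻¹)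
    (fun c => C.aEl (app (colsC10.getD g []) c)) (fun a b ha hb => ?_) (fun a b _ _ => ?_) ?_
    (fun k hk => (hunit k hk).2) c hc
  · show C.cHom σ * C.aEl (Nat.xor a b) * (C.cHom σ)⁻¹ = _
    rw [C.aEl_xor ha hb]; group
  · show C.aEl (app _ (Nat.xor a b)) = _
    rw [app_xor, C.aEl_xor (hlt a) (hlt b)]
  · show C.cHom σ * C.aEl 0 * (C.cHom σ)⁻¹ = C.aEl (app _ 0)
    rw [app_zero, C.aEl_zero, mul_one, mul_inv_cancel]

theorem rel_of_spread {r n : ℕ} : ∀ c, (spread colsC10 n (2 ^ r)).testBit c = true → C.Rel r c := by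
  refine spread_sound (P := fun c => C.Rel r c) colsC10 ?_ n _ ?_
  · rintro gl hgl c hc ⟨m, hm, e⟩
    obtain ⟨i, hi, rfl⟩ := List.getElem_of_mem hgl
    have hi3 : i < 3 := hi
    obtain ⟨σ, hσ⟩ := C.rel_gen hi3 hc
    rw [List.getD_eq_getElem _ _ hi] at hσ
    refine ⟨C.cHom σ * m, C.nn.mul_mem (C.cHom_mem σ) hm, ?_⟩
    rw [← hσ, ← e]; group
  · intro i hi
    rw [Nat.testBit_two_pow, decide_eq_true_eq] at hi
    subst hi
    exact ⟨1, one_mem _, by group⟩

theorem orbit_cases {c : ℕ} (hc : c < 1024) (h0 : c ≠ 0) :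
    C.Rel (if c < 64 then (if zMask.testBit c then 7 else 1) else (if zMask.testBit c then 64 else 65)) c := by
  have hlow : ∀ i, lowBits.testBit i = decide (i < 64) := fun i => Nat.testBit_two_pow_sub_one 64 i
  have hlz : lowZ.testBit c = (zMask.testBit c && decide (c < 64)) := by
    show (zMask &&& lowBits).testBit c = _
    rw [Nat.testBit_and, hlow]
  by_cases h64 : c < 64 <;> by_cases hz : zMask.testBit c = true <;> simp only [h64, hz, if_true, if_false, Bool.false_eq_true]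
  · refine C.rel_of_spread (n := 5) c ?_
    rw [Nat.eq_of_beq_eq_true orbit_low.2, hlz, hz]; simp [h64]
  · refine C.rel_of_spread (n := 5) c ?_
    rw [Nat.eq_of_beq_eq_true orbit_low.1]
    show ((lowBits - 1) ^^^ lowZ).testBit c = true
    rw [Nat.testBit_xor, hlz, Bool.eq_false_iff.2 hz]
    have e : (lowBits - 1).testBit c = true := by
      have h1 : ∀ c : Fin 64, c.val ≠ 0 → (lowBits - 1).testBit c.val = true := by decide +kernel
      exact h1 ⟨c, h64⟩ h0
    simp [e]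
  · refine C.rel_of_spread (n := 7) c ?_
    rw [Nat.eq_of_beq_eq_true orbit_highZ]
    show (zMask ^^^ lowZ).testBit c = true
    rw [Nat.testBit_xor, hlz, hz]; simp [h64]
  · refine C.rel_of_spread (n := 9) c ?_
    rw [Nat.eq_of_beq_eq_true orbit_highN]
    show (((2 ^ 1024 - 2 ^ 64) ^^^ zMask) ^^^ lowZ).testBit c = true
    have e : (2 ^ 1024 - 2 ^ 64).testBit c = true := by
      have e' : (2 : ℕ) ^ 1024 - 2 ^ 64 = 2 ^ 64 * (2 ^ 960 - 1) := by decide +kernel
      rw [e', Nat.testBit_two_pow_mul, Nat.testBit_two_pow_sub_one]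
      simp only [Bool.and_eq_true, decide_eq_true_eq]
      omega
    rw [Nat.testBit_xor, Nat.testBit_xor, hlz, e, Bool.eq_false_iff.2 hz]; simp

theorem isConj_of_rel {c d : ℕ} (h : C.Rel c d) : IsConj z (C.aEl c) ↔ IsConj z (C.aEl d) := by
  obtain ⟨n, -, e⟩ := h
  rw [← e]
  exact (isConj_conj_iff n _).symm

/-- In `V` the conjugates of `z` in the subgroup of order `2^10` are those marked. -/
theorem low_class {w : ℕ} (hw : w < 64) (h0 : w ≠ 0) :
    IsConj z (C.enc w) ↔ zMask.testBit w = true := by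
  have h7 : IsConj z (C.enc 7) := by
    by_contra hn
    obtain ⟨a, b, ha, hb, hab, e⟩ := C.nc_pair 7 (by norm_num) (by norm_num) hn
    have h := List.all_eq_true.1 (List.all_eq_true.1 low_z_not_pair a (List.mem_range.2 ha)) b (List.mem_range.2 hb)
    rw [e] at h
    simp only [Bool.or_eq_true, Bool.not_eq_true'] at h
    rcases h with (h | h) | h
    · exact hab (Nat.eq_of_beq_eq_true h)
    · exact absurd h (by decide)
    · exact absurd h (by decide +kernel)
  have h1 : ¬ IsConj z (C.enc 1) := (C.pair_nc 0 23 (by norm_num) (by norm_num) (by norm_num)).2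
  have h := C.orbit_cases (show w < 1024 by omega) h0
  rw [if_pos hw] at h
  by_cases hz : zMask.testBit w = true
  · rw [if_pos hz] at h
    have e := C.isConj_of_rel h
    rw [C.aEl_low (show 7 < 64 by norm_num), C.aEl_low hw] at e
    exact ⟨fun _ => hz, fun _ => e.1 h7⟩
  · rw [if_neg hz] at h
    have e := C.isConj_of_rel h
    rw [C.aEl_low (show 1 < 64 by norm_num), C.aEl_low hw] at e
    exact ⟨fun hc => absurd (e.2 hc) h1, fun hc => absurd hc hz⟩

theorem mem_nn {x : G} (hx : x ∈ C.nn) : ∃ a ∈ C.A₀, ∃ σ : ↥octH, x = a * C.cHom σ := by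
  obtain ⟨hxA, hxV⟩ := hx
  obtain ⟨σ, v, hv, rfl⟩ := C.split x hxV
  have hact : ∀ w, w < 64 → act σ w < 64 := by
    intro w hw
    have h : C.enc v * C.ψ σ * C.enc w * (C.enc v * C.ψ σ)⁻¹ ∈ C.A₀ :=
      (Subgroup.mem_normalizer_iff.1 hxA _).1 ⟨w, by omega, C.aEl_low hw⟩
    have e : C.enc v * C.ψ σ * C.enc w * (C.enc v * C.ψ σ)⁻¹ = C.enc (act σ w) := by
      rw [show C.enc v * C.ψ σ * C.enc w * (C.enc v * C.ψ σ)⁻¹ =
        C.enc v * (C.ψ σ * C.enc w * (C.ψ σ)⁻¹) * (C.enc v)⁻¹ by group, C.conj _ _ (by omega), C.enc_comm,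
        mul_inv_cancel_right]
    rw [e] at h
    obtain ⟨c, hc, ec⟩ := h
    have h64 := C.aEl_mem_V hc (ec ▸ C.enc_mem _)
    rw [C.aEl_low h64] at ec
    rw [← C.enc_inj _ _ (by omega) (act_lt _ _) ec]
    exact h64
  have hσ : σ ∈ octH := by
    refine Finset.eq_of_subset_of_card_le (fun p hp => ?_) (by rw [Finset.card_smul_finset])
    obtain ⟨P, hP, rfl⟩ := Finset.mem_smul_finset.mp hp
    obtain ⟨Q, hQ, hQP⟩ := Finset.exists_mem_ne (s := baseOctad)
      (by rw [CfsgLib.Golay.card_of_mem_octads CfsgLib.Golay.baseOctad_mem]; norm_num) P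
    have h := hact _ ((mask_pairs hQP.symm).2 ⟨hP, hQ⟩)
    rw [C.act_pc] at h
    exact ((mask_pairs ((σ : Equiv.Perm Cfsg.GolayPt).injective.ne hQP.symm)).1 h).1
  set c : ↥octH := ⟨σ, hσ⟩
  have hv' : C.enc (Nat.xor v (dc σ)) ∈ Subgroup.normalizer (C.A₀ : Set G) := by
    have h : C.enc v * C.ψ σ * (C.cHom c)⁻¹ ∈ Subgroup.normalizer (C.A₀ : Set G) :=
      Subgroup.mul_mem _ hxA (Subgroup.inv_mem _ (C.cHom_normalizes c))
    rw [cHom_apply, mul_inv_rev, mul_assoc, ← mul_assoc (C.ψ σ), mul_inv_cancel, one_mul, C.enc_inv] at h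
    rwa [C.enc_xor]
  obtain ⟨v', hv'def⟩ : ∃ v', v' = Nat.xor v (dc σ) := ⟨_, rfl⟩
  rw [← hv'def] at hv'
  have hv'lt : v' < 2048 := hv'def ▸ Nat.xor_lt_two_pow (n := 11) hv (dc_lt _)
  have hshift : ∀ t, t < 16 → Nat.xor (tAct t v') v' < 64 := by
    intro t ht
    obtain ⟨c', hc', e⟩ : C.enc v' * C.aEl (64 * t) * (C.enc v')⁻¹ ∈ C.A₀ :=
      (Subgroup.mem_normalizer_iff.1 hv' _).1 ⟨64 * t, by omega, rfl⟩
    rw [C.aEl_high ht] at e
    have e2 : C.enc v' * C.ψ (tl t) * (C.enc v')⁻¹ = C.enc (Nat.xor (act (tl t) v') v') * C.ψ (tl t) := by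
      rw [C.enc_xor, ← C.conj _ _ hv'lt, C.enc_inv]
      have hc : C.ψ (tl t) * C.enc v' * (C.ψ (tl t))⁻¹ * C.enc v' = C.enc v' * (C.ψ (tl t) * C.enc v' * (C.ψ (tl t))⁻¹) := by
        rw [C.conj _ _ hv'lt, C.enc_comm]
      rw [hc]; group
    have h := C.form_inj (show c' % 64 < 2048 by omega) (Nat.xor_lt_two_pow (n := 11) (act_lt _ _) hv'lt) (e.trans e2)
    rw [← act_tl ht]
    show act (tl t) v' ^^^ v' < 64
    rw [← h.1]
    exact Nat.mod_lt _ (by norm_num)
  have h1024 : v' < 1024 := by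
    by_contra hge
    obtain ⟨t, ht, hne⟩ := List.any_eq_true.1
      (List.all_eq_true.1 t_shift.2.2 (v' - 1024) (List.mem_range.2 (by omega)))
    have ht16 : t < 16 := by
      rcases List.mem_cons.1 ht with rfl | ht
      · norm_num
      rcases List.mem_cons.1 ht with rfl | ht
      · norm_num
      rcases List.mem_cons.1 ht with rfl | ht
      · norm_num
      rcases List.mem_cons.1 ht with rfl | ht
      · norm_num
      exact absurd ht List.not_mem_nil
    rw [show 1024 + (v' - 1024) = v' by omega] at hne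
    have := hshift t ht16
    rw [Bool.not_eq_true'] at hne
    exact Bool.eq_false_iff.1 hne (Nat.ble_eq_true_of_le this)
  set t := v' / 64 with htdef
  have ht : t < 16 := by omega
  set r := Nat.xor v' (dc (tl t)) with hrdef
  have hr : r < 64 := by
    have h := Nat.xor_div_two_pow (a := v') (b := dc (tl t)) (n := 6)
    rw [show (2 : ℕ) ^ 6 = 64 from rfl, dc_tl ht, Nat.xor_self] at h
    have : (v' ^^^ dc (tl t)) < 64 := by omega
    exact this
  have hpres : C.enc v' = C.enc r * C.ψ (tl t) * (C.cHom ⟨tl t, tl_mem_octH ht⟩)⁻¹ := by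
    rw [hrdef, C.enc_xor, cHom_apply, mul_inv_rev, C.enc_inv]
    show C.enc v' = C.enc v' * C.enc (dc (tl t)) * C.ψ (tl t) * ((C.ψ (tl t))⁻¹ * C.enc (dc (tl t)))
    rw [mul_assoc, mul_inv_cancel_left, mul_assoc, C.enc_sq, mul_one]
  refine ⟨C.aEl (r + 64 * t), ⟨_, by omega, rfl⟩, ⟨tl t, tl_mem_octH ht⟩⁻¹ * c, ?_⟩
  rw [C.aEl_form hr, map_mul, map_inv, ← mul_assoc, ← hpres, cHom_apply, ← mul_assoc, ← C.enc_xor,
    hv'def, show Nat.xor (Nat.xor v (dc σ)) (dc c.1) = v from Nat.xor_xor_cancel_right v (dc σ)]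

theorem cHom_not_mem {σ : ↥octH} (h : C.cHom σ ∈ C.A₀) : σ = 1 := by
  obtain ⟨c, hc, e⟩ := h
  rw [cHom_apply] at e
  obtain ⟨h1, h2⟩ := C.form_inj (show c % 64 < 2048 by omega) (dc_lt _) e
  have ht : c / 64 < 16 := by omega
  have h3 := dc_tl ht
  rw [h2, ← h1] at h3
  have h0 : c / 64 = 0 := by omega
  exact Subtype.ext (h2.symm.trans (by rw [h0, tl_zero]; rfl))

theorem card_nn : Nat.card C.nn = 1024 * 322560 := by
  let f : C.A₀ × ↥octH → C.nn := fun p => ⟨p.1.1 * C.cHom p.2, C.nn.mul_mem (C.A₀_le_nn p.1.2) (C.cHom_mem p.2)⟩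
  have hf : Function.Bijective f := by
    refine ⟨fun p q e => ?_, fun ⟨x, hx⟩ => ?_⟩
    · have e' : p.1.1 * C.cHom p.2 = q.1.1 * C.cHom q.2 := congrArg Subtype.val e
      have h : C.cHom (q.2 * p.2⁻¹) ∈ C.A₀ := by
        rw [map_mul, map_inv, show C.cHom q.2 * (C.cHom p.2)⁻¹ = q.1.1⁻¹ * p.1.1 by
          rw [mul_inv_eq_iff_eq_mul, mul_assoc, e', inv_mul_cancel_left]]
        exact C.A₀.mul_mem (C.A₀.inv_mem q.1.2) p.1.2
      have e2 := mul_inv_eq_one.1 (C.cHom_not_mem h)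
      rw [e2] at e'
      exact Prod.ext (Subtype.ext (mul_right_cancel e')) e2.symm
    · obtain ⟨a, ha, σ, rfl⟩ := C.mem_nn hx
      exact ⟨(⟨a, ha⟩, σ), rfl⟩
  rw [← Nat.card_eq_of_bijective f hf, Nat.card_prod, C.card_A₀, natCard_octH]

theorem low_count : ((Finset.range 64).filter fun c => c ≠ 0 ∧ zMask.testBit c = false).card = 28 := by
  decide +kernel

theorem card_stab_one :
    Nat.card ↥(C.nn ⊓ Subgroup.centralizer ({C.enc 1} : Set G)) = 1024 * 11520 := by
  classical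
  have h := card_orbit_mul C.nn (C.enc 1)
  set S := (Finset.range 64).filter fun c => c ≠ 0 ∧ zMask.testBit c = false with hS
  have hnc : ¬ IsConj z (C.enc 1) := (C.pair_nc 0 23 (by norm_num) (by norm_num) (by norm_num)).2
  have e : {y : G | ∃ h ∈ C.nn, h * C.enc 1 * h⁻¹ = y} = C.enc '' (S : Set ℕ) := by
    ext y
    simp only [Set.mem_ofPred_eq, Set.mem_image, Finset.coe_filter, hS, Finset.mem_range]
    constructor
    · rintro ⟨n, hn, rfl⟩
      obtain ⟨c, hc, ec⟩ : n * C.enc 1 * n⁻¹ ∈ C.A₀ :=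
        (Subgroup.mem_normalizer_iff.1 hn.1 _).1 ⟨1, by norm_num, C.aEl_low (by norm_num)⟩
      have hV : n * C.enc 1 * n⁻¹ ∈ V := (Subgroup.mem_normalizer_iff.1 hn.2 _).1 (C.enc_mem 1)
      have h64 := C.aEl_mem_V hc (ec ▸ hV)
      rw [C.aEl_low h64] at ec
      have hcl : ¬ IsConj z (C.enc c) := by rw [ec, isConj_conj_iff]; exact hnc
      have h0 : c ≠ 0 := fun e0 => by
        rw [e0, C.enc_zero] at ec
        exact absurd (C.eq_one_of_enc (show 1 < 2048 by norm_num) (conj_eq_one_iff.1 ec.symm)) one_ne_zero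
      exact ⟨c, ⟨h64, h0, Bool.eq_false_iff.2 fun hb => hcl ((C.low_class h64 h0).2 hb)⟩, ec⟩
    · rintro ⟨c, ⟨hc, h0, hb⟩, rfl⟩
      have h := C.orbit_cases (show c < 1024 by omega) h0
      rw [if_pos hc, if_neg (by rw [hb]; simp)] at h
      obtain ⟨n, hn, e⟩ := h
      rw [C.aEl_low (show 1 < 64 by norm_num), C.aEl_low hc] at e
      exact ⟨n, hn, e⟩
  rw [e, Set.InjOn.ncard_image (fun a ha b hb e => C.enc_inj a b
      (by simp [hS] at ha; omega) (by simp [hS] at hb; omega) e), Set.ncard_coe_finset,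
    hS, low_count, C.card_nn] at h
  omega

end Co

end CfsgLib.J4Type.Ten
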