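import Cfsg.Agent.Lib.J4Type.Frame
import Cfsg.Agent.Lib.Golay.Code
import Cfsg.Agent.Lib.Golay.M24Group

/-!
A labelling of the elements outside the class of `z` by pairs of points, with the map of the normaliser onto
Mathieu's group; the product over the pairs joining a point to the eight points of an octad is trivial:
such products are permuted by Mathieu's group with the octads, and neither class is an image of the octads
in that way.
-/

set_option autoImplicit false
set_option linter.style.haveILetI false
set_option linter.unusedSectionVars false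

namespace CfsgLib.J4Type.Ten

open scoped Pointwise
open CfsgLib.Golay (pt idx encS decS)
open CfsgLib.FischerTwoFour.Cocode (perm_eq_of_pairs)

universe u

variable {G : Type u} [Group G] [Finite G] {z : G} {V : Subgroup G}

/-- A labelling by pairs of points with the map of the normaliser onto Mathieu's group. -/
structure Lab (z : G) (V : Subgroup G) where
  frame : VFrame z V
  p : Cfsg.GolayPt → Cfsg.GolayPt → G
  diag : ∀ i, p i i = 1
  symm : ∀ i j, p i j = p j i
  nc : ∀ i j, i ≠ j → p i j ∈ ncG z V
  surj : ∀ u ∈ ncG z V, ∃ i j, i ≠ j ∧ p i j = u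
  inj : ∀ i j k l, i ≠ j → k ≠ l → p i j = p k l → (k = i ∧ l = j) ∨ (k = j ∧ l = i)
  add : ∀ i j k, p i j * p i k = p j k
  φ : ↥(Subgroup.normalizer (V : Set G)) →* ↥Cfsg.M24
  φ_surj : Function.Surjective φ
  φ_ker : φ.ker = V.subgroupOf (Subgroup.normalizer (V : Set G))
  φ_conj : ∀ m : ↥(Subgroup.normalizer (V : Set G)), ∀ i j,
    (m : G) * p i j * (m : G)⁻¹ = p ((φ m : Equiv.Perm Cfsg.GolayPt) i) ((φ m : Equiv.Perm Cfsg.GolayPt) j)

theorem exists_lab (h : VFrame z V) : Nonempty (Lab z V) := by
  classical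
  obtain ⟨p, hdiag, hsym, hNc, hsurj, huniq, hequiv, hker, -, -, hadd, -⟩ := h.exists_pairs
  set N := Subgroup.normalizer (V : Set G) with hN
  have heq : ∀ {σ τ : Equiv.Perm Cfsg.GolayPt}, (∀ i j, p (σ i) (σ j) = p (τ i) (τ j)) → τ = σ :=
    fun {σ τ} e => perm_eq_of_pairs fun i j hij =>
      huniq _ _ _ _ (fun e' => hij (σ.injective e')) (fun e' => hij (τ.injective e')) (e i j)
  choose σ hσM hσ using fun m : N => hequiv m m.2
  let φ : N →* Cfsg.M24 := MonoidHom.mk' (fun m => ⟨σ m, hσM m⟩) fun a b => Subtype.ext (by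
    refine heq fun i j => ?_
    show p (σ a (σ b i)) (σ a (σ b j)) = p (σ (a * b) i) (σ (a * b) j)
    rw [← hσ a, ← hσ b, ← hσ (a * b), Subgroup.coe_mul]; group)
  have hVN : V ≤ N := Subgroup.le_normalizer
  have hkerV : φ.ker = V.subgroupOf N := by
    ext m
    rw [MonoidHom.mem_ker, Subgroup.mem_subgroupOf]
    constructor
    · intro e
      have e' : σ m = 1 := congrArg Subtype.val e
      refine hker m m.2 fun u hu => ?_
      obtain ⟨i, j, -, rfl⟩ := hsurj u hu
      rw [hσ m, e']; rfl
    · intro e
      refine Subtype.ext (heq (σ := 1) fun i j => ?_)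
      show p i j = p (σ m i) (σ m j)
      rw [← hσ m]
      by_cases hij : i = j
      · subst hij
        rw [hdiag i, mul_one, mul_inv_cancel]
      · rw [h.comm _ e _ (hNc i j hij).1, mul_inv_cancel_right]
  have hcardN : Nat.card N = 2048 * Nat.card φ.range := by
    rw [Subgroup.card_eq_card_quotient_mul_card_subgroup φ.ker,
      Nat.card_congr (QuotientGroup.quotientKerEquivRange φ).toEquiv, hkerV,
      Nat.card_congr (Subgroup.subgroupOfEquivOfLe hVN).toEquiv, h.card, mul_comm]
  have hrange : φ.range = ⊤ := by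
    refine Subgroup.eq_top_of_card_eq _ ?_
    rw [h.card_normalizer] at hcardN
    rw [CfsgLib.Golay.natCard_M24]
    omega
  exact ⟨⟨h, p, hdiag, hsym, hNc, hsurj, huniq, hadd, φ, MonoidHom.range_eq_top.1 hrange, hkerV, hσ⟩⟩

namespace Lab

variable (L : Lab z V)

theorem mem (i j : Cfsg.GolayPt) : L.p i j ∈ V := by
  by_cases e : i = j
  · rw [e, L.diag]; exact V.one_mem
  · exact (L.nc i j e).1

/-- The product of the pairs joining `none` to the points at the positions of a bit set. -/
def psiList (n : ℕ) (l : List (Fin 24)) : G :=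
  (l.map fun i => if n.testBit i.val then L.p none (pt i) else 1).prod

/-- The product of the pairs joining `none` to the points at the positions of a bit set. -/
def psi (n : ℕ) : G := L.psiList n (List.finRange 24)

theorem psiList_mem (n : ℕ) : ∀ l, L.psiList n l ∈ V
  | [] => V.one_mem
  | i :: l => by
    show (if n.testBit i.val then L.p none (pt i) else 1) * L.psiList n l ∈ V
    refine V.mul_mem ?_ (psiList_mem n l)
    split
    exacts [L.mem _ _, V.one_mem]

theorem psi_mem (n : ℕ) : L.psi n ∈ V := L.psiList_mem n _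

theorem psiList_xor (a b : ℕ) : ∀ l, L.psiList (Nat.xor a b) l = L.psiList a l * L.psiList b l
  | [] => (one_mul _).symm
  | i :: l => by
    show (if (a ^^^ b).testBit i.val then L.p none (pt i) else 1) * L.psiList (Nat.xor a b) l =
      (if a.testBit i.val then L.p none (pt i) else 1) * L.psiList a l *
        ((if b.testBit i.val then L.p none (pt i) else 1) * L.psiList b l)
    have hp : L.p none (pt i) * L.p none (pt i) = 1 := L.frame.sq _ (L.mem _ _)
    have hc : L.psiList a l * L.p none (pt i) = L.p none (pt i) * L.psiList a l :=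
      L.frame.comm _ (L.psiList_mem a l) _ (L.mem _ _)
    rw [psiList_xor a b l, Nat.testBit_xor]
    cases a.testBit i.val <;> cases b.testBit i.val <;> simp
    · rw [← mul_assoc (L.psiList a l), hc, mul_assoc]
    · rw [mul_assoc]
    · rw [mul_assoc, ← mul_assoc (L.psiList a l), hc, ← mul_assoc, ← mul_assoc, hp, one_mul]

theorem psi_xor (a b : ℕ) : L.psi (Nat.xor a b) = L.psi a * L.psi b := L.psiList_xor a b _

theorem psi_zero : L.psi 0 = 1 := by
  simp [psi, psiList]

theorem psi_two_pow (i : Fin 24) : L.psi (2 ^ i.val) = L.p none (pt i) := by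
  have key : ∀ l : List (Fin 24), l.Nodup → L.psiList (2 ^ i.val) l = if i ∈ l then L.p none (pt i) else 1 := by
    intro l
    induction l with
    | nil => intro _; simp [psiList]
    | cons j l ih =>
      intro hnd
      obtain ⟨hj, hl⟩ := List.nodup_cons.1 hnd
      show (if (2 ^ i.val).testBit j.val then L.p none (pt j) else 1) * L.psiList (2 ^ i.val) l = _
      rw [ih hl, Nat.testBit_two_pow]
      by_cases e : i = j
      · subst e
        simp [hj]
      · simp [e, Fin.val_ne_of_ne e]
  rw [psi, key _ (List.nodup_finRange 24), if_pos (List.mem_finRange i)]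

/-- The product over a set of points. -/
def setProd (y : Finset Cfsg.GolayPt) : G := L.psi (encS y)

theorem setProd_empty : L.setProd ∅ = 1 := by rw [setProd, CfsgLib.Golay.encS_empty, psi_zero]

theorem setProd_insert {a : Cfsg.GolayPt} {y : Finset Cfsg.GolayPt} (ha : a ∉ y) :
    L.setProd (insert a y) = L.p none a * L.setProd y := by
  have e : encS (insert a y) = Nat.xor (2 ^ (idx a).val) (encS y) := by
    show _ = 2 ^ (idx a).val ^^^ encS y
    refine CfsgLib.Golay.mask_ext (fun q => ?_) fun i hi => ?_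
    · rw [Nat.testBit_xor, Nat.testBit_two_pow, CfsgLib.Golay.testBit_encS, CfsgLib.Golay.testBit_encS]
      by_cases e : q = a
      · subst e; simp [ha]
      · have : (idx a).val ≠ (idx q).val := fun e' => e (CfsgLib.Golay.idx_injective (Fin.ext e')).symm
        simp [e, this]
    · rw [Nat.testBit_xor, Nat.testBit_two_pow, CfsgLib.Golay.testBit_encS_ge _ hi,
        CfsgLib.Golay.testBit_encS_ge _ hi]
      have := (idx a).isLt
      simp only [Bool.bne_false, decide_eq_false_iff_not, Bool.false_eq, ne_eq]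
      omega
  rw [setProd, e, psi_xor, psi_two_pow, CfsgLib.Golay.pt_idx]
  rfl

theorem conj_setProd (m : ↥(Subgroup.normalizer (V : Set G))) (y : Finset Cfsg.GolayPt) :
    (m : G) * L.setProd y * (m : G)⁻¹ = L.p none ((L.φ m : Equiv.Perm Cfsg.GolayPt) none) ^ y.card *
      L.setProd ((L.φ m : Equiv.Perm Cfsg.GolayPt) • y) := by
  classical
  set σ := (L.φ m : Equiv.Perm Cfsg.GolayPt)
  induction y using Finset.induction_on with
  | empty => rw [Finset.smul_finset_empty, setProd_empty]; simp
  | @insert a y ha ih =>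
    have hσy : σ a ∉ σ • y := fun e => ha (Finset.smul_mem_smul_finset_iff σ |>.1 e)
    rw [setProd_insert L ha, Finset.smul_finset_insert, Equiv.Perm.smul_def, setProd_insert L hσy,
      Finset.card_insert_of_notMem ha, pow_succ,
      show (m : G) * (L.p none a * L.setProd y) * (m : G)⁻¹ =
        (m : G) * L.p none a * (m : G)⁻¹ * ((m : G) * L.setProd y * (m : G)⁻¹) by group, L.φ_conj, ih,
      ← L.add none (σ none) (σ a)]
    have e1 : L.p none (σ none) ^ y.card ∈ V := pow_mem (L.mem _ _) _
    have c1 := L.frame.comm _ (L.mem none (σ a)) _ e1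
    calc L.p none (σ none) * L.p none (σ a) * (L.p none (σ none) ^ y.card * L.setProd (σ • y))
        = L.p none (σ none) * (L.p none (σ a) * L.p none (σ none) ^ y.card) * L.setProd (σ • y) := by group
      _ = L.p none (σ none) * (L.p none (σ none) ^ y.card * L.p none (σ a)) * L.setProd (σ • y) := by rw [c1]
      _ = L.p none (σ none) * L.p none (σ none) ^ y.card * (L.p none (σ a) * L.setProd (σ • y)) := by group
      _ = _ := by rw [← pow_succ', pow_succ]

theorem conj_octad (m : ↥(Subgroup.normalizer (V : Set G))) {o : Finset Cfsg.GolayPt} (ho : o ∈ Cfsg.octads) :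
    (m : G) * L.setProd o * (m : G)⁻¹ = L.setProd ((L.φ m : Equiv.Perm Cfsg.GolayPt) • o) := by
  rw [conj_setProd, CfsgLib.Golay.card_of_mem_octads ho, show (8 : ℕ) = 2 * 4 from rfl, pow_mul, pow_two,
    L.frame.sq _ (L.mem _ _), one_pow, one_mul]

/-- The product of the pairs joining `none` to the points of an octad is trivial. -/
theorem setProd_octad {o : Finset Cfsg.GolayPt} (ho : o ∈ Cfsg.octads) : L.setProd o = 1 := by
  classical
  by_contra hne
  have hfin : Cfsg.octads.Finite := CfsgLib.Golay.octads_finite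
  set O := hfin.toFinset with hO
  have hOm : ∀ {o'}, o' ∈ O ↔ o' ∈ Cfsg.octads := Set.Finite.mem_toFinset hfin
  have hOc : O.card = 759 := by rw [← Set.ncard_eq_toFinset_card _ hfin, CfsgLib.Golay.ncard_octads]
  rcases VFrame.eq_or_conj (z := z) (L.psi_mem (encS o)) hne with hn | hz
  · -- the fibres over the pairs would have equal size
    set S : Finset G := (Set.toFinite (ncG z V)).toFinset with hS
    have hSc : S.card = 276 := by rw [← Set.ncard_eq_toFinset_card _ (Set.toFinite _), L.frame.ncard_ncG]
    have hmaps : ∀ o' ∈ O, L.setProd o' ∈ S := by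
      intro o' ho'
      obtain ⟨k, hk, hko⟩ := CfsgLib.Golay.exists_smul_octad_eq ho (hOm.1 ho')
      obtain ⟨m, hm⟩ := L.φ_surj ⟨k, hk⟩
      rw [Set.Finite.mem_toFinset, ← hko, show k = (L.φ m : Equiv.Perm Cfsg.GolayPt) by rw [hm],
        ← L.conj_octad m ho]
      exact (norm_ncG m.2).2 hn
    have hfib : ∀ u ∈ S, ∀ v ∈ S, (O.filter fun o' => L.setProd o' = u).card ≤
        (O.filter fun o' => L.setProd o' = v).card := by
      intro u hu v hv
      rw [Set.Finite.mem_toFinset] at hu hv
      obtain ⟨m, hm, rfl⟩ := L.frame.trans_ncG hu hv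
      refine Finset.card_le_card_of_injOn (fun o' => (L.φ ⟨m, hm⟩ : Equiv.Perm Cfsg.GolayPt) • o')
        (fun o' ho' => ?_) (fun a _ b _ e => smul_left_cancel _ e)
      simp only [Finset.coe_filter, Set.mem_ofPred_eq, hOm] at ho' ⊢
      exact ⟨CfsgLib.Golay.smul_mem_octads (L.φ ⟨m, hm⟩).2 ho'.1, by
        rw [← ho'.2]; exact (L.conj_octad ⟨m, hm⟩ ho'.1).symm⟩
    have hsum := Finset.card_eq_sum_card_fiberwise hmaps
    have hu : L.setProd o ∈ S := hmaps o (hOm.2 ho)
    rw [Finset.sum_congr rfl fun v hv => le_antisymm (hfib v hv _ hu) (hfib _ hu v hv), Finset.sum_const,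
      smul_eq_mul, hSc, hOc] at hsum
    omega
  · -- the class of `z` is too large
    obtain ⟨m₀, hm₀, e₀⟩ := L.frame.conj_z _ (L.psi_mem _) hz
    have hsub : {y : G | ∃ m ∈ Subgroup.normalizer (V : Set G), m * z * m⁻¹ = y} ⊆
        L.setProd '' Cfsg.octads := by
      rintro _ ⟨m, hm, rfl⟩
      refine ⟨_, CfsgLib.Golay.smul_mem_octads (L.φ ⟨m * m₀⁻¹, mul_mem hm (inv_mem hm₀)⟩).2 ho, ?_⟩
      rw [← L.conj_octad _ ho, show L.setProd o = L.psi (encS o) from rfl, ← e₀]
      show m * m₀⁻¹ * (m₀ * z * m₀⁻¹) * (m * m₀⁻¹)⁻¹ = m * z * m⁻¹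
      group
    have h1 := (Set.ncard_le_ncard hsub (Set.toFinite _)).trans (Set.ncard_image_le hfin)
    rw [L.frame.ncard_orbit_z, CfsgLib.Golay.ncard_octads] at h1
    omega

end Lab

end CfsgLib.J4Type.Ten
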