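import Cfsg.Agent.Lib.J4Type.Ten.Coord
import Cfsg.Agent.Lib.Golay.OctadAffine

/-!
The translations and the unitriangular group in the stabiliser of the base octad, as elements of Mathieu's
group, and their action on codes.
-/

set_option autoImplicit false
set_option linter.unusedSectionVars false
set_option maxRecDepth 20000

namespace CfsgLib.J4Type.Ten

open scoped Pointwise
open CfsgLib.Golay (pt idx toList genOK comp baseOctad octH)

theorem genOK_tList {t : ℕ} (ht : t < 16) : genOK (tList.getD t []) = true := by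
  have h := List.all_eq_true.1 t_check.1 t (List.mem_range.2 ht)
  simp only [Bool.and_eq_true] at h
  exact h.1.1.1.1

theorem genOK_uList {j : ℕ} (hj : j < 64) : genOK (uList.getD j []) = true := by
  have h := List.all_eq_true.1 u_check.1 j (List.mem_range.2 hj)
  simp only [Bool.and_eq_true] at h
  exact h.1.1.1

theorem genOK_genC {g : ℕ} (hg : g < 3) : genOK (genC.getD g []) = true := by
  have h := List.all_eq_true.1 genC_check g (List.mem_range.2 hg)
  simp only [Bool.and_eq_true] at h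
  exact h.1.1

/-- The element of Mathieu's group with the given list, if there is one. -/
noncomputable def ofList (l : List ℕ) : ↥Cfsg.M24 :=
  if h : genOK l = true then
    ⟨(CfsgLib.Golay.exists_perm h).choose, (CfsgLib.Golay.exists_perm h).choose_spec.1⟩ else 1

theorem toList_ofList {l : List ℕ} (h : genOK l = true) :
    toList (ofList l : Equiv.Perm Cfsg.GolayPt) = l := by
  rw [ofList, dif_pos h]
  exact (CfsgLib.Golay.exists_perm h).choose_spec.2

theorem ext_list {σ τ : ↥Cfsg.M24}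
    (h : toList (σ : Equiv.Perm Cfsg.GolayPt) = toList (τ : Equiv.Perm Cfsg.GolayPt)) : σ = τ :=
  Subtype.ext (CfsgLib.Golay.toList_injective h)

theorem toList_mul' (σ τ : ↥Cfsg.M24) : toList ((σ * τ : ↥Cfsg.M24) : Equiv.Perm Cfsg.GolayPt) =
    comp (toList (σ : Equiv.Perm Cfsg.GolayPt)) (toList (τ : Equiv.Perm Cfsg.GolayPt)) :=
  CfsgLib.Golay.toList_mul _ _

theorem ofList_apply {l : List ℕ} (h : genOK l = true) (a : ℕ) (ha : a < 24) :
    (idx ((ofList l : Equiv.Perm Cfsg.GolayPt) (pn a))).val = l.getD a 0 := by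
  rw [← CfsgLib.Golay.toList_getD, toList_ofList h, idx_pn ha]

/-- The translation with the given index. -/
noncomputable def tl (t : ℕ) : ↥Cfsg.M24 := ofList (tList.getD t [])

/-- The element of the unitriangular group with the given index. -/
noncomputable def ul (j : ℕ) : ↥Cfsg.M24 := ofList (uList.getD j [])

theorem act_tl {t : ℕ} (ht : t < 16) (v : ℕ) : act (tl t) v = tAct t v := by
  rw [act, tl, toList_ofList (genOK_tList ht)]; rfl

theorem tl_mul {a b : ℕ} (ha : a < 16) (hb : b < 16) : tl a * tl b = tl (Nat.xor a b) := by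
  have hab : Nat.xor a b < 16 := Nat.xor_lt_two_pow (n := 4) ha hb
  refine ext_list ?_
  rw [toList_mul', tl, tl, tl, toList_ofList (genOK_tList ha), toList_ofList (genOK_tList hb),
    toList_ofList (genOK_tList hab)]
  have h := List.all_eq_true.1 t_check.1 a (List.mem_range.2 ha)
  simp only [Bool.and_eq_true] at h
  exact eq_of_beq (List.all_eq_true.1 h.2 b (List.mem_range.2 hb))

theorem toList_one' : toList ((1 : ↥Cfsg.M24) : Equiv.Perm Cfsg.GolayPt) = List.range 24 :=
  CfsgLib.Golay.toList_one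

theorem tl_zero : tl 0 = 1 := by
  refine ext_list ?_
  rw [toList_one', tl, toList_ofList (genOK_tList (by norm_num))]
  exact eq_of_beq t_check.2.1

theorem tl_sq {t : ℕ} (ht : t < 16) : tl t * tl t = 1 := by
  rw [tl_mul ht ht, show Nat.xor t t = 0 from Nat.xor_self t, tl_zero]

theorem mem_base {P : Cfsg.GolayPt} : P ∈ baseOctad ↔ Nat.testBit 8536111 (idx P).val = true :=
  CfsgLib.Golay.mem_decS

theorem tl_fix {t : ℕ} (ht : t < 16) {P : Cfsg.GolayPt} (hP : P ∈ baseOctad) :
    (tl t : Equiv.Perm Cfsg.GolayPt) P = P := by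
  have h := List.all_eq_true.1 t_check.1 t (List.mem_range.2 ht)
  simp only [Bool.and_eq_true] at h
  have h' := List.all_eq_true.1 h.1.1.1.2 (idx P).val (List.mem_range.2 (idx P).isLt)
  rw [mem_base.1 hP, Bool.not_true, Bool.false_or] at h'
  refine CfsgLib.Golay.idx_injective (Fin.ext ?_)
  rw [← CfsgLib.Golay.toList_getD, tl, toList_ofList (genOK_tList ht)]
  exact Nat.eq_of_beq_eq_true h'

/-- The translation index of an image of position 4. -/
def tIdx (σ : ↥Cfsg.M24) : ℕ :=
  affIdx.getD (idx ((σ : Equiv.Perm Cfsg.GolayPt) (pn 4))).val 0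

theorem tIdx_tl {t : ℕ} (ht : t < 16) : tIdx (tl t) = t := by
  have h := List.all_eq_true.1 t_check.1 t (List.mem_range.2 ht)
  simp only [Bool.and_eq_true] at h
  rw [tIdx, tl, ofList_apply (genOK_tList ht) 4 (by norm_num)]
  exact Nat.eq_of_beq_eq_true h.1.1.2

theorem tl_inj {a b : ℕ} (ha : a < 16) (hb : b < 16) (h : tl a = tl b) : a = b := by
  rw [← tIdx_tl ha, h, tIdx_tl hb]

/-- An element fixing the base octad pointwise is a translation. -/
theorem exists_tl {σ : ↥Cfsg.M24} (h : ∀ P ∈ baseOctad, (σ : Equiv.Perm Cfsg.GolayPt) P = P) :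
    ∃ t, t < 16 ∧ σ = tl t := by
  have hm : (σ : Equiv.Perm Cfsg.GolayPt) ∈ CfsgLib.Golay.stdStab 6 := by
    rw [← CfsgLib.Golay.fixingSubgroup_baseOctad]
    exact ⟨σ.2, (mem_fixingSubgroup_iff _).mpr fun p hp => h p hp⟩
  have hc := List.all_eq_true.1 t_cover _ (CfsgLib.Golay.toList_mem_stab6 hm)
  obtain ⟨t, ht, e⟩ := List.getElem_of_mem (List.contains_iff_mem.1 hc)
  have ht16 : t < 16 := ht
  refine ⟨t, ht16, ext_list ?_⟩
  rw [tl, toList_ofList (genOK_tList ht16), List.getD_eq_getElem _ _ ht, e]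

theorem tl_mem_octH {t : ℕ} (ht : t < 16) : tl t ∈ octH := by
  refine Finset.eq_of_subset_of_card_le (fun p hp => ?_) (by rw [Finset.card_smul_finset])
  obtain ⟨q, hq, rfl⟩ := Finset.mem_smul_finset.mp hp
  show (tl t : Equiv.Perm Cfsg.GolayPt) q ∈ baseOctad
  rw [tl_fix ht hq]; exact hq

theorem octH_apply {σ : ↥Cfsg.M24} (h : σ ∈ octH) (P : Cfsg.GolayPt) :
    (σ : Equiv.Perm Cfsg.GolayPt) P ∈ baseOctad ↔ P ∈ baseOctad :=
  CfsgLib.Golay.apply_mem_iff_of_smul_eq (show (σ : Equiv.Perm Cfsg.GolayPt) • baseOctad = baseOctad from h) P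

/-- A conjugate of a translation by an element of the octad stabiliser is a translation. -/
theorem conj_tl {σ : ↥Cfsg.M24} (hσ : σ ∈ octH) {t : ℕ} (ht : t < 16) :
    ∃ t', t' < 16 ∧ σ * tl t * σ⁻¹ = tl t' := by
  refine exists_tl fun P hP => ?_
  have hi : ((σ⁻¹ : ↥Cfsg.M24) : Equiv.Perm Cfsg.GolayPt) P ∈ baseOctad := (octH_apply (inv_mem hσ) P).2 hP
  show (σ : Equiv.Perm Cfsg.GolayPt) ((tl t : Equiv.Perm Cfsg.GolayPt)
    ((σ : Equiv.Perm Cfsg.GolayPt)⁻¹ P)) = P
  have hi' : (σ : Equiv.Perm Cfsg.GolayPt)⁻¹ P ∈ baseOctad := hi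
  rw [tl_fix ht hi']
  exact Equiv.apply_symm_apply _ _

theorem mask_pairs {P Q : Cfsg.GolayPt} (h : P ≠ Q) :
    pc (idx P).val (idx Q).val < 64 ↔ P ∈ baseOctad ∧ Q ∈ baseOctad := by
  have h' := List.all_eq_true.1 (List.all_eq_true.1 oct_pairs.1 (idx P).val (List.mem_range.2 (idx P).isLt))
    (idx Q).val (List.mem_range.2 (idx Q).isLt)
  have hne : (idx P).val ≠ (idx Q).val := fun e => h (CfsgLib.Golay.idx_injective (Fin.ext e))
  rw [Bool.or_eq_true, beq_iff_eq] at h'
  rcases h' with e | e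
  · exact absurd (Nat.eq_of_beq_eq_true e) hne
  · rw [mem_base, mem_base, ← Bool.and_eq_true, ← e]
    exact ⟨fun hl => Nat.ble_eq_true_of_le hl, fun hl => Nat.le_of_ble_eq_true hl⟩

theorem code_split (v : ℕ) : Nat.xor (64 * (v / 64)) (v % 64) = v := by
  refine Nat.eq_of_testBit_eq fun i => ?_
  show (2 ^ 6 * (v / 2 ^ 6) ^^^ v % 2 ^ 6).testBit i = v.testBit i
  rw [Nat.testBit_xor, Nat.testBit_two_pow_mul, Nat.testBit_div_two_pow, Nat.testBit_mod_two_pow]
  by_cases h : i < 6
  · simp [h, show ¬ 6 ≤ i by omega]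
  · simp [h, show i - 6 + 6 = i by omega, show 6 ≤ i by omega]

theorem tAct_fix {t v : ℕ} (ht : t < 16) (hv : v < 2048) :
    tAct t v = v ↔ (t = 0 ∨ v < 64 ∨ v / 64 = t) := by
  have h := List.all_eq_true.1 t_fix t (List.mem_range.2 ht)
  rw [Bool.and_eq_true] at h
  have hw : tAct t (v % 64) = v % 64 :=
    Nat.eq_of_beq_eq_true (List.all_eq_true.1 h.1 _ (List.mem_range.2 (Nat.mod_lt _ (by norm_num))))
  have hh := eq_of_beq (List.all_eq_true.1 h.2 (v / 64) (List.mem_range.2 (by omega)))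
  have key : tAct t v = v ↔ tAct t (64 * (v / 64)) = 64 * (v / 64) := by
    have e : tAct t (Nat.xor (64 * (v / 64)) (v % 64)) =
        Nat.xor (tAct t (64 * (v / 64))) (v % 64) := by
      conv_rhs => rw [← hw]
      exact app_xor _ _ _
    rw [code_split] at e
    rw [e]
    conv_lhs => rhs; rw [← code_split v]
    exact Nat.xor_left_inj
  rw [key, show v < 64 ↔ v / 64 = 0 by omega]
  constructor
  · intro e
    rw [e, Nat.beq_refl] at hh
    simp only [Bool.true_eq, Bool.or_eq_true] at hh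
    rcases hh with (h | h) | h
    · exact Or.inl (Nat.eq_of_beq_eq_true h)
    · exact Or.inr (Or.inl (Nat.eq_of_beq_eq_true h))
    · exact Or.inr (Or.inr (Nat.eq_of_beq_eq_true h))
  · intro hor
    refine Nat.eq_of_beq_eq_true ?_
    rw [hh]
    rcases hor with e | e | e
    · subst e; simp
    · simp [e]
    · simp [e]

end CfsgLib.J4Type.Ten
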