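import Cfsg.Agent.Lib.J4Type.Ten.Main
import Cfsg.Agent.Lib.J4Type.Ten.Grass
import Cfsg.Agent.Lib.J4Type.Splitting

/-!
The normaliser of a self-centralising subgroup of order `2^10` is a split extension by `SL(5, 2)` acting
without proper non-trivial invariant subgroups.
-/

set_option autoImplicit false
set_option linter.unusedSectionVars false
set_option maxRecDepth 20000

namespace CfsgLib.J4Type.Ten

open scoped Pointwise
open CfsgLib.Golay (octH)

universe u

variable {G : Type u} [Group G] [Finite G] {z : G} {V : Subgroup G}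

namespace Pack

variable (P : Pack z V)

open scoped IsMulCommutative in
theorem exists_complement : ∃ B : Subgroup G, B ≤ Subgroup.normalizer (P.A₀ : Set G) ∧ B ⊓ P.A₀ = ⊥ ∧
    B ⊔ P.A₀ = Subgroup.normalizer (P.A₀ : Set G) ∧ Nat.card B = 9999360 := by
  classical
  set A := P.A₀ with hA
  set N := Subgroup.normalizer (A : Set G) with hN
  set C := P.cHom.range with hC
  have hAN : A ≤ N := Subgroup.le_normalizer
  have hCN : C ≤ N := by
    rintro _ ⟨σ, rfl⟩
    exact P.cHom_normalizes σ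
  have hCA : C ⊓ A = ⊥ := by
    rw [eq_bot_iff]
    rintro _ ⟨⟨σ, rfl⟩, h⟩
    rw [P.cHom_not_mem h, map_one]
    exact one_mem _
  have hinj : Function.Injective P.cHom := (injective_iff_map_eq_one _).2 fun σ h =>
    P.cHom_not_mem (h ▸ one_mem _)
  have hCc : Nat.card C = 322560 := (Nat.card_congr (MonoidHom.ofInjective hinj).symm.toEquiv).trans natCard_octH
  have cardU : Nat.card ↥(A ⊔ C) = 1024 * 322560 := by rw [card_sup_mul hCN hCA, P.card_A₀, hCc]
  let K' := A.subgroupOf N
  haveI : K'.Normal := Subgroup.normal_in_normalizer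
  have hcomm' : IsMulCommutative K' :=
    ⟨⟨fun a b => Subtype.ext (Subtype.ext (P.A₀_comm a.2 b.2))⟩⟩
  haveI := hcomm'
  have D : CfsgLib.Gaschutz.Data K' ((A ⊔ C).subgroupOf N) (C.subgroupOf N) := by
    refine ⟨fun x hx => Subgroup.mem_sup_left (T := C) (show (x : G) ∈ A from hx),
      fun x hx => Subgroup.mem_sup_right (S := A) (show (x : G) ∈ C from hx), ?_,
      (Subgroup.subgroupOf_sup hAN hCN).symm⟩
    rw [eq_bot_iff]
    rintro x ⟨h1, h2⟩
    have : (x : G) ∈ C ⊓ A := ⟨h1, h2⟩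
    rw [hCA, Subgroup.mem_bot] at this
    exact Subgroup.mem_bot.2 (Subtype.ext this)
  have hkc : Nat.card K' = 1024 := (Nat.card_congr (Subgroup.subgroupOfEquivOfLe hAN).toEquiv).trans P.card_A₀
  have hcop : (Nat.card K').Coprime ((A ⊔ C).subgroupOf N).index := by
    have hi := ((A ⊔ C).subgroupOf N).card_mul_index
    rw [Nat.card_congr (Subgroup.subgroupOfEquivOfLe (sup_le hAN hCN)).toEquiv, cardU,
      show Nat.card N = 1024 * 9999360 from P.card_normalizer] at hi
    have hidx : ((A ⊔ C).subgroupOf N).index = 31 := by omega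
    rw [hkc, hidx]
    norm_num
  obtain ⟨H, hH⟩ := CfsgLib.Gaschutz.exists_complement D hcop
  refine ⟨H.map N.subtype, Subgroup.map_subtype_le H, ?_, ?_, ?_⟩
  · rw [eq_bot_iff]
    rintro _ ⟨⟨x, hx, rfl⟩, hxA⟩
    have : x ∈ K' ⊓ H := ⟨hxA, hx⟩
    rw [hH.disjoint.eq_bot, Subgroup.mem_bot] at this
    rw [this]
    exact one_mem _
  · have e : K'.map N.subtype = A := Subgroup.map_subgroupOf_eq_of_le hAN
    conv_lhs => rw [← e, ← Subgroup.map_sup, sup_comm, hH.sup_eq_top]
    exact (MonoidHom.range_eq_map _).symm.trans N.range_subtype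
  · have h := hH.card_mul
    rw [hkc, show Nat.card N = 1024 * 9999360 from P.card_normalizer] at h
    rw [Subgroup.card_map_of_injective N.subtype_injective]
    omega

/-- The subgroup has no proper non-trivial subgroup invariant under its normaliser. -/
theorem irreducible {W : Subgroup G} (hW : W ≤ P.A₀)
    (hinv : Subgroup.normalizer (P.A₀ : Set G) ≤ Subgroup.normalizer (W : Set G)) : W = ⊥ ∨ W = P.A₀ := by
  refine or_iff_not_imp_left.2 fun hne => le_antisymm hW ?_
  obtain ⟨a, haW, ha1⟩ := (Subgroup.bot_or_exists_ne_one W).resolve_left hne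
  obtain ⟨c, hc, rfl⟩ := hW haW
  have h0 : c ≠ 0 := fun e => ha1 (by rw [e, P.aEl_zero])
  have hall : ∀ d, d < 1024 → d ≠ 0 → zb d = zb c → P.aEl d ∈ W := by
    intro d hd hd0 hzd
    have hf : P.Fused c d := by
      by_cases hz : zb c = true
      · exact (P.fused_seven hc h0 hz).symm.trans (P.fused_seven hd hd0 (hzd.trans hz))
      · refine (P.fused_one hc h0 fun h => hz ((P.class_iff hc h0).1 h)).symm.trans (P.fused_one hd hd0 fun h => ?_)
        exact hz (hzd.symm.trans ((P.class_iff hd hd0).1 h))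
    obtain ⟨n, hn, e⟩ := hf
    rw [← e]
    exact (Subgroup.mem_normalizer_iff.1 (hinv hn) _).1 haW
  have hunit : ∀ k, k < 10 → P.aEl (2 ^ k) ∈ W := by
    intro k hk
    have hk2 : 2 ^ k < 1024 := Nat.pow_lt_pow_right (by norm_num) hk
    have mk : ∀ a, a < 1024 → a ≠ 0 → Nat.xor (2 ^ k) a ≠ 0 → zb a = zb c → zb (Nat.xor (2 ^ k) a) = zb c →
        P.aEl (2 ^ k) ∈ W := by
      intro a ha ha0 hb0 hza hzb
      have hx : Nat.xor (2 ^ k) a < 1024 := Nat.xor_lt_two_pow (n := 10) hk2 ha
      have e : P.aEl (2 ^ k) = P.aEl (Nat.xor (2 ^ k) a) * P.aEl a := by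
        rw [← P.aEl_xor hx ha]
        exact congrArg _ (Nat.xor_xor_cancel_right (2 ^ k) a).symm
      rw [e]
      exact W.mul_mem (hall _ hx hb0 hzb) (hall _ ha ha0 hza)
    cases hz : zb c
    · obtain ⟨a, ha, hab⟩ := List.any_eq_true.1 (List.all_eq_true.1 z_span.2.1 k (List.mem_range.2 hk))
      rw [List.mem_range] at ha
      simp only [Bool.and_eq_true, Bool.not_eq_true'] at hab
      obtain ⟨⟨⟨h1, h2⟩, h3⟩, h4⟩ := hab
      exact mk a ha (fun e => by rw [e, Nat.beq_refl] at h2; exact Bool.noConfusion h2)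
        (fun e => by rw [← Nat.xor_eq_zero_iff.1 e, Nat.beq_refl] at h3; exact Bool.noConfusion h3)
        (h1.trans hz.symm) (h4.trans hz.symm)
    · obtain ⟨a, ha, hab⟩ := List.any_eq_true.1 (List.all_eq_true.1 z_span.1 k (List.mem_range.2 hk))
      rw [List.mem_range] at ha
      rw [Bool.and_eq_true] at hab
      exact mk a ha (fun e => by rw [e, z_span.2.2.2.1] at hab; exact Bool.noConfusion hab.1)
        (fun e => by rw [e, z_span.2.2.2.1] at hab; exact Bool.noConfusion hab.2)
        (hab.1.trans hz.symm) (hab.2.trans hz.symm)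
  have hsub : ∀ j, j ≤ 10 → ∀ x, x < 2 ^ j → P.aEl x ∈ W := by
    intro j
    induction j with
    | zero => intro _ x hx; rw [show x = 0 by omega, P.aEl_zero]; exact W.one_mem
    | succ j ih =>
      intro hj x hx
      by_cases hlt : x < 2 ^ j
      · exact ih (by omega) x hlt
      have hp : 2 ^ j < 1024 := Nat.pow_lt_pow_right (by norm_num) (show j < 10 by omega)
      have hx' : x < 1024 := hx.trans_le (Nat.pow_le_pow_right (show 0 < 2 by norm_num) hj)
      have hm : Nat.xor (2 ^ j) x < 2 ^ j := by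
        show 2 ^ j ^^^ x < 2 ^ j
        refine Nat.lt_pow_two_of_testBit _ fun i hi => ?_
        rw [Nat.testBit_xor, Nat.testBit_two_pow]
        rcases Nat.eq_or_lt_of_le hi with rfl | hi'
        · rw [Nat.testBit_of_two_pow_le_and_two_pow_add_one_gt (not_lt.1 hlt) hx]
          simp
        · rw [Nat.testBit_lt_two_pow (hx.trans_le (Nat.pow_le_pow_right (show 0 < 2 by norm_num) hi'))]
          simp [Nat.ne_of_lt hi']
      have e : P.aEl x = P.aEl (2 ^ j) * P.aEl (Nat.xor (2 ^ j) x) := by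
        rw [← P.aEl_xor hp (hm.trans hp)]
        refine congrArg _ ?_
        show x = 2 ^ j ^^^ (2 ^ j ^^^ x)
        rw [← Nat.xor_assoc, Nat.xor_self, Nat.zero_xor]
      rw [e]
      exact W.mul_mem (hunit j (by omega)) (ih (by omega) _ hm)
  rintro _ ⟨x, hx, rfl⟩
  exact hsub 10 le_rfl x hx

include P in
/-- All three parts of the theorem. -/
theorem self_centralizing_facts :
    (∃ A : Subgroup G, Cfsg.IsElementaryAbelian 2 A ∧ Nat.card ↥A = 2 ^ 10 ∧ Subgroup.centralizer (A : Set G) = A) ∧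
    (∀ A A' : Subgroup G, Cfsg.IsElementaryAbelian 2 A → Nat.card ↥A = 2 ^ 10 → Subgroup.centralizer (A : Set G) = A →
      Cfsg.IsElementaryAbelian 2 A' → Nat.card ↥A' = 2 ^ 10 → Subgroup.centralizer (A' : Set G) = A' →
      ∃ g : G, A' = A.map (MulAut.conj g).toMonoidHom) ∧
    ∀ A : Subgroup G, Cfsg.IsElementaryAbelian 2 A → Nat.card ↥A = 2 ^ 10 → Subgroup.centralizer (A : Set G) = A →
      (∃ B : Subgroup G, B ≤ Subgroup.normalizer (A : Set G) ∧ B ⊓ A = ⊥ ∧ B ⊔ A = Subgroup.normalizer (A : Set G) ∧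
        Nonempty (↥B ≃* Matrix.SpecialLinearGroup (Fin 5) (ZMod 2))) ∧
      ∀ W : Subgroup G, W ≤ A → Subgroup.normalizer (A : Set G) ≤ Subgroup.normalizer (W : Set G) → W = ⊥ ∨ W = A := by
  refine ⟨⟨P.A₀, P.A₀_elementary, by rw [P.card_A₀]; norm_num, P.self_cent⟩, ?_, ?_⟩
  · intro A A' h1 h2 h3 h1' h2' h3'
    obtain ⟨g, hg⟩ := P.exists_conj_eq h1 h2 h3
    obtain ⟨g', hg'⟩ := P.exists_conj_eq h1' h2' h3'
    refine ⟨g'⁻¹ * g, Subgroup.map_injective (f := (MulAut.conj g').toMonoidHom) (MulAut.conj g').injective ?_⟩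
    rw [hg', ← hg, Subgroup.map_map]
    congr 1
    ext a
    show g * a * g⁻¹ = g' * (g'⁻¹ * g * a * (g'⁻¹ * g)⁻¹) * g'⁻¹
    group
  · intro A h1 h2 h3
    obtain ⟨g, hg⟩ := P.exists_conj_eq h1 h2 h3
    set ψ := (MulAut.conj g).symm.toMonoidHom with hψ
    have hinj : Function.Injective ψ := (MulAut.conj g).symm.injective
    have hback : P.A₀.map ψ = A := by
      rw [← hg, hψ, Subgroup.map_map]
      convert Subgroup.map_id A
      ext x
      exact (MulAut.conj g).symm_apply_apply x
    have hN : (Subgroup.normalizer (P.A₀ : Set G)).map ψ = Subgroup.normalizer (A : Set G) := by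
      rw [← hback]
      exact Subgroup.map_equiv_normalizer_eq P.A₀ (MulAut.conj g).symm
    refine ⟨?_, fun W hW hinv => ?_⟩
    · obtain ⟨B, hB, hBA, hBs, hBc⟩ := P.exists_complement
      obtain ⟨e⟩ := P.complement_iso hB hBA hBc
      refine ⟨B.map ψ, ?_, ?_, ?_, ⟨(Subgroup.equivMapOfInjective B ψ hinj).symm.trans e⟩⟩
      · rw [← hN]; exact Subgroup.map_mono hB
      · rw [← hback, ← Subgroup.map_inf _ _ _ hinj, hBA, Subgroup.map_bot]
      · rw [← hN, ← hback, ← Subgroup.map_sup, hBs]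
    · set φ := (MulAut.conj g).toMonoidHom with hφ
      have hφi : Function.Injective φ := (MulAut.conj g).injective
      have h := P.irreducible (W := W.map φ) (hg ▸ Subgroup.map_mono hW) (by
        rw [← hg, ← Subgroup.map_equiv_normalizer_eq A (MulAut.conj g),
          ← Subgroup.map_equiv_normalizer_eq W (MulAut.conj g)]
        exact Subgroup.map_mono hinv)
      rcases h with h | h
      · exact Or.inl ((Subgroup.map_eq_bot_iff_of_injective W hφi).1 h)
      · exact Or.inr (Subgroup.map_injective hφi (h.trans hg.symm))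

end Pack

end CfsgLib.J4Type.Ten
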