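import Cfsg.Agent.Lib.J4Type.Ten.Perms

/-!
The subgroup of order `2^10` made of the codes below `64` and the translations fixing the base octad: it is
elementary abelian and contains its centraliser.
-/

set_option autoImplicit false
set_option linter.unusedSectionVars false
set_option maxRecDepth 20000

namespace CfsgLib.J4Type.Ten

open scoped Pointwise
open CfsgLib.Golay (pt idx toList genOK comp baseOctad octH)

universe u

variable {G : Type u} [Group G] [Finite G] {z : G} {V : Subgroup G}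

/-- What is used about `V` besides its coordinates. -/
structure Loc (z : G) (V : Subgroup G) extends Co z V where
  cent : ∀ t ∈ V, t ≠ 1 → ¬ IsConj z t → Subgroup.centralizer ({t} : Set G) ≤ Subgroup.normalizer (V : Set G)

namespace Co

variable (C : Co z V)

theorem enc_zero : C.enc 0 = 1 := by
  have h := C.enc_xor 0 0
  rw [show Nat.xor 0 0 = 0 from rfl] at h
  exact (left_eq_mul.1 h)

theorem enc_inv (v : ℕ) : (C.enc v)⁻¹ = C.enc v := inv_eq_of_mul_eq_one_right (C.enc_sq v)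

theorem enc_comm (v w : ℕ) : C.enc v * C.enc w = C.enc w * C.enc v := by
  rw [← C.enc_xor, ← C.enc_xor, show Nat.xor v w = Nat.xor w v from Nat.xor_comm v w]

theorem eq_one_of_enc {v : ℕ} (hv : v < 2048) (h : C.enc v = 1) : v = 0 :=
  C.enc_inj _ _ hv (by norm_num) (h.trans C.enc_zero.symm)

theorem form_mul {v w : ℕ} (hw : w < 2048) (σ τ : ↥Cfsg.M24) :
    C.enc v * C.ψ σ * (C.enc w * C.ψ τ) = C.enc (Nat.xor v (act σ w)) * C.ψ (σ * τ) := by
  rw [C.enc_xor, ← C.conj σ w hw, map_mul]; group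

theorem form_inj {v w : ℕ} (hv : v < 2048) (hw : w < 2048) {σ τ : ↥Cfsg.M24}
    (h : C.enc v * C.ψ σ = C.enc w * C.ψ τ) : v = w ∧ σ = τ := by
  have h' : C.ψ (σ * τ⁻¹) = (C.enc v)⁻¹ * C.enc w := by
    rw [map_mul, map_inv, ← mul_left_inj (C.ψ τ), inv_mul_cancel_right, mul_assoc, ← h, inv_mul_cancel_left]
  have hm : C.ψ (σ * τ⁻¹) ∈ V := h' ▸ V.mul_mem (V.inv_mem (C.enc_mem _)) (C.enc_mem _)
  have e := mul_inv_eq_one.1 (C.ψ_disjoint _ hm)
  subst e
  exact ⟨C.enc_inj _ _ hv hw (mul_right_cancel h), rfl⟩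

include C in
theorem act_mul (σ τ : ↥Cfsg.M24) {v : ℕ} (hv : v < 2048) : act (σ * τ) v = act σ (act τ v) := by
  refine C.enc_inj _ _ (act_lt _ _) (act_lt _ _) ?_
  rw [← C.conj _ _ hv, ← C.conj _ _ (act_lt _ _), ← C.conj _ _ hv, map_mul]; group

include C in
theorem act_one {v : ℕ} (hv : v < 2048) : act 1 v = v := by
  refine C.enc_inj _ _ (act_lt _ _) hv ?_
  rw [← C.conj _ _ hv, map_one]; group

include C in
theorem act_inj (σ : ↥Cfsg.M24) {v w : ℕ} (hv : v < 2048) (hw : w < 2048) (h : act σ v = act σ w) : v = w := by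
  refine C.enc_inj _ _ hv hw ?_
  have e := congrArg C.enc h
  rw [← C.conj _ _ hv, ← C.conj _ _ hw] at e
  exact mul_left_cancel (mul_right_cancel e)

include C in
theorem fix_point {σ : ↥Cfsg.M24} (h : ∀ w, w < 64 → act σ w = w) {P : Cfsg.GolayPt} (hP : P ∈ baseOctad) :
    (σ : Equiv.Perm Cfsg.GolayPt) P = P := by
  classical
  have h7 : 1 < (baseOctad.erase P).card := by
    rw [Finset.card_erase_of_mem hP, CfsgLib.Golay.card_of_mem_octads CfsgLib.Golay.baseOctad_mem]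
    norm_num
  obtain ⟨Q, hQ, R, hR, hQR⟩ := Finset.one_lt_card.1 h7
  rw [Finset.mem_erase] at hQ hR
  have key : ∀ Q, Q ≠ P → Q ∈ baseOctad →
      (σ : Equiv.Perm Cfsg.GolayPt) P = P ∨ (σ : Equiv.Perm Cfsg.GolayPt) P = Q := by
    intro Q hQP hQ
    have e := C.act_pc σ P Q
    rw [h _ ((mask_pairs hQP.symm).2 ⟨hP, hQ⟩)] at e
    have hne : ∀ {a b : Cfsg.GolayPt}, a ≠ b → (idx a).val ≠ (idx b).val := fun hab e' =>
      hab (CfsgLib.Golay.idx_injective (Fin.ext e'))
    have := C.pair_inj _ _ _ _ (idx P).isLt (idx Q).isLt (idx _).isLt (idx _).isLt (hne hQP.symm)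
      (hne ((σ : Equiv.Perm Cfsg.GolayPt).injective.ne hQP.symm)) e
    exact this.imp (fun e => CfsgLib.Golay.idx_injective (Fin.ext e.1))
      fun e => CfsgLib.Golay.idx_injective (Fin.ext e.1)
  rcases key Q hQ.1 hQ.2 with e | e
  · exact e
  rcases key R hR.1 hR.2 with e' | e'
  · exact e'
  · exact absurd (e.symm.trans e') hQR

include C in
theorem eq_tl_of_fix {σ : ↥Cfsg.M24} (h : ∀ w, w < 64 → act σ w = w) : ∃ t, t < 16 ∧ σ = tl t :=
  exists_tl fun _ hP => C.fix_point h hP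

theorem low_fix {t w : ℕ} (ht : t < 16) (hw : w < 64) : act (tl t) w = w := by
  rw [act_tl ht, tAct_fix ht (by omega)]
  exact Or.inr (Or.inl hw)

/-- The element of the subgroup of order `2^10` with the given code. -/
noncomputable def aEl (c : ℕ) : G := C.enc (c % 64) * C.ψ (tl (c / 64))

theorem aEl_xor {c d : ℕ} (hc : c < 1024) (hd : d < 1024) : C.aEl (Nat.xor c d) = C.aEl c * C.aEl d := by
  have e1 : Nat.xor c d % 64 = Nat.xor (c % 64) (d % 64) := Nat.xor_mod_two_pow (n := 6)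
  have e2 : Nat.xor c d / 64 = Nat.xor (c / 64) (d / 64) := Nat.xor_div_two_pow (n := 6)
  rw [aEl, aEl, aEl, e1, e2, C.form_mul (by omega), low_fix (by omega) (by omega),
    tl_mul (by omega) (by omega)]

theorem aEl_zero : C.aEl 0 = 1 := by
  rw [aEl]
  simp [enc_zero, tl_zero]

theorem aEl_low {w : ℕ} (hw : w < 64) : C.aEl w = C.enc w := by
  rw [aEl, Nat.mod_eq_of_lt hw, Nat.div_eq_of_lt hw, tl_zero, map_one, mul_one]

theorem aEl_high {t : ℕ} (ht : t < 16) : C.aEl (64 * t) = C.ψ (tl t) := by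
  rw [aEl, Nat.mul_mod_right, Nat.mul_div_cancel_left _ (by norm_num), enc_zero, one_mul]

/-- The subgroup of order `2^10`. -/
noncomputable def A₀ : Subgroup G where
  carrier := {g | ∃ c, c < 1024 ∧ C.aEl c = g}
  one_mem' := ⟨0, by norm_num, C.aEl_zero⟩
  mul_mem' := by
    rintro _ _ ⟨c, hc, rfl⟩ ⟨d, hd, rfl⟩
    exact ⟨_, Nat.xor_lt_two_pow (n := 10) hc hd, C.aEl_xor hc hd⟩
  inv_mem' := by
    rintro _ ⟨c, hc, rfl⟩
    refine ⟨c, hc, (inv_eq_of_mul_eq_one_right ?_).symm⟩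
    rw [← C.aEl_xor hc hc, show Nat.xor c c = 0 from Nat.xor_self c, C.aEl_zero]

theorem mem_A₀ {g : G} : g ∈ C.A₀ ↔ ∃ c, c < 1024 ∧ C.aEl c = g := Iff.rfl

theorem aEl_inj {c d : ℕ} (hc : c < 1024) (hd : d < 1024) (h : C.aEl c = C.aEl d) : c = d := by
  obtain ⟨h1, h2⟩ := C.form_inj (by omega) (by omega) h
  have := tl_inj (by omega) (by omega) h2
  omega

theorem card_A₀ : Nat.card C.A₀ = 1024 := by
  let f : Fin 1024 → C.A₀ := fun i => ⟨C.aEl i.val, i.val, i.isLt, rfl⟩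
  have hf : Function.Bijective f :=
    ⟨fun i j e => Fin.ext (C.aEl_inj i.isLt j.isLt (congrArg Subtype.val e)),
      fun ⟨g, c, hc, e⟩ => ⟨⟨c, hc⟩, Subtype.ext e⟩⟩
  rw [← Nat.card_eq_of_bijective f hf, Nat.card_fin]

theorem A₀_comm {a b : G} (ha : a ∈ C.A₀) (hb : b ∈ C.A₀) : a * b = b * a := by
  obtain ⟨c, hc, rfl⟩ := ha
  obtain ⟨d, hd, rfl⟩ := hb
  rw [← C.aEl_xor hc hd, ← C.aEl_xor hd hc, show Nat.xor c d = Nat.xor d c from Nat.xor_comm c d]

theorem A₀_elementary : Cfsg.IsElementaryAbelian 2 C.A₀ :=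
  ⟨⟨⟨fun a b => Subtype.ext (C.A₀_comm a.2 b.2)⟩⟩, fun a ha => by
    obtain ⟨c, hc, rfl⟩ := ha
    rw [pow_two, ← C.aEl_xor hc hc, show Nat.xor c c = 0 from Nat.xor_self c, C.aEl_zero]⟩

end Co

namespace Loc

variable (L : Loc z V)

/-- The centraliser of a non-trivial element of `V` outside the class of `z` normalises `V`. -/
theorem cent_pc {a b : ℕ} (ha : a < 24) (hb : b < 24) (hab : a ≠ b) :
    Subgroup.centralizer ({L.enc (pc a b)} : Set G) ≤ Subgroup.normalizer (V : Set G) :=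
  L.cent _ (L.enc_mem _) (L.pair_nc a b ha hb hab).1 (L.pair_nc a b ha hb hab).2

theorem pc_one : pc 0 23 = 1 := by decide

theorem self_cent : Subgroup.centralizer (L.A₀ : Set G) = L.A₀ := by
  refine le_antisymm (fun x hx => ?_) fun a ha => Subgroup.mem_centralizer_iff.2 fun b hb => L.A₀_comm hb ha
  have hcomm : ∀ c, c < 1024 → L.aEl c * x = x * L.aEl c := fun c hc =>
    Subgroup.mem_centralizer_iff.1 hx _ ⟨c, hc, rfl⟩
  have hxN : x ∈ Subgroup.normalizer (V : Set G) := by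
    refine L.cent_pc (a := 0) (b := 23) (by norm_num) (by norm_num) (by norm_num)
      (Subgroup.mem_centralizer_singleton_iff.2 ?_)
    rw [pc_one, ← L.aEl_low (by norm_num)]
    exact (hcomm 1 (by norm_num)).symm
  obtain ⟨σ, v, hv, rfl⟩ := L.split x hxN
  have hfix : ∀ w, w < 64 → act σ w = w := by
    intro w hw
    have h := hcomm w (by omega)
    rw [L.aEl_low hw] at h
    have h' : L.enc v * L.ψ σ * (L.enc w * L.ψ 1) = L.enc w * L.ψ 1 * (L.enc v * L.ψ σ) := by
      rw [map_one, mul_one, h]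
    rw [L.form_mul (by omega), L.form_mul hv] at h'
    have e := (L.form_inj (Nat.xor_lt_two_pow (n := 11) hv (act_lt _ _))
      (Nat.xor_lt_two_pow (n := 11) (by omega) (act_lt _ _)) h').1
    rw [L.act_one hv] at e
    have e' : v ^^^ act σ w = v ^^^ w := e.trans (Nat.xor_comm w v)
    exact Nat.xor_right_injective e'
  obtain ⟨t, ht, rfl⟩ := L.eq_tl_of_fix hfix
  have hv' : ∀ s, s < 16 → v / 64 = 0 ∨ v / 64 = s ∨ s = 0 := by
    intro s hs
    have h := hcomm (64 * s) (by omega)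
    rw [L.aEl_high hs] at h
    have h' : L.enc 0 * L.ψ (tl s) * (L.enc v * L.ψ (tl t)) =
        L.enc v * L.ψ (tl t) * (L.enc 0 * L.ψ (tl s)) := by rw [L.enc_zero, one_mul, h]
    rw [L.form_mul hv, L.form_mul (by norm_num), act_zero] at h'
    have e := (L.form_inj (Nat.xor_lt_two_pow (n := 11) (by norm_num) (act_lt _ _))
      (Nat.xor_lt_two_pow (n := 11) hv (by norm_num)) h').1
    rw [Nat.zero_xor, Nat.xor_zero, act_tl hs, tAct_fix hs hv] at e
    omega
  have h1 := hv' 1 (by norm_num)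
  have h2 := hv' 2 (by norm_num)
  refine ⟨v + 64 * t, by omega, ?_⟩
  show L.enc ((v + 64 * t) % 64) * L.ψ (tl ((v + 64 * t) / 64)) = _
  rw [Nat.add_mul_mod_self_left, Nat.add_mul_div_left _ _ (by norm_num), Nat.mod_eq_of_lt (by omega),
    Nat.div_eq_of_lt (by omega), Nat.zero_add]

end Loc

end CfsgLib.J4Type.Ten
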