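import Cfsg.Agent.Lib.J4Type.Ten.Fusion
import Cfsg.Agent.Lib.J4Type.Assemble
import Cfsg.Agent.Lib.J4Type.InvolConj
import Cfsg.Agent.Lib.J4Type.FusionLocal
import Cfsg.Agent.Lib.J4Type.CentSplit

/-!
In Janko-four type an element of `O_2(C(z))` outside the subgroup of order `2^11` is an involution outside
the class of `z` centralising more than `64` elements of it; with this the hypotheses on the subgroup of
order `2^11` used for the subgroups of order `2^10` hold.
-/

set_option autoImplicit false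
set_option linter.unusedSectionVars false
set_option maxRecDepth 20000

namespace CfsgLib.J4Type

universe u

theorem witness_codes : appW [2, 0, 7, 2, 3] 4 = 1018 ∧ appW (rWord 14) 1018 = 1018 ∧
    VCode.isNc 2 true 4 = true ∧ appW (rWord 14) 64 ≠ 64 := by
  decide +kernel

variable {G : Type u} [Group G] [Finite G] {z : G} {P : Subgroup G}

namespace Ctx

variable (X : Ctx z P)

theorem exists_witness (hmoved : ∃ m ∈ Subgroup.normalizer (X.Vg : Set G), m * z * m⁻¹ ≠ z) :
    ∃ e ∈ Subgroup.normalizer (X.Vg : Set G), e ∉ X.Vg ∧ e * e = 1 ∧ ¬ IsConj z e ∧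
      64 < Nat.card ↥(X.Vg ⊓ Subgroup.centralizer ({e} : Set G)) := by
  classical
  have hS := X.model.stabFacts
  obtain ⟨ec, D, hlow⟩ := exists_vact_low X (fun a ha => X.VV_sq hS ha) (X.card_normalizer hS)
    X.exists_norm_conj_z hmoved
  obtain ⟨hc1, hc2, hnc4, hc4⟩ := witness_codes
  -- an involution of `Wc` outside the class
  obtain ⟨c₄, hc₄W, hc₄e⟩ := (D.low_iff (show 4 < 2048 by norm_num)).2 (show 4 < 128 by norm_num)
  let a : QQ z := ⟨c₄, X.Wc_le hc₄W⟩
  obtain ⟨v, hv, hev, hcode⟩ := hlow a hc₄W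
  have hv4 : v = 4 := D.enc_inj v 4 (by omega) (by norm_num) (hev.trans hc₄e)
  rw [hv4] at hcode
  have ha2 : a * a = 1 := Subtype.ext (Lifts.Wc_sq hc₄W)
  have hanc : ¬ IsConj z ((a : CC z) : G) := by
    show ¬ IsConj z (c₄ : G)
    rw [hc₄e]
    exact ((D.ec_sel.2 4 (by norm_num)).1 hnc4).2
  -- its conjugate by a word
  obtain ⟨c₀, hc₀⟩ := QuotientGroup.mk_surjective (X.model.val [2, 0, 7, 2, 3])
  obtain ⟨e, he⟩ : ∃ e : QQ z, e = cjQ c₀ a := ⟨_, rfl⟩
  have hecode : X.model.code (pr e) = 1018 := by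
    rw [he, ← X.rho_pr', hc₀, X.model.code_val, hcode]
    exact hc1
  have he2 : e * e = 1 := by rw [he, ← map_mul, ha2, map_one]
  have hnc : ¬ IsConj z ((e : CC z) : G) := by
    rw [he, cjQ_val]
    show ¬ IsConj z ((c₀ : G) * ((a : CC z) : G) * (c₀ : G)⁻¹)
    rw [CfsgLib.FischerTwoFour.Cocode.isConj_conj_iff]
    exact hanc
  have heV : ((e : CC z) : G) ∉ X.Vg := by
    rintro ⟨v, hv, ev⟩
    have hve : v = (e : CC z) := Subtype.ext ev
    subst hve
    have h := X.mem_Wc.1 (X.mem_Wc_of_mem_VV hv e.2)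
    rw [hecode] at h
    omega
  have heN : ((e : CC z) : G) ∈ Subgroup.normalizer (X.Vg : Set G) := by
    refine Subgroup.mem_normalizer_fintype fun b hb => ?_
    obtain ⟨v, hv, rfl⟩ := hb
    refine ⟨(e : CC z) * v * (e : CC z)⁻¹, ?_, rfl⟩
    have hW : ((e * cjQ v e⁻¹ : QQ z) : CC z) ∈ X.Wc := by
      rw [X.mem_Wc, pr_mul, ← X.rho_pr', X.pr_inv', X.model.code_add]
      by_cases hr : (QuotientGroup.mk v : CC z ⧸ QQ z) = 1
      · rw [hr, (X.RR).one_apply, show Nat.xor _ _ = 0 from Nat.xor_self _]; norm_num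
      · have h := (X.model.rSub_elem (X.mem_VV_iff.1 hv).1 hr).2.2 (pr e)
        rw [X.model.code_add] at h
        show X.model.code (pr e) ^^^ X.model.code (X.RR.ρ (QuotientGroup.mk v) (pr e)) < 64
        rw [Nat.xor_comm]; exact h
    have h := X.VV.mul_mem (X.Wc_le_VV hW) hv
    rwa [Subgroup.coe_mul, cjQ_val, Subgroup.coe_inv, show (e : CC z) * (v * (e : CC z)⁻¹ * v⁻¹) * v =
      (e : CC z) * v * (e : CC z)⁻¹ by group] at h
  -- conjugation by `e` moves `Wc` by at most `z`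
  have hdich : ∀ w : CC z, w ∈ X.Wc → (e : CC z) * w = w * (e : CC z) ∨
      (e : CC z) * w = w * (e : CC z) * Ctx.zc z := by
    intro w hw
    have hpr : pr ((⟨w, X.Wc_le hw⟩ : QQ z) * e) = pr (e * ⟨w, X.Wc_le hw⟩) := by
      rw [pr_mul, pr_mul, add_comm]
    rcases X.pr_cases hpr with h | h
    · exact Or.inl (congrArg Subtype.val h)
    · exact Or.inr (congrArg Subtype.val h)
  -- an element of `VV` outside `Wc` fixing the code of `e`
  obtain ⟨L⟩ := exists_lifts X
  have hle : X.model.rSub ≤ X.VV.map (QuotientGroup.mk' (QQ z)) := (Subgroup.closure_le _).2 (by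
    rintro _ ⟨i, rfl⟩
    exact ⟨L.ρ i, L.rho_mem_VV i, L.ρ_mk i⟩)
  obtain ⟨y, hy, hyr⟩ := Subgroup.mem_map.1
    (hle (X.model.mem_rSub.2 ⟨14, by norm_num, rfl⟩ : X.model.val (rWord 14) ∈ X.model.rSub))
  have hyr' : (QuotientGroup.mk y : CC z ⧸ QQ z) = X.model.val (rWord 14) := hyr
  have hyQ : y ∉ QQ z := fun h => by
    rw [(QuotientGroup.eq_one_iff y).2 h] at hyr'
    obtain ⟨v, hv⟩ := X.model.code_surj 64 (by norm_num)
    have h' := X.model.code_val (rWord 14) v
    rw [← hyr', show (ext13_of X.hyp).rep.ρ 1 v = v from (X.RR).one_apply v, hv] at h'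
    exact hc4 h'.symm
  have hye : cjQ y e = e ∨ cjQ y e = e * X.zQ := by
    refine X.pr_cases ?_
    rw [← X.rho_pr', hyr']
    refine X.model.code_inj _ _ ?_
    rw [X.model.code_val, hecode]
    exact hc2.symm
  -- the part of `Wc` commuting with `e`
  have hzz : Ctx.zc z * Ctx.zc z = (1 : CC z) := Ctx.zc_sq X
  let S : Set G := {x | ∃ w ∈ X.Wc, (e : CC z) * w = w * (e : CC z) ∧ (w : G) = x}
  set T : Subgroup G := X.Vg ⊓ Subgroup.centralizer ({((e : CC z) : G)} : Set G) with hT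
  have hST : S ⊆ T := by
    rintro _ ⟨w, hw, hc, rfl⟩
    exact ⟨⟨w, X.Wc_le_VV hw, rfl⟩,
      Subgroup.mem_centralizer_singleton_iff.2 (congrArg Subtype.val hc.symm)⟩
  have himg : ((fun w : CC z => (w : G)) '' (X.Wc : Set (CC z))).ncard = 128 := by
    rw [Set.ncard_image_of_injective _ Subtype.val_injective, ← Nat.card_coe_set_eq]
    exact X.card_Wc
  have hgt : 64 < Nat.card T := by
    rw [← SetLike.coe_sort_coe, Nat.card_coe_set_eq]
    by_cases hall : ∀ w ∈ X.Wc, (e : CC z) * w = w * (e : CC z)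
    · have hsub : (fun w : CC z => (w : G)) '' (X.Wc : Set (CC z)) ⊆ T := by
        rintro _ ⟨w, hw, rfl⟩
        exact hST ⟨w, hw, hall w hw, rfl⟩
      have h := Set.ncard_le_ncard hsub (Set.toFinite _)
      omega
    · push Not at hall
      obtain ⟨w₀, hw₀, hne₀⟩ := hall
      have h₀ := (hdich w₀ hw₀).resolve_left hne₀
      have hprod : ∀ w w' : CC z, (e : CC z) * w = w * (e : CC z) * Ctx.zc z →
          (e : CC z) * w' = w' * (e : CC z) * Ctx.zc z →
          (e : CC z) * (w * w') = w * w' * (e : CC z) := by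
        intro w w' h h'
        calc (e : CC z) * (w * w') = (e : CC z) * w * w' := by group
          _ = w * (e : CC z) * (Ctx.zc z * w') := by rw [h]; group
          _ = w * (e : CC z) * (w' * Ctx.zc z) := by rw [(Ctx.zc_central w')]
          _ = w * ((e : CC z) * w') * Ctx.zc z := by group
          _ = w * w' * (e : CC z) * (Ctx.zc z * Ctx.zc z) := by rw [h']; group
          _ = _ := by rw [hzz, mul_one]
      have hsub : (fun w : CC z => (w : G)) '' (X.Wc : Set (CC z)) ⊆ S ∪ (fun x => x * (w₀ : G)) '' S := by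
        rintro _ ⟨w, hw, rfl⟩
        rcases hdich w hw with h | h
        · exact Or.inl ⟨w, hw, h, rfl⟩
        · refine Or.inr ⟨_, ⟨w * w₀, X.Wc.mul_mem hw hw₀, hprod w w₀ h h₀, rfl⟩, ?_⟩
          show (w : G) * (w₀ : G) * (w₀ : G) = w
          rw [mul_assoc, show (w₀ : G) * w₀ = 1 from congrArg Subtype.val (Lifts.Wc_sq hw₀), mul_one]
      have h := ((Set.ncard_le_ncard hsub (Set.toFinite _)).trans (Set.ncard_union_le _ _)).trans
        (Nat.add_le_add_left Set.ncard_image_le _)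
      rw [himg] at h
      obtain ⟨y', hy', hy'Q, hy'e⟩ : ∃ y' ∈ X.VV, y' ∉ QQ z ∧ (e : CC z) * y' = y' * (e : CC z) := by
        rcases hye with h | h
        · refine ⟨y, hy, hyQ, ?_⟩
          have h' : y * (e : CC z) * y⁻¹ = e := by rw [← cjQ_val, h]
          exact (mul_inv_eq_iff_eq_mul.1 h').symm
        · refine ⟨y * w₀, X.VV.mul_mem hy (X.Wc_le_VV hw₀), fun hq => hyQ ?_, ?_⟩
          · have h2 := (QQ z).mul_mem hq ((QQ z).inv_mem (X.Wc_le hw₀))
            rwa [mul_inv_cancel_right] at h2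
          · refine hprod y w₀ ?_ h₀
            have h' : y * (e : CC z) * y⁻¹ = (e : CC z) * Ctx.zc z := by rw [← cjQ_val, h]; rfl
            rw [mul_inv_eq_iff_eq_mul] at h'
            calc (e : CC z) * y = (e : CC z) * y * (Ctx.zc z * Ctx.zc z) := by rw [hzz, mul_one]
              _ = (e : CC z) * (y * Ctx.zc z) * Ctx.zc z := by group
              _ = (e : CC z) * (Ctx.zc z * y) * Ctx.zc z := by rw [(Ctx.zc_central y)]
              _ = (e : CC z) * Ctx.zc z * y * Ctx.zc z := by group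
              _ = y * (e : CC z) * Ctx.zc z := by rw [← h']
      have hyT : (y' : G) ∈ T :=
        ⟨⟨y', hy', rfl⟩, Subgroup.mem_centralizer_singleton_iff.2 (congrArg Subtype.val hy'e.symm)⟩
      have hyS : (y' : G) ∉ S := by
        rintro ⟨w, hw, -, hwy⟩
        exact hy'Q (Subtype.ext hwy ▸ X.Wc_le hw)
      have hlt := Set.ncard_lt_ncard (Set.ssubset_iff_of_subset hST |>.2 ⟨_, hyT, hyS⟩) (Set.toFinite _)
      omega
  exact ⟨_, heN, heV, congrArg (fun t : QQ z => ((t : CC z) : G)) he2, hnc, hgt⟩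

/-- Everything used about `Vg` for the subgroups of order `2^10`. -/
theorem exists_pack (hmoved : ∃ m ∈ Subgroup.normalizer (X.Vg : Set G), m * z * m⁻¹ ≠ z) :
    Nonempty (Ten.Pack z X.Vg) := by
  classical
  have hp := X.vPackage hmoved
  obtain ⟨L⟩ := Ten.exists_lab hp.vframe
  obtain ⟨K, hK, hKV, -, hKM⟩ := hp.split
  obtain ⟨C⟩ := L.exists_co K hK hKV hKM
  refine ⟨{ toCo := C, cent := fun t ht h1 hn => hp.cent_other t ⟨ht, h1, hn⟩, two_to_norm := fun A hA => ?_
            inv_conj := fun t ht => X.exists_invol_conj_Vg hmoved ht, witness := X.exists_witness hmoved }⟩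
  have : Fact (Nat.Prime 2) := ⟨Nat.prime_two⟩
  obtain ⟨T, hT⟩ := hA.exists_le_sylow
  obtain ⟨V, ⟨hVT, hVe, hVc⟩, huniq⟩ := X.vg_unique' T
  obtain ⟨g, hg⟩ := X.exists_conj_eq_Vg hVe hVc
  refine ⟨g, fun a ha => ?_⟩
  have haV : a ∈ Subgroup.normalizer (V : Set G) := by
    refine Subgroup.mem_normalizer_iff_map_conj_eq.2 (huniq _ ⟨?_, elementary_map hVe _, ?_⟩)
    · rintro _ ⟨v, hv, rfl⟩
      exact mul_mem (mul_mem (hT ha) (hVT hv)) (inv_mem (hT ha))
    · rw [Subgroup.card_map_of_injective (MulEquiv.injective _), hVc]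
  rw [← hg]
  exact Subgroup.le_normalizer_map _ ⟨a, haV, rfl⟩

end Ctx

end CfsgLib.J4Type
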